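import Mathlib

/-!
Orders of GL, SL, PGL, PSL over finite fields.
-/

set_option autoImplicit false

namespace Cfsg.Agent.Lib.Classical

open Matrix
open scoped MatrixGroups

variable {F : Type*} [Field F]

/-- The determinant is trivial exactly on the image of `SL`. -/
theorem range_toGL_eq_ker_det {n : Type*} [Fintype n] [DecidableEq n] :
    (SpecialLinearGroup.toGL : SpecialLinearGroup n F →* GL n F).range =
      (GeneralLinearGroup.det : GL n F →* Fˣ).ker := by
  ext g
  constructor
  · rintro ⟨a, rfl⟩
    simp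
  · intro hg
    refine ⟨⟨(g : Matrix n n F), ?_⟩, Units.ext rfl⟩
    have := congrArg Units.val (MonoidHom.mem_ker.mp hg)
    simpa using this

theorem card_SL_eq_card_ker_det {n : Type*} [Fintype n] [DecidableEq n] :
    Nat.card (SpecialLinearGroup n F) =
      Nat.card (GeneralLinearGroup.det : GL n F →* Fˣ).ker := by
  rw [← range_toGL_eq_ker_det]
  exact Nat.card_congr (MonoidHom.ofInjective SpecialLinearGroup.toGL_injective).toEquiv

/-- `|GL_n| = (q - 1) |SL_n|`. -/
theorem card_units_mul_card_SL {n : Type*} [Fintype n] [DecidableEq n] [Nonempty n] :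
    Nat.card Fˣ * Nat.card (SpecialLinearGroup n F) = Nat.card (GL n F) := by
  rw [card_SL_eq_card_ker_det, ← (GeneralLinearGroup.det : GL n F →* Fˣ).ker.index_mul_card,
    Subgroup.index_ker, MonoidHom.range_eq_top.mpr GeneralLinearGroup.det_surjective,
    Subgroup.card_top]

section Finite

variable [Fintype F]

theorem natCard_units : Nat.card Fˣ = Fintype.card F - 1 := by
  rw [Nat.card_units, Nat.card_eq_fintype_card]

theorem card_SL_mul {n : ℕ} (hn : 1 ≤ n) :
    (Fintype.card F - 1) * Nat.card (SpecialLinearGroup (Fin n) F) =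
      ∏ i : Fin n, (Fintype.card F ^ n - Fintype.card F ^ (i : ℕ)) := by
  haveI : Nonempty (Fin n) := ⟨⟨0, hn⟩⟩
  rw [← Matrix.card_GL_field, ← natCard_units, card_units_mul_card_SL]

/-- The center of `SL_n` over a finite field has order `gcd(n, q-1)`. -/
theorem card_center_SL {n : Type*} [Fintype n] [DecidableEq n] [Nonempty n] :
    Nat.card (Subgroup.center (SpecialLinearGroup n F)) =
      Nat.gcd (Fintype.card n) (Fintype.card F - 1) := by
  rw [Nat.card_congr (SpecialLinearGroup.center_equiv_rootsOfUnity' (Classical.arbitrary n)).toEquiv,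
    ← natCard_units, Nat.gcd_comm, ← IsCyclic.card_powMonoidHom_ker]
  refine Nat.card_congr (Equiv.subtypeEquivRight fun x => ?_)
  rw [mem_rootsOfUnity, MonoidHom.mem_ker, powMonoidHom_apply]

theorem card_center_mul_card_PSL {n : Type*} [Fintype n] [DecidableEq n] :
    Nat.card (Subgroup.center (SpecialLinearGroup n F)) *
      Nat.card (ProjectiveSpecialLinearGroup n F) = Nat.card (SpecialLinearGroup n F) := by
  rw [mul_comm]
  exact (Subgroup.card_eq_card_quotient_mul_card_subgroup _).symm

theorem card_PSL_mul {n : ℕ} (hn : 1 ≤ n) :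
    Nat.gcd n (Fintype.card F - 1) *
      ((Fintype.card F - 1) * Nat.card (ProjectiveSpecialLinearGroup (Fin n) F)) =
      ∏ i : Fin n, (Fintype.card F ^ n - Fintype.card F ^ (i : ℕ)) := by
  haveI : Nonempty (Fin n) := ⟨⟨0, hn⟩⟩
  rw [← card_SL_mul hn, ← card_center_mul_card_PSL, card_center_SL, Fintype.card_fin]
  ring

/-- `|PGL_n| = |SL_n|`. -/
theorem card_PGL {n : Type*} [Fintype n] [DecidableEq n] :
    Nat.card (Matrix.ProjGenLinGroup n F) = Nat.card (SpecialLinearGroup n F) := by
  rcases isEmpty_or_nonempty n with hn | hn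
  · haveI : Subsingleton (GL n F) := ⟨fun a b => Units.ext (Subsingleton.elim _ _)⟩
    haveI : Subsingleton (Matrix.ProjGenLinGroup n F) :=
      Matrix.ProjGenLinGroup.mk_surjective.subsingleton
    haveI : Subsingleton (SpecialLinearGroup n F) := SpecialLinearGroup.subsingleton_of_subsingleton
    rw [Nat.card_of_subsingleton (1 : Matrix.ProjGenLinGroup n F),
      Nat.card_of_subsingleton (1 : SpecialLinearGroup n F)]
  · have h1 : Nat.card (Subgroup.center (GL n F)) = Nat.card Fˣ := by
      rw [GeneralLinearGroup.center_eq_range_scalar]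
      refine (Nat.card_congr (MonoidHom.ofInjective ?_).toEquiv).symm
      intro a b hab
      have := congrArg (fun g : GL n F =>
        (g : Matrix n n F) (Classical.arbitrary n) (Classical.arbitrary n)) hab
      exact Units.ext (by simpa using this)
    have h2 : Nat.card (GL n F) =
        Nat.card (Matrix.ProjGenLinGroup n F) * Nat.card (Subgroup.center (GL n F)) :=
      Subgroup.card_eq_card_quotient_mul_card_subgroup _
    rw [h1, ← card_units_mul_card_SL, mul_comm] at h2
    have hpos : 0 < Nat.card Fˣ := Nat.card_pos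
    exact (Nat.eq_of_mul_eq_mul_right hpos (by rw [← h2])).symm

private theorem prod_pow_sub_aux (q n : ℕ) :
    ∀ k ≤ n, ∏ i ∈ Finset.range k, (q ^ n - q ^ i) =
      q ^ (∑ i ∈ Finset.range k, i) * ∏ i ∈ Finset.range k, (q ^ (n - i) - 1) := by
  intro k hk
  rw [← Finset.prod_pow_eq_pow_sum, ← Finset.prod_mul_distrib]
  refine Finset.prod_congr rfl fun i hi => ?_
  rw [Nat.mul_sub, mul_one, ← pow_add, Nat.add_sub_cancel' (by
    have := Finset.mem_range.mp hi; omega)]

/-- `∏_{i<n} (q^n - q^i) = q^(n(n-1)/2) ∏_{i<n} (q^(i+1) - 1)`. -/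
theorem prod_pow_sub_pow (q n : ℕ) :
    ∏ i : Fin n, (q ^ n - q ^ (i : ℕ)) =
      q ^ (n * (n - 1) / 2) * ∏ i ∈ Finset.range n, (q ^ (i + 1) - 1) := by
  rw [Fin.prod_univ_eq_prod_range (fun i => q ^ n - q ^ i), prod_pow_sub_aux q n n le_rfl,
    Finset.sum_range_id]
  congr 1
  rw [← Finset.prod_range_reflect]
  refine Finset.prod_congr rfl fun i hi => ?_
  have := Finset.mem_range.mp hi
  congr 2
  omega

/-- Closed formula for the order of `GL_n`. -/
theorem card_GL_formula (n : ℕ) :
    Nat.card (GL (Fin n) F) = Fintype.card F ^ (n * (n - 1) / 2) *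
      ∏ i ∈ Finset.range n, (Fintype.card F ^ (i + 1) - 1) := by
  rw [Matrix.card_GL_field, prod_pow_sub_pow]

/-- Closed formula for the order of `SL_n`. -/
theorem card_SL_formula (n : ℕ) :
    Nat.card (SpecialLinearGroup (Fin n) F) = Fintype.card F ^ (n * (n - 1) / 2) *
      ∏ i ∈ Finset.range (n - 1), (Fintype.card F ^ (i + 2) - 1) := by
  rcases n with _ | n
  · simp
  · have hq : 0 < Fintype.card F - 1 := by
      have := Fintype.one_lt_card (α := F); omega
    have h := card_SL_mul (F := F) (n := n + 1) (by omega)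
    rw [prod_pow_sub_pow, Finset.prod_range_succ'] at h
    apply Nat.eq_of_mul_eq_mul_left hq
    rw [h, Nat.add_sub_cancel]
    simp only [zero_add, pow_one]
    ring

theorem card_GL2 : Nat.card (GL (Fin 2) F) =
    Fintype.card F * (Fintype.card F - 1) * (Fintype.card F ^ 2 - 1) := by
  rw [card_GL_formula]
  simp [Finset.prod_range_succ, mul_assoc]

theorem card_SL2 : Nat.card (SpecialLinearGroup (Fin 2) F) =
    Fintype.card F * (Fintype.card F ^ 2 - 1) := by
  rw [card_SL_formula]; simp

theorem card_PSL2_mul : Nat.gcd 2 (Fintype.card F - 1) *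
    Nat.card (ProjectiveSpecialLinearGroup (Fin 2) F) =
    Fintype.card F * (Fintype.card F ^ 2 - 1) := by
  rw [← card_SL2, ← card_center_mul_card_PSL, card_center_SL, Fintype.card_fin]

end Finite

end Cfsg.Agent.Lib.Classical
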