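import Mathlib
import Cfsg.Agent.Lib.Classical.LinearCard

/-!
Generation of `SL` by transvections, perfectness of `SL_n` and simplicity of `PSL_n` for `n ≥ 3`,
the derived group of `GL_n`.
-/

set_option autoImplicit false

namespace Cfsg.Agent.Lib.Classical

open Matrix
open scoped MatrixGroups commutatorElement

variable {ι : Type*} [Fintype ι] [DecidableEq ι]

theorem transvection_smul_apply {R : Type*} [CommRing R] {i j : ι} (h : i ≠ j) (b : R)
    (v : ι → R) (k : ι) :
    ((SpecialLinearGroup.transvection h b) • v) k = if k = i then v i + b * v j else v k := by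
  show (((1 : Matrix ι ι R) + Matrix.single i j b) *ᵥ v) k = _
  rw [Matrix.add_mulVec, Matrix.one_mulVec, Matrix.single_mulVec_eq]
  rcases eq_or_ne k i with rfl | hk
  · simp
  · simp [hk]

theorem SL_ext_smul {R : Type*} [CommRing R] {A B : SpecialLinearGroup ι R}
    (h : ∀ v : ι → R, A • v = B • v) : A = B := by
  apply Subtype.ext
  exact Matrix.ext_of_mulVec_single fun k => h (Pi.single k 1)

variable {F : Type*} [Field F]

theorem diag2n_smul_apply {i j : ι} (h : i ≠ j) (a : F) (ha : a ≠ 0) (v : ι → F) (k : ι) :
    ((SpecialLinearGroup.diag2n h a ha) • v) k =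
      if k = i then a * v i else if k = j then a⁻¹ * v j else v k := by
  show ((SpecialLinearGroup.diag2n h a ha).1 *ᵥ v) k = _
  rw [SpecialLinearGroup.diag2n_coe, Matrix.mulVec_diagonal]
  split_ifs <;> simp_all

theorem diag2n_eq_transvections {i j : ι} (h : i ≠ j) (a : F) (ha : a ≠ 0) :
    SpecialLinearGroup.diag2n h a ha = SpecialLinearGroup.transvection h a *
      SpecialLinearGroup.transvection h.symm (-a⁻¹) *
      SpecialLinearGroup.transvection h a *
      SpecialLinearGroup.transvection h (-1) *
      SpecialLinearGroup.transvection h.symm 1 *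
      SpecialLinearGroup.transvection h (-1) := by
  refine SL_ext_smul fun v => funext fun k => ?_
  simp only [mul_smul, diag2n_smul_apply, transvection_smul_apply]
  rcases eq_or_ne k i with rfl | hki
  · simp only [if_pos, h, h.symm, if_false]
    field_simp
    ring
  · rcases eq_or_ne k j with rfl | hkj
    · simp only [if_pos, h, h.symm, if_false]
      field_simp
      ring
    · simp [hki, hkj]

/-- The subgroup generated by all transvections. -/
def transvectionSubgroup (ι : Type*) [Fintype ι] [DecidableEq ι] (F : Type*) [Field F] :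
    Subgroup (SpecialLinearGroup ι F) :=
  Subgroup.closure {g | ∃ (i j : ι) (h : i ≠ j) (b : F), g = SpecialLinearGroup.transvection h b}

theorem transvectionSubgroup_eq_top : transvectionSubgroup ι F = ⊤ := by
  rcases subsingleton_or_nontrivial ι with hι | hι
  · exact Subsingleton.elim _ _
  refine eq_top_iff.mpr fun g _ => ?_
  have ht : ∀ (i j : ι) (h : i ≠ j) (b : F),
      SpecialLinearGroup.transvection h b ∈ transvectionSubgroup ι F :=
    fun i j h b => Subgroup.subset_closure ⟨i, j, h, b, rfl⟩
  refine SpecialLinearGroup.diagonal_transvection_induction' _ g (fun i j h c hc => ?_) ht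
    (fun _ _ => mul_mem)
  rw [diag2n_eq_transvections h c hc]
  exact mul_mem (mul_mem (mul_mem (mul_mem (mul_mem (ht _ _ _ _) (ht _ _ _ _)) (ht _ _ _ _))
    (ht _ _ _ _)) (ht _ _ _ _)) (ht _ _ _ _)

/-- A subgroup containing all transvections is everything. -/
theorem SL_eq_top_of_transvection_mem {H : Subgroup (SpecialLinearGroup ι F)}
    (h : ∀ (i j : ι) (hij : i ≠ j) (b : F), SpecialLinearGroup.transvection hij b ∈ H) :
    H = ⊤ := by
  rw [eq_top_iff, ← transvectionSubgroup_eq_top, transvectionSubgroup, Subgroup.closure_le]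
  rintro _ ⟨i, j, hij, b, rfl⟩
  exact h i j hij b

theorem commutator_transvection {R : Type*} [CommRing R] {i k j : ι} (hik : i ≠ k) (hkj : k ≠ j)
    (hij : i ≠ j) (a b : R) :
    ⁅SpecialLinearGroup.transvection hik a, SpecialLinearGroup.transvection hkj b⁆ =
      SpecialLinearGroup.transvection hij (a * b) := by
  refine SL_ext_smul fun v => funext fun l => ?_
  simp only [commutatorElement_def, SpecialLinearGroup.transvection_inv, mul_smul,
    transvection_smul_apply]
  rcases eq_or_ne l i with rfl | hli
  · simp only [if_pos, hik, hij, hij.symm, hkj.symm, hik.symm, if_false]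
    ring
  · rcases eq_or_ne l k with rfl | hlk
    · simp only [if_pos, hli, hij.symm, hkj.symm, if_false]
      ring
    · simp [hli, hlk]

theorem commutator_SL_eq_top (hι : 3 ≤ Fintype.card ι) :
    commutator (SpecialLinearGroup ι F) = ⊤ := by
  refine SL_eq_top_of_transvection_mem fun i j hij b => ?_
  obtain ⟨k, hki, hkj⟩ : ∃ k, k ≠ i ∧ k ≠ j := by
    by_contra hcon
    push_neg at hcon
    have : (Finset.univ : Finset ι) ⊆ {i, j} := fun x _ => by
      by_cases hx : x = i
      · simp [hx]
      · simp [hcon x hx]
    have := (Finset.card_le_card this).trans Finset.card_le_two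
    rw [Finset.card_univ] at this
    omega
  rw [← mul_one b, ← commutator_transvection (Ne.symm hki) hkj hij b 1]
  exact Subgroup.commutator_mem_commutator trivial trivial

theorem iSup_iwasawaT_eq_top :
    iSup (PSL.iwasawaT (F := F) (ι := ι)) = ⊤ := by
  have step : (⨆ p : Projectivization F (ι → F),
      SpecialLinearGroup.lineStab (F := F) p.submodule) =
        (⊤ : Subgroup (SpecialLinearGroup ι F)) := by
    refine SL_eq_top_of_transvection_mem fun i j hij b => ?_
    refine Subgroup.mem_iSup_of_mem
      (Projectivization.mk F _ (Pi.single_ne_zero_iff.2 (one_ne_zero (α := F)) : Pi.single i (1 : F) ≠ 0)) ?_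
    rw [Projectivization.submodule_mk]
    exact SL2Gen.transvection_mem_lineStab hij b
  have := congrArg (Subgroup.map (QuotientGroup.mk' (Subgroup.center (SpecialLinearGroup ι F)))) step
  rw [Subgroup.map_iSup, Subgroup.map_top_of_surjective _ (QuotientGroup.mk'_surjective _)] at this
  exact this

/-- The Iwasawa structure on `PSL` in every dimension. -/
noncomputable def pslIwasawa :
    MulAction.IwasawaStructure (ProjectiveSpecialLinearGroup ι F) (Projectivization F (ι → F)) where
  T := PSL.iwasawaT
  is_comm p := by
    have hSL : IsMulCommutative (SpecialLinearGroup.lineStab (F := F) p.submodule) := by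
      rw [← Projectivization.mk_rep p, Projectivization.submodule_mk]
      exact SpecialLinearGroup.lineStab_isMulCommutative_of_span p.rep p.rep_nonzero
    exact Subgroup.map_isMulCommutative _ _
  is_conj g p := by
    obtain ⟨g', rfl⟩ := QuotientGroup.mk_surjective g
    rw [Matrix.ProjectiveSpecialLinearGroup.smul_proj_mk]
    change Subgroup.map _ _ = _
    rw [PSL.smul_submodule, Matrix.SpecialLinearGroup.lineStab_smul, PSL.iwasawaT_map_conj]
  is_generator := iSup_iwasawaT_eq_top

theorem isSimpleGroup_PSL_of_perfect [Nontrivial ι]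
    (h : commutator (SpecialLinearGroup ι F) = ⊤) :
    IsSimpleGroup (ProjectiveSpecialLinearGroup ι F) := by
  haveI : Nontrivial (ProjectiveSpecialLinearGroup ι F) := SL2Simple.PSL_nontrivial
  have : Group.IsPerfect (SpecialLinearGroup ι F) := ⟨h⟩
  have hp : Group.IsPerfect (ProjectiveSpecialLinearGroup ι F) := inferInstance
  exact MulAction.IwasawaStructure.isSimpleGroup hp.commutator_eq_top pslIwasawa inferInstance

theorem isSimpleGroup_PSL (hι : 3 ≤ Fintype.card ι) :
    IsSimpleGroup (ProjectiveSpecialLinearGroup ι F) :=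
  haveI : Nontrivial ι := Fintype.one_lt_card_iff_nontrivial.mp (by omega)
  isSimpleGroup_PSL_of_perfect (commutator_SL_eq_top hι)

/-- All `PSL_n(F)` on the list are simple. -/
theorem isSimpleGroup_PSL_fin {n : ℕ} (hn : 2 ≤ n) (h : n = 2 → 4 ≤ Nat.card F) :
    IsSimpleGroup (ProjectiveSpecialLinearGroup (Fin n) F) := by
  rcases hn.eq_or_lt with rfl | hn'
  · exact Matrix.ProjectiveSpecialLinearGroup.rank_two_simple (h rfl)
  · exact isSimpleGroup_PSL (by rw [Fintype.card_fin]; omega)

/-- `diag(a, 1, ..., 1)` with `a` in position `i`. -/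
def diag1n (i : ι) (a : Fˣ) : GL ι F where
  val := Matrix.diagonal fun k => if k = i then (a : F) else 1
  inv := Matrix.diagonal fun k => if k = i then ((a⁻¹ : Fˣ) : F) else 1
  val_inv := by
    rw [Matrix.diagonal_mul_diagonal, ← Matrix.diagonal_one]
    congr 1; funext k; split_ifs <;> simp
  inv_val := by
    rw [Matrix.diagonal_mul_diagonal, ← Matrix.diagonal_one]
    congr 1; funext k; split_ifs <;> simp

theorem toGL_transvection_mem_commutator {i j : ι} (hij : i ≠ j) (b : F)
    (a : Fˣ) (ha : a ≠ 1) :
    SpecialLinearGroup.toGL (SpecialLinearGroup.transvection hij b) ∈ commutator (GL ι F) := by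
  have ha' : (a : F) - 1 ≠ 0 := sub_ne_zero.mpr (fun h => ha (Units.ext h))
  set c : F := b / ((a : F) - 1) with hc
  have key : ⁅diag1n i a, SpecialLinearGroup.toGL (SpecialLinearGroup.transvection hij c)⁆ =
      SpecialLinearGroup.toGL (SpecialLinearGroup.transvection hij b) := by
    rw [commutatorElement_def, ← map_inv, SpecialLinearGroup.transvection_inv]
    refine Units.ext (Matrix.ext_of_mulVec_single fun l => funext fun k => ?_)
    simp only [Units.val_mul, SpecialLinearGroup.coe_GL_coe_matrix, ← Matrix.mulVec_mulVec]
    have hT : ∀ (x : F) (v : ι → F) (k : ι), ((SpecialLinearGroup.transvection hij x).1 *ᵥ v) k =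
        if k = i then v i + x * v j else v k := transvection_smul_apply hij
    simp only [hT, diag1n, Units.inv_mk, Matrix.mulVec_diagonal]
    rcases eq_or_ne k i with rfl | hki
    · simp only [if_pos, hij.symm, if_false, hc, Units.val_inv_eq_inv_val]
      have := a.ne_zero
      field_simp
      ring
    · simp [hki]
  rw [← key]
  exact Subgroup.commutator_mem_commutator trivial trivial

theorem commutator_GL_eq_ker_det (h : Fintype.card ι = 2 → ∃ a : F, a ≠ 0 ∧ a ≠ 1) :
    commutator (GL ι F) = (GeneralLinearGroup.det : GL ι F →* Fˣ).ker := by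
  refine le_antisymm (Abelianization.commutator_subset_ker _) ?_
  rw [← range_toGL_eq_ker_det, MonoidHom.range_eq_map]
  rcases lt_or_ge (Fintype.card ι) 2 with h2 | h2
  · haveI : Subsingleton ι := Fintype.card_le_one_iff_subsingleton.mp (by omega)
    rintro _ ⟨x, -, rfl⟩
    rw [Subsingleton.elim x 1, map_one]
    exact one_mem _
  rcases h2.eq_or_lt with h2 | h3
  · obtain ⟨a, ha0, ha1⟩ := h h2.symm
    rw [← transvectionSubgroup_eq_top, transvectionSubgroup, MonoidHom.map_closure,
      Subgroup.closure_le]
    rintro _ ⟨_, ⟨i, j, hij, b, rfl⟩, rfl⟩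
    exact toGL_transvection_mem_commutator hij b (Units.mk0 a ha0)
      (fun hu => ha1 (congrArg Units.val hu))
  · rw [← commutator_SL_eq_top (F := F) (ι := ι) (by omega), commutator_def,
      Subgroup.map_commutator, commutator_def]
    exact Subgroup.commutator_mono le_top le_top

end Cfsg.Agent.Lib.Classical
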