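import Mathlib
import Cfsg.Agent.Lib.Classical.LinearCard
import Cfsg.Agent.Lib.Classical.LinearSimple

/-!
`GL_2` and `SL_2` over finite fields: projective line, Borel subgroup, Sylow `p`-subgroups.
-/

set_option autoImplicit false

namespace Cfsg.Agent.Lib.Classical

open Matrix
open scoped LinearAlgebra.Projectivization Pointwise MatrixGroups

section General

/-- If `|G| = p^k m` with `p ∤ m` then the Sylow `p`-subgroups have order `p^k`. -/
theorem sylow_card_of_card_eq {G : Type*} [Group G] [Finite G] {p k m : ℕ} [hp : Fact p.Prime]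
    (h : Nat.card G = p ^ k * m) (hm : ¬ p ∣ m) (P : Sylow p G) : Nat.card P = p ^ k := by
  rw [P.card_eq_multiplicity, h]
  have hm0 : m ≠ 0 := by rintro rfl; exact hm (dvd_zero p)
  rw [Nat.factorization_mul (pow_ne_zero _ hp.out.ne_zero) hm0, Finsupp.add_apply,
    Nat.Prime.factorization_pow hp.out, Finsupp.single_eq_same,
    Nat.factorization_eq_zero_of_not_dvd hm, add_zero]

end General

variable {F : Type*} [Field F]

/-- The point `[1:0]`. -/
noncomputable def pInfty (F : Type*) [Field F] : ℙ F (Fin 2 → F) :=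
  Projectivization.mk F (Pi.single 0 1) (Pi.single_ne_zero_iff.2 one_ne_zero)

/-- The point `[0:1]`. -/
noncomputable def pZero (F : Type*) [Field F] : ℙ F (Fin 2 → F) :=
  Projectivization.mk F (Pi.single 1 1) (Pi.single_ne_zero_iff.2 one_ne_zero)

theorem mk_eq_pInfty_iff {v : Fin 2 → F} (hv : v ≠ 0) :
    Projectivization.mk F v hv = pInfty F ↔ v 1 = 0 := by
  rw [pInfty, Projectivization.mk_eq_mk_iff']
  constructor
  · rintro ⟨a, rfl⟩
    simp
  · intro h
    refine ⟨v 0, funext fun i => ?_⟩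
    fin_cases i <;> simp [h]

theorem card_projLine [Fintype F] : Nat.card (ℙ F (Fin 2 → F)) = Fintype.card F + 1 := by
  rw [Projectivization.card_of_finrank_two F (Fin 2 → F) (by simp), Nat.card_eq_fintype_card]

instance gl2_isPretransitive : MulAction.IsPretransitive (GL (Fin 2) F) (ℙ F (Fin 2 → F)) :=
  ⟨fun x y => by
    have h2 : MulAction.IsMultiplyPretransitive (SpecialLinearGroup (Fin 2) F)
      (ℙ F (Fin 2 → F)) 2 := inferInstance
    have h1 : MulAction.IsPretransitive (SpecialLinearGroup (Fin 2) F) (ℙ F (Fin 2 → F)) :=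
      MulAction.isPretransitive_of_is_two_pretransitive
    obtain ⟨g, hg⟩ := h1.exists_smul_eq x y
    refine ⟨SpecialLinearGroup.toGL g, ?_⟩
    rw [← hg]
    induction x using Projectivization.ind with | _ v hv => ?_
    rfl⟩

/-- The Borel subgroup of `GL_2`: stabiliser of `[1:0]`. -/
noncomputable def borel (F : Type*) [Field F] : Subgroup (GL (Fin 2) F) :=
  MulAction.stabilizer (GL (Fin 2) F) (pInfty F)

theorem mem_borel {g : GL (Fin 2) F} : g ∈ borel F ↔ (g : Matrix (Fin 2) (Fin 2) F) 1 0 = 0 := by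
  rw [borel, MulAction.mem_stabilizer_iff]
  show g • Projectivization.mk F _ _ = _ ↔ _
  rw [Projectivization.smul_mk, mk_eq_pInfty_iff]
  show (((g : Matrix (Fin 2) (Fin 2) F)) *ᵥ Pi.single 0 1) 1 = 0 ↔ _
  rw [Matrix.mulVec_single_one]
  rfl

/-- The group of upper unitriangular matrices in `GL_2`. -/
def unipotent (F : Type*) [Field F] : Subgroup (GL (Fin 2) F) :=
  (GeneralLinearGroup.upperRightHom (R := F)).toMonoidHom.range

theorem mem_unipotent {g : GL (Fin 2) F} :
    g ∈ unipotent F ↔ ∃ x : F, GeneralLinearGroup.upperRightHom x = g := by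
  constructor
  · rintro ⟨x, rfl⟩
    exact ⟨Multiplicative.toAdd x, rfl⟩
  · rintro ⟨x, rfl⟩
    exact ⟨Multiplicative.ofAdd x, rfl⟩

theorem upperRightHom_mem_unipotent (x : F) :
    GeneralLinearGroup.upperRightHom x ∈ unipotent F := mem_unipotent.2 ⟨x, rfl⟩

theorem upperRightHom_conj {g : GL (Fin 2) F} (hg : g ∈ borel F) (x : F) :
    g * GeneralLinearGroup.upperRightHom x * g⁻¹ = GeneralLinearGroup.upperRightHom
      ((g : Matrix (Fin 2) (Fin 2) F) 0 0 / (g : Matrix (Fin 2) (Fin 2) F) 1 1 * x) := by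
  rw [mem_borel] at hg
  have hd : (g : Matrix (Fin 2) (Fin 2) F) 1 1 ≠ 0 := by
    intro h
    have := g.det_ne_zero
    rw [Matrix.det_fin_two, h, hg] at this
    simp at this
  rw [mul_inv_eq_iff_eq_mul]
  refine Units.ext (Matrix.ext fun i j => ?_)
  fin_cases i <;> fin_cases j <;>
    simp [Matrix.mul_apply, Fin.sum_univ_two, hg] <;> field_simp <;> ring

/-- Only the Borel subgroup conjugates a non-trivial element of `unipotent` into it. -/
theorem mem_borel_of_conj_mem {g : GL (Fin 2) F} {x : F} (hx : x ≠ 0)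
    (h : g * GeneralLinearGroup.upperRightHom x * g⁻¹ ∈ unipotent F) : g ∈ borel F := by
  obtain ⟨y, hy⟩ := mem_unipotent.1 h
  rw [eq_mul_inv_iff_mul_eq] at hy
  have := congrArg (fun z : GL (Fin 2) F => (z : Matrix (Fin 2) (Fin 2) F) 1 1) hy
  simp [Matrix.mul_apply, Fin.sum_univ_two] at this
  rw [mem_borel]
  exact this.resolve_right hx

theorem normalizer_unipotent :
    Subgroup.normalizer (unipotent F : Set (GL (Fin 2) F)) = borel F := by
  ext g
  constructor
  · intro hg
    refine mem_borel_of_conj_mem (one_ne_zero (α := F)) ?_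
    exact (Subgroup.mem_normalizer_iff.mp hg _).mp (upperRightHom_mem_unipotent 1)
  · intro hg
    rw [Subgroup.mem_normalizer_iff]
    intro n
    constructor
    · intro hn
      obtain ⟨x, rfl⟩ := mem_unipotent.1 hn
      rw [upperRightHom_conj hg]
      exact upperRightHom_mem_unipotent _
    · intro hn
      obtain ⟨x, hx⟩ := mem_unipotent.1 hn
      have : n = g⁻¹ * GeneralLinearGroup.upperRightHom x * g⁻¹⁻¹ := by rw [hx]; group
      rw [this, upperRightHom_conj (inv_mem hg)]
      exact upperRightHom_mem_unipotent _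

theorem centralizer_upperRightHom {x : F} (hx : x ≠ 0) (g : GL (Fin 2) F) :
    g ∈ Subgroup.centralizer {GeneralLinearGroup.upperRightHom x} ↔
      (g : Matrix (Fin 2) (Fin 2) F) 1 0 = 0 ∧
        (g : Matrix (Fin 2) (Fin 2) F) 0 0 = (g : Matrix (Fin 2) (Fin 2) F) 1 1 := by
  rw [Subgroup.mem_centralizer_singleton_iff]
  constructor
  · intro h
    have h11 := congrArg (fun z : GL (Fin 2) F => (z : Matrix (Fin 2) (Fin 2) F) 1 1) h
    have h01 := congrArg (fun z : GL (Fin 2) F => (z : Matrix (Fin 2) (Fin 2) F) 0 1) h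
    simp [Matrix.mul_apply, Fin.sum_univ_two] at h11 h01
    constructor
    · exact h11.resolve_right hx
    · exact mul_right_cancel₀ hx (by linear_combination h01)
  · rintro ⟨h10, h00⟩
    refine Units.ext (Matrix.ext fun i j => ?_)
    fin_cases i <;> fin_cases j <;>
      simp [Matrix.mul_apply, Fin.sum_univ_two, h10, h00] <;> ring

section Finite

variable [Fintype F]

theorem card_unipotent : Nat.card (unipotent F) = Fintype.card F := by
  rw [← Nat.card_eq_fintype_card]
  exact (Nat.card_congr (Multiplicative.ofAdd.trans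
    (MonoidHom.ofInjective (f := (GeneralLinearGroup.upperRightHom (R := F)).toMonoidHom)
      (fun a b h => Multiplicative.toAdd.injective
        (GeneralLinearGroup.injective_upperRightHom (R := F) h))).toEquiv)).symm

theorem index_borel : (borel F).index = Fintype.card F + 1 := by
  rw [borel, MulAction.index_stabilizer_of_transitive, card_projLine]

theorem card_borel : Nat.card (borel F) = Fintype.card F * (Fintype.card F - 1) ^ 2 := by
  have h := (borel F).card_mul_index
  rw [index_borel, card_GL2] at h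
  have hq : Fintype.card F ^ 2 - 1 = (Fintype.card F - 1) * (Fintype.card F + 1) := by
    rw [mul_comm, ← Nat.sq_sub_sq, one_pow]
  rw [hq] at h
  apply Nat.eq_of_mul_eq_mul_right (show 0 < Fintype.card F + 1 by omega)
  rw [h]; ring

variable (p : ℕ) [Fact p.Prime] [CharP F p]

theorem exists_card_eq_pow : ∃ a : ℕ, 1 ≤ a ∧ Fintype.card F = p ^ a := by
  obtain ⟨a, -, ha⟩ := FiniteField.card F p
  exact ⟨a, a.2, ha⟩

theorem dvd_fintypeCard : p ∣ Fintype.card F := by
  obtain ⟨a, ha, h⟩ := exists_card_eq_pow (F := F) p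
  exact h ▸ dvd_pow_self p (by omega)

theorem not_dvd_card_pow_sub_one {k : ℕ} (hk : k ≠ 0) : ¬ p ∣ Fintype.card F ^ k - 1 := by
  intro h
  have h1 : p ∣ Fintype.card F ^ k := dvd_pow (dvd_fintypeCard p) hk
  have h2 : 1 ≤ Fintype.card F ^ k := Nat.one_le_pow _ _ Fintype.card_pos
  have h3 := Nat.dvd_sub h1 h
  rw [Nat.sub_sub_self h2] at h3
  exact (Fact.out : p.Prime).not_dvd_one h3

theorem card_sylow_GL (n : ℕ) (P : Sylow p (GL (Fin n) F)) :
    Nat.card P = Fintype.card F ^ (n * (n - 1) / 2) := by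
  obtain ⟨a, -, hq⟩ := exists_card_eq_pow (F := F) p
  have h := card_GL_formula (F := F) n
  rw [show Fintype.card F ^ (n * (n - 1) / 2) = p ^ (a * (n * (n - 1) / 2)) by
    rw [hq, pow_mul]] at h ⊢
  refine sylow_card_of_card_eq h (fun hd => ?_) P
  obtain ⟨i, -, hi⟩ := ((Fact.out : p.Prime).prime.dvd_finsetProd_iff _).mp hd
  exact not_dvd_card_pow_sub_one p (Nat.succ_ne_zero i) hi

theorem exists_sylow_eq_unipotent :
    ∃ P₀ : Sylow p (GL (Fin 2) F), (P₀ : Subgroup (GL (Fin 2) F)) = unipotent F := by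
  obtain ⟨P⟩ : Nonempty (Sylow p (GL (Fin 2) F)) := inferInstance
  refine ⟨Sylow.ofCard (unipotent F) ?_, Sylow.coe_ofCard _ _⟩
  rw [← P.card_eq_multiplicity, card_sylow_GL p 2, card_unipotent]
  norm_num

theorem sylow_GL2_eq_conj (P : Sylow p (GL (Fin 2) F)) :
    ∃ g : GL (Fin 2) F, (P : Subgroup (GL (Fin 2) F)) = MulAut.conj g • unipotent F := by
  obtain ⟨P₀, hP₀⟩ := exists_sylow_eq_unipotent (F := F) p
  obtain ⟨g, hg⟩ := MulAction.exists_smul_eq (GL (Fin 2) F) P₀ P
  exact ⟨g, by rw [← hg, ← hP₀]; rfl⟩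

theorem card_sylow_GL2 : Nat.card (Sylow p (GL (Fin 2) F)) = Fintype.card F + 1 := by
  obtain ⟨P₀, hP₀⟩ := exists_sylow_eq_unipotent (F := F) p
  rw [P₀.card_eq_index_normalizer, ← index_borel, ← normalizer_unipotent, ← hP₀]
  rfl

theorem card_normalizer_sylow_GL2 (P : Sylow p (GL (Fin 2) F)) :
    Nat.card (Subgroup.normalizer ((P : Subgroup (GL (Fin 2) F)) : Set (GL (Fin 2) F))) =
      Fintype.card F * (Fintype.card F - 1) ^ 2 := by
  have h := (Subgroup.normalizer ((P : Subgroup (GL (Fin 2) F)) : Set (GL (Fin 2) F))).card_mul_index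
  rw [show (Subgroup.normalizer ((P : Subgroup (GL (Fin 2) F)) : Set (GL (Fin 2) F))).index =
    Fintype.card F + 1 from P.card_eq_index_normalizer.symm.trans (card_sylow_GL2 p),
    ← (borel F).card_mul_index, index_borel, card_borel] at h
  exact Nat.eq_of_mul_eq_mul_right (show 0 < Fintype.card F + 1 by omega) h

theorem sylow_GL2_inf_eq_bot (P Q : Sylow p (GL (Fin 2) F)) (h : P ≠ Q) :
    (P : Subgroup (GL (Fin 2) F)) ⊓ (Q : Subgroup (GL (Fin 2) F)) = ⊥ := by
  obtain ⟨g, hg⟩ := sylow_GL2_eq_conj p P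
  obtain ⟨k, hk⟩ := sylow_GL2_eq_conj p Q
  rw [eq_bot_iff]
  intro a hmem
  obtain ⟨haP, haQ⟩ := Subgroup.mem_inf.1 hmem
  rw [Subgroup.mem_bot]
  by_contra ha
  apply h
  rw [hg, Subgroup.mem_pointwise_smul_iff_inv_smul_mem] at haP
  rw [hk, Subgroup.mem_pointwise_smul_iff_inv_smul_mem] at haQ
  simp only [MulAut.smul_def, MulAut.inv_apply, MulAut.conj_symm_apply] at haP haQ
  obtain ⟨x, hx⟩ := mem_unipotent.1 haP
  have hx0 : x ≠ 0 := by
    rintro rfl
    rw [AddChar.map_zero_eq_one] at hx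
    apply ha
    have := congrArg (fun z => g * z * g⁻¹) hx
    simpa [mul_assoc] using this.symm
  have hb : k⁻¹ * g ∈ borel F := by
    refine mem_borel_of_conj_mem hx0 ?_
    rw [hx]
    convert haQ using 1
    group
  apply Sylow.ext
  rw [← normalizer_unipotent] at hb
  have hN : MulAut.conj (k⁻¹ * g) • unipotent F = unipotent F := by
    ext z
    rw [Subgroup.mem_pointwise_smul_iff_inv_smul_mem, MulAut.smul_def, MulAut.inv_apply,
      MulAut.conj_symm_apply]
    conv_lhs => rw [Subgroup.mem_normalizer_iff.mp hb]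
    group
  rw [hg, hk]
  conv_rhs => rw [← hN, smul_smul, ← map_mul, mul_inv_cancel_left]

theorem card_centralizer_sylow_GL2 (P : Sylow p (GL (Fin 2) F)) {a : GL (Fin 2) F}
    (ha : a ∈ P) (ha1 : a ≠ 1) :
    Nat.card (Subgroup.centralizer ({a} : Set (GL (Fin 2) F))) =
      Fintype.card F * (Fintype.card F - 1) := by
  obtain ⟨g, hg⟩ := sylow_GL2_eq_conj p P
  have haP : a ∈ (P : Subgroup (GL (Fin 2) F)) := ha
  rw [hg, Subgroup.mem_pointwise_smul_iff_inv_smul_mem] at haP
  obtain ⟨x, hx⟩ := mem_unipotent.1 haP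
  simp only [MulAut.smul_def, MulAut.inv_apply, MulAut.conj_symm_apply] at hx
  have hx0 : x ≠ 0 := by
    rintro rfl
    rw [AddChar.map_zero_eq_one] at hx
    apply ha1
    have := congrArg (fun z => g * z * g⁻¹) hx
    simpa [mul_assoc] using this.symm
  have e1 : Nat.card (Subgroup.centralizer ({a} : Set (GL (Fin 2) F))) =
      Nat.card (Subgroup.centralizer ({GeneralLinearGroup.upperRightHom x} : Set (GL (Fin 2) F))) := by
    refine Nat.card_congr (Equiv.subtypeEquiv (MulAut.conj g⁻¹).toEquiv (fun c => ?_))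
    rw [Subgroup.mem_centralizer_singleton_iff, Subgroup.mem_centralizer_singleton_iff, hx]
    show c * a = a * c ↔ (g⁻¹ * c * g⁻¹⁻¹) * (g⁻¹ * a * g) = (g⁻¹ * a * g) * (g⁻¹ * c * g⁻¹⁻¹)
    constructor
    · intro h
      calc (g⁻¹ * c * g⁻¹⁻¹) * (g⁻¹ * a * g) = g⁻¹ * (c * a) * g := by group
        _ = g⁻¹ * (a * c) * g := by rw [h]
        _ = _ := by group
    · intro h
      calc c * a = g * ((g⁻¹ * c * g⁻¹⁻¹) * (g⁻¹ * a * g)) * g⁻¹ := by group
        _ = g * ((g⁻¹ * a * g) * (g⁻¹ * c * g⁻¹⁻¹)) * g⁻¹ := by rw [h]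
        _ = _ := by group
  rw [e1, ← natCard_units, ← Nat.card_eq_fintype_card, ← Nat.card_prod]
  refine Nat.card_congr
    { toFun := fun c => ((c.1 : Matrix (Fin 2) (Fin 2) F) 0 1,
        Units.mk0 ((c.1 : Matrix (Fin 2) (Fin 2) F) 0 0) (by
          obtain ⟨h10, h00⟩ := (centralizer_upperRightHom hx0 c.1).1 c.2
          intro h
          have := c.1.det_ne_zero
          rw [Matrix.det_fin_two, h10, h] at this
          simp at this))
      invFun := fun bu => ⟨GeneralLinearGroup.mkOfDetNeZero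
          !![(bu.2 : F), bu.1; 0, (bu.2 : F)] (by simp),
        (centralizer_upperRightHom hx0 _).2 (by simp)⟩
      left_inv := fun c => by
        obtain ⟨h10, h00⟩ := (centralizer_upperRightHom hx0 c.1).1 c.2
        refine Subtype.ext (Units.ext (Matrix.ext fun i j => ?_))
        fin_cases i <;> fin_cases j <;> simp [h10, h00]
      right_inv := fun bu => by simp }

end Finite

end Cfsg.Agent.Lib.Classical
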