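import Mathlib
import Cfsg.Agent.Lib.Classical.GLTwo

/-!
`SL_2`, `PSL_2`: Sylow `p`-subgroups, base change along field isomorphisms, small isomorphisms.
-/

set_option autoImplicit false

namespace Cfsg.Agent.Lib.Classical

open Matrix
open scoped LinearAlgebra.Projectivization Pointwise MatrixGroups

section Congr

variable {n : Type*} [Fintype n] [DecidableEq n] {R S : Type*} [CommRing R] [CommRing S]

theorem map_center_le_of_surjective {G H : Type*} [Group G] [Group H] (f : G →* H)
    (hf : Function.Surjective f) : Subgroup.center G ≤ (Subgroup.center H).comap f := by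
  intro z hz
  rw [Subgroup.mem_comap, Subgroup.mem_center_iff]
  intro h
  obtain ⟨g, rfl⟩ := hf h
  rw [← map_mul, ← map_mul, Subgroup.mem_center_iff.mp hz g]

/-- Base change along a ring isomorphism. -/
def slCongr (e : R ≃+* S) : SpecialLinearGroup n R ≃* SpecialLinearGroup n S where
  toFun := SpecialLinearGroup.map e.toRingHom
  invFun := SpecialLinearGroup.map e.symm.toRingHom
  left_inv g := Subtype.ext (Matrix.ext fun i j => e.symm_apply_apply _)
  right_inv g := Subtype.ext (Matrix.ext fun i j => e.apply_symm_apply _)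
  map_mul' := map_mul _

/-- An isomorphism of groups induces one of the central quotients. -/
noncomputable def centralQuotientCongr {G H : Type*} [Group G] [Group H] (e : G ≃* H) :
    G ⧸ Subgroup.center G ≃* H ⧸ Subgroup.center H :=
  QuotientGroup.congr _ _ e (by
    apply le_antisymm
    · rw [Subgroup.map_le_iff_le_comap]
      exact map_center_le_of_surjective _ e.surjective
    · intro z hz
      refine ⟨e.symm z, ?_, e.apply_symm_apply z⟩
      exact map_center_le_of_surjective e.symm.toMonoidHom e.symm.surjective hz)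

/-- `PSL` base change. -/
noncomputable def pslCongr (e : R ≃+* S) :
    ProjectiveSpecialLinearGroup n R ≃* ProjectiveSpecialLinearGroup n S :=
  centralQuotientCongr (slCongr e)

/-- Special linear groups over finite fields of the same order are isomorphic. -/
noncomputable def slCongrOfCardEq {F K : Type*} [Field F] [Fintype F] [Field K] [Fintype K]
    (h : Fintype.card F = Fintype.card K) : SpecialLinearGroup n F ≃* SpecialLinearGroup n K :=
  slCongr (FiniteField.ringEquivOfCardEq h)

/-- Projective special linear groups over finite fields of the same order are isomorphic. -/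
noncomputable def pslCongrOfCardEq {F K : Type*} [Field F] [Fintype F] [Field K] [Fintype K]
    (h : Fintype.card F = Fintype.card K) :
    ProjectiveSpecialLinearGroup n F ≃* ProjectiveSpecialLinearGroup n K :=
  pslCongr (FiniteField.ringEquivOfCardEq h)

end Congr

section Embedding

/-- An injective hom into `Perm α` from a group of order `n!` is bijective. -/
theorem nonempty_mulEquiv_perm {G α : Type*} [Group G] [Fintype α] [DecidableEq α] {n : ℕ}
    (hα : Fintype.card α = n) (f : G →* Equiv.Perm α) (hf : Function.Injective f)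
    (hG : Nat.card G = n.factorial) : Nonempty (G ≃* Equiv.Perm (Fin n)) := by
  haveI : Finite G := Finite.of_injective f hf
  have hb : Function.Bijective f := by
    rw [Nat.bijective_iff_injective_and_card]
    exact ⟨hf, by rw [hG, Nat.card_perm, Nat.card_eq_fintype_card, hα]⟩
  exact ⟨(MulEquiv.ofBijective f hb).trans (Fintype.equivFinOfCardEq hα).permCongrHom⟩

/-- An injective hom into `Perm α` from a group of order `n!/2` gives the alternating group. -/
theorem nonempty_mulEquiv_alternating {G α : Type*} [Group G] [Fintype α] [DecidableEq α] {n : ℕ}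
    (hα : Fintype.card α = n) (f : G →* Equiv.Perm α) (hf : Function.Injective f)
    (hG : 2 * Nat.card G = n.factorial) : Nonempty (G ≃* alternatingGroup (Fin n)) := by
  let e := (Fintype.equivFinOfCardEq hα).permCongrHom
  let f' : G →* Equiv.Perm (Fin n) := e.toMonoidHom.comp f
  have hf' : Function.Injective f' := e.injective.comp hf
  have hc : Nat.card f'.range = Nat.card G := (Nat.card_congr (MonoidHom.ofInjective hf').toEquiv).symm
  have hidx : f'.range.index = 2 := by
    have h := f'.range.card_mul_index
    rw [hc, Nat.card_perm, Nat.card_fin, ← hG, mul_comm 2] at h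
    refine Nat.eq_of_mul_eq_mul_left ?_ h
    rcases Nat.eq_zero_or_pos (Nat.card G) with h0 | h0
    · rw [h0, mul_zero] at hG
      exact absurd hG.symm n.factorial_ne_zero
    · exact h0
  rw [← Equiv.Perm.eq_alternatingGroup_of_index_eq_two hidx]
  exact ⟨MonoidHom.ofInjective hf'⟩

/-- The action of a simple group on the cosets of a subgroup of index `n > 1` embeds it in `S_n`;
if its order is `n!/2` it is `A_n`. -/
theorem nonempty_mulEquiv_alternating_of_index {G : Type*} [Group G] [Finite G] [IsSimpleGroup G]
    {n : ℕ} (H : Subgroup G) (hH : H.index = n) (hn : 1 < n)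
    (hG : 2 * Nat.card G = n.factorial) : Nonempty (G ≃* alternatingGroup (Fin n)) := by
  classical
  haveI := Fintype.ofFinite (G ⧸ H)
  have hker : (MulAction.toPermHom G (G ⧸ H)).ker = ⊥ := by
    rcases (MonoidHom.normal_ker (MulAction.toPermHom G (G ⧸ H))).eq_bot_or_eq_top with h | h
    · exact h
    · exfalso
      have hle : H.normalCore = ⊤ := by rw [Subgroup.normalCore_eq_ker]; exact h
      have := H.normalCore_le
      rw [hle, top_le_iff] at this
      rw [this, Subgroup.index_top] at hH
      omega
  exact nonempty_mulEquiv_alternating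
    (by rw [← Nat.card_eq_fintype_card]; exact hH) _ ((MonoidHom.ker_eq_bot_iff _).mp hker) hG

end Embedding

variable {F : Type*} [Field F]

theorem lineStab_pInfty_eq :
    SpecialLinearGroup.lineStab (pInfty F).submodule =
      (SpecialLinearGroup.lineStab (Submodule.span F {(Pi.single 0 1 : Fin 2 → F)})) := by
  rw [pInfty, Projectivization.submodule_mk]

theorem mem_lineStab_pInfty {A : SpecialLinearGroup (Fin 2) F}
    (hA : A ∈ SpecialLinearGroup.lineStab (pInfty F).submodule) :
    A = SpecialLinearGroup.transvection zero_ne_one ((A : Matrix (Fin 2) (Fin 2) F) 0 1) := by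
  rw [lineStab_pInfty_eq] at hA
  have hfix := SpecialLinearGroup.lineStab_fix_of_span _
    (Pi.single_ne_zero_iff.2 (one_ne_zero (α := F))) A hA
  obtain ⟨c, hc⟩ := Submodule.mem_span_singleton.1 (hA (Pi.single 1 1))
  have h00 : (A : Matrix (Fin 2) (Fin 2) F) 0 0 = 1 := by
    have := congrFun hfix 0
    change ((A : Matrix (Fin 2) (Fin 2) F) *ᵥ Pi.single 0 1) 0 = _ at this
    simpa [Matrix.mulVec_single_one] using this
  have h10 : (A : Matrix (Fin 2) (Fin 2) F) 1 0 = 0 := by
    have := congrFun hfix 1
    change ((A : Matrix (Fin 2) (Fin 2) F) *ᵥ Pi.single 0 1) 1 = _ at this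
    simpa [Matrix.mulVec_single_one] using this
  have h11 : (A : Matrix (Fin 2) (Fin 2) F) 1 1 = 1 := by
    have := congrFun hc 1
    change _ = ((A : Matrix (Fin 2) (Fin 2) F) *ᵥ Pi.single 1 1) 1 - _ at this
    simp [Matrix.mulVec_single_one] at this
    linear_combination -this
  refine Subtype.ext (Matrix.ext fun i j => ?_)
  fin_cases i <;> fin_cases j <;> simp [SpecialLinearGroup.transvection_coe, h00, h10, h11]

theorem card_lineStab_pInfty [Fintype F] :
    Nat.card (SpecialLinearGroup.lineStab (pInfty F).submodule) = Fintype.card F := by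
  rw [← Nat.card_eq_fintype_card]
  refine Nat.card_congr
    { toFun := fun A => (A.1 : Matrix (Fin 2) (Fin 2) F) 0 1
      invFun := fun b => ⟨SpecialLinearGroup.transvection zero_ne_one b, by
        rw [lineStab_pInfty_eq]; exact SL2Gen.transvection_mem_lineStab zero_ne_one b⟩
      left_inv := fun A => Subtype.ext (mem_lineStab_pInfty A.2).symm
      right_inv := fun b => by simp [SpecialLinearGroup.transvection_coe] }

/-- The Sylow `p`-subgroups of `SL_2` are the root groups. -/
theorem sylow_SL2_eq_lineStab [Fintype F] (p : ℕ) [Fact p.Prime] [CharP F p]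
    (P : Sylow p (SpecialLinearGroup (Fin 2) F)) :
    ∃ x : ℙ F (Fin 2 → F),
      (P : Subgroup (SpecialLinearGroup (Fin 2) F)) = SpecialLinearGroup.lineStab x.submodule := by
  obtain ⟨a, -, hq⟩ := exists_card_eq_pow (F := F) p
  have hcard : Nat.card P = Fintype.card F := by
    rw [sylow_card_of_card_eq (p := p) (k := a) (m := Fintype.card F ^ 2 - 1)
      (by rw [← hq, card_SL2]) (not_dvd_card_pow_sub_one p two_ne_zero) P, hq]
  let P₀ : Sylow p (SpecialLinearGroup (Fin 2) F) :=
    Sylow.ofCard (SpecialLinearGroup.lineStab (pInfty F).submodule)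
      (by rw [← P.card_eq_multiplicity, hcard, card_lineStab_pInfty])
  obtain ⟨g, hg⟩ := MulAction.exists_smul_eq (SpecialLinearGroup (Fin 2) F) P₀ P
  refine ⟨g • pInfty F, ?_⟩
  rw [PSL.smul_submodule, SpecialLinearGroup.lineStab_smul, ← hg]
  rfl

/-- Two distinct root groups generate `SL_2`. -/
theorem lineStab_sup_eq_top {x y : ℙ F (Fin 2 → F)} (h : x ≠ y) :
    SpecialLinearGroup.lineStab x.submodule ⊔ SpecialLinearGroup.lineStab y.submodule =
      (⊤ : Subgroup (SpecialLinearGroup (Fin 2) F)) := by
  have h2 : MulAction.IsMultiplyPretransitive (SpecialLinearGroup (Fin 2) F)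
      (ℙ F (Fin 2 → F)) 2 := inferInstance
  rw [MulAction.is_two_pretransitive_iff] at h2
  have hne : pInfty F ≠ pZero F := by
    intro e
    rw [eq_comm, pZero, mk_eq_pInfty_iff] at e
    simp at e
  obtain ⟨g, hg1, hg2⟩ := h2 hne h
  subst hg1 hg2
  rw [PSL.smul_submodule, PSL.smul_submodule, SpecialLinearGroup.lineStab_smul,
    SpecialLinearGroup.lineStab_smul, ← Subgroup.smul_sup, pInfty, pZero,
    Projectivization.submodule_mk, Projectivization.submodule_mk,
    SL2Gen.SL_card_two_lineStab_sup_eq_top]
  exact Subgroup.Normal.conj_smul_eq_self _ _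

theorem sylow_SL2_sup_eq_top [Fintype F] (p : ℕ) [Fact p.Prime] [CharP F p]
    (P Q : Sylow p (SpecialLinearGroup (Fin 2) F)) (h : P ≠ Q) :
    (P : Subgroup (SpecialLinearGroup (Fin 2) F)) ⊔ (Q : Subgroup (SpecialLinearGroup (Fin 2) F))
      = ⊤ := by
  obtain ⟨x, hx⟩ := sylow_SL2_eq_lineStab p P
  obtain ⟨y, hy⟩ := sylow_SL2_eq_lineStab p Q
  rw [hx, hy]
  exact lineStab_sup_eq_top fun e => h (Sylow.ext (by rw [hx, hy, e]))

theorem nonempty_SL2_two [Fintype F] (hF : Fintype.card F = 2) :
    Nonempty (SpecialLinearGroup (Fin 2) F ≃* Equiv.Perm (Fin 3)) := by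
  classical
  haveI := Fintype.ofFinite (ℙ F (Fin 2 → F))
  refine nonempty_mulEquiv_perm (by rw [← Nat.card_eq_fintype_card, card_projLine, hF])
    (MulAction.toPermHom _ (ℙ F (Fin 2 → F))) ?_
    (by rw [card_SL2, hF]; decide)
  rw [← MonoidHom.ker_eq_bot_iff, Projectivization.SL_mulAction_ker]
  exact Subgroup.eq_bot_of_card_eq _ (by rw [card_center_SL, hF]; simp)

theorem nonempty_PSL2_small [Fintype F] {n : ℕ}
    (hn : Fintype.card F + 1 = n)
    (h : 2 * (Fintype.card F * (Fintype.card F ^ 2 - 1)) =
      Nat.gcd 2 (Fintype.card F - 1) * n.factorial) :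
    Nonempty (ProjectiveSpecialLinearGroup (Fin 2) F ≃* alternatingGroup (Fin n)) := by
  classical
  haveI := Fintype.ofFinite (ℙ F (Fin 2 → F))
  refine nonempty_mulEquiv_alternating (by rw [← Nat.card_eq_fintype_card, card_projLine, hn])
    (Projectivization.PSLAction.toPermHom (K := F) (ι := Fin 2))
    Matrix.ProjectiveSpecialLinearGroup.toPermHom_injective ?_
  refine Nat.eq_of_mul_eq_mul_left (n := Nat.gcd 2 (Fintype.card F - 1))
    (Nat.gcd_pos_of_pos_left _ two_pos) ?_
  rw [← h, ← card_PSL2_mul]
  ring

end Cfsg.Agent.Lib.Classical
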