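import Mathlib
import Cfsg.Prelude.Def_LieClassical
import Cfsg.Agent.Lib.Geometry.HermBasis
import Cfsg.Agent.Lib.Classical.LinearCard

/-!
The Hermitian form `Σ u_i v_i^q` over the field with `q²` elements.
-/

set_option autoImplicit false

namespace Cfsg.Agent.Lib.Classical

open scoped Matrix

variable {F : Type*} [Field F] [Fintype F] {q : ℕ}

theorem two_le_q (hF : Fintype.card F = q ^ 2) : 2 ≤ q := by
  have := Fintype.one_lt_card (α := F)
  rw [hF] at this
  by_contra h
  interval_cases q <;> simp at this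

/-- `q` is a power of the characteristic. -/
theorem exists_q_pow (hF : Fintype.card F = q ^ 2) :
    ∃ p f : ℕ, p.Prime ∧ CharP F p ∧ q = p ^ f := by
  obtain ⟨n, hp, hn⟩ := FiniteField.card F (ringChar F)
  have hdvd : q ∣ ringChar F ^ (n : ℕ) := by
    rw [← hn, hF]; exact dvd_pow_self q two_ne_zero
  obtain ⟨f, -, hf⟩ := (Nat.dvd_prime_pow hp).mp hdvd
  exact ⟨ringChar F, f, hp, ringChar.charP F, hf⟩

theorem conjHom_exists (hF : Fintype.card F = q ^ 2) :
    ∃ σ : F →+* F, ∀ x, σ x = x ^ q := by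
  obtain ⟨p, f, hp, hc, rfl⟩ := exists_q_pow hF
  haveI : Fact p.Prime := ⟨hp⟩
  haveI : ExpChar F p := ExpChar.prime hp
  exact ⟨iterateFrobenius F p f, fun x => rfl⟩

/-- The automorphism `x ↦ x^q`. -/
noncomputable def conjHom (hF : Fintype.card F = q ^ 2) : F →+* F := (conjHom_exists hF).choose

theorem conjHom_apply (hF : Fintype.card F = q ^ 2) (x : F) : conjHom hF x = x ^ q :=
  (conjHom_exists hF).choose_spec x

theorem conjHom_conjHom (hF : Fintype.card F = q ^ 2) (x : F) :
    conjHom hF (conjHom hF x) = x := by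
  rw [conjHom_apply, conjHom_apply, ← pow_mul, ← pow_two, ← hF, FiniteField.pow_card]

theorem conjHom_ne_id (hF : Fintype.card F = q ^ 2) : conjHom hF ≠ RingHom.id F := by
  intro h
  have h2 := two_le_q hF
  obtain ⟨g, hg⟩ := IsCyclic.exists_generator (α := Fˣ)
  have hord := orderOf_eq_card_of_forall_mem_zpowers hg
  rw [Nat.card_units, Nat.card_eq_fintype_card, hF] at hord
  have hq : g ^ q = g := Units.ext (by
    rw [Units.val_pow_eq_pow_val, ← conjHom_apply hF, h]; rfl)
  have hq1 : g ^ (q - 1) = 1 := by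
    apply mul_right_cancel (b := g)
    rw [← pow_succ, Nat.sub_add_cancel (by omega), hq, one_mul]
  have hdvd : q ^ 2 - 1 ∣ q - 1 := hord ▸ orderOf_dvd_of_pow_eq_one hq1
  have hle := Nat.le_of_dvd (by omega) hdvd
  have : 2 * q ≤ q ^ 2 := by rw [pow_two]; exact Nat.mul_le_mul_right q h2
  omega

theorem neg_one_pow_q (hF : Fintype.card F = q ^ 2) : (-1 : F) ^ q = -1 := by
  rw [← conjHom_apply hF, map_neg, map_one]

theorem zero_pow_q (hF : Fintype.card F = q ^ 2) : (0 : F) ^ q = 0 := by
  rw [← conjHom_apply hF, map_zero]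

/-- Norms: number of solutions of `x^(q+1) = d`. -/
theorem card_norm_eq [DecidableEq F] (hF : Fintype.card F = q ^ 2) (d : F) (hd : d ^ q = d) :
    Nat.card {x : F // x ^ (q + 1) = d} = if d = 0 then 1 else q + 1 := by
  have h2 := two_le_q hF
  split_ifs with h0
  · subst h0
    rw [Nat.card_eq_one_iff_exists]
    exact ⟨⟨0, zero_pow (by omega)⟩, fun x => Subtype.ext (eq_zero_of_pow_eq_zero x.2)⟩
  · obtain ⟨x₀, hx₀⟩ := Geometry.exists_mul_conj_eq (conjHom_ne_id hF) (conjHom_conjHom hF)
      (s := d) (by rw [conjHom_apply, hd])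
    rw [conjHom_apply, ← pow_succ] at hx₀
    have hx0 : x₀ ≠ 0 := by
      rintro rfl
      rw [zero_pow (by omega)] at hx₀
      exact h0 hx₀.symm
    have hk : Nat.card (powMonoidHom (q + 1) : Fˣ →* Fˣ).ker = q + 1 := by
      rw [IsCyclic.card_powMonoidHom_ker, natCard_units, hF]
      exact Nat.gcd_eq_right ⟨q - 1, by rw [← Nat.sq_sub_sq, one_pow]⟩
    have e : {x : F // x ^ (q + 1) = d} ≃ (powMonoidHom (q + 1) : Fˣ →* Fˣ).ker :=
      { toFun := fun x => ⟨Units.mk0 (x.1 / x₀) (div_ne_zero (fun h => h0 (by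
            have := x.2
            rw [h, zero_pow (by omega)] at this
            exact this.symm)) hx0), by
          rw [MonoidHom.mem_ker, powMonoidHom_apply]
          apply Units.ext
          rw [Units.val_pow_eq_pow_val, Units.val_mk0, div_pow, x.2, hx₀, div_self h0, Units.val_one]⟩
        invFun := fun u => ⟨x₀ * ((u.1 : Fˣ) : F), by
          have hu : (((u.1 : Fˣ) : F)) ^ (q + 1) = 1 := by
            have := congrArg Units.val (MonoidHom.mem_ker.mp u.2)
            simpa using this
          rw [mul_pow, hx₀, hu, mul_one]⟩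
        left_inv := fun x => Subtype.ext (mul_div_cancel₀ _ hx0)
        right_inv := fun u => Subtype.ext (Units.ext (by simp [mul_div_cancel_left₀ _ hx0])) }
    rw [Nat.card_congr e, hk]

/-- `hermForm` as a sesquilinear map (semilinear in the first argument). -/
noncomputable def hermBilin (hF : Fintype.card F = q ^ 2) (n : ℕ) :
    (Fin n → F) →ₛₗ[conjHom hF] (Fin n → F) →ₗ[F] F :=
  LinearMap.mk₂'ₛₗ (conjHom hF) (RingHom.id F) (fun u v => Cfsg.hermForm n F q v u)
    (fun a b v => by
      simp only [Cfsg.hermForm, Pi.add_apply, ← conjHom_apply hF, map_add, mul_add, Finset.sum_add_distrib])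
    (fun c a v => by
      simp only [Cfsg.hermForm, Pi.smul_apply, smul_eq_mul, ← conjHom_apply hF, map_mul, Finset.mul_sum]
      exact Finset.sum_congr rfl fun i _ => by ring)
    (fun a u v => by
      simp only [Cfsg.hermForm, Pi.add_apply, add_mul, Finset.sum_add_distrib])
    (fun c a v => by
      simp only [Cfsg.hermForm, Pi.smul_apply, smul_eq_mul, RingHom.id_apply, Finset.mul_sum]
      exact Finset.sum_congr rfl fun i _ => by ring)

theorem hermBilin_apply (hF : Fintype.card F = q ^ 2) (n : ℕ) (u v : Fin n → F) :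
    hermBilin hF n u v = Cfsg.hermForm n F q v u := rfl

theorem hermForm_conj (hF : Fintype.card F = q ^ 2) {n : ℕ} (u v : Fin n → F) :
    conjHom hF (Cfsg.hermForm n F q u v) = Cfsg.hermForm n F q v u := by
  simp only [Cfsg.hermForm, map_sum, map_mul, ← conjHom_apply hF, conjHom_conjHom]
  exact Finset.sum_congr rfl fun i _ => mul_comm _ _

theorem hermForm_self_fixed (hF : Fintype.card F = q ^ 2) {n : ℕ} (v : Fin n → F) :
    Cfsg.hermForm n F q v v ^ q = Cfsg.hermForm n F q v v := by
  rw [← conjHom_apply hF, hermForm_conj]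

theorem hermBilin_isSymm (hF : Fintype.card F = q ^ 2) (n : ℕ) : (hermBilin hF n).IsSymm :=
  ⟨fun u v => hermForm_conj hF v u⟩

theorem hermBilin_single (hF : Fintype.card F = q ^ 2) {n : ℕ} (i : Fin n) (v : Fin n → F) :
    hermBilin hF n (Pi.single i 1) v = v i := by
  rw [hermBilin_apply, Cfsg.hermForm, Finset.sum_eq_single i]
  · simp
  · intro j _ hj
    rw [Pi.single_eq_of_ne hj, zero_pow_q hF, mul_zero]
  · simp

theorem hermBilin_nondegenerate (hF : Fintype.card F = q ^ 2) (n : ℕ) :
    (hermBilin hF n).Nondegenerate := by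
  constructor
  · intro u hu
    funext i
    have h := hu (Pi.single i 1)
    rw [← hermBilin_isSymm hF n |>.eq (Pi.single i 1) u, map_eq_zero_iff _ (conjHom hF).injective,
      hermBilin_single] at h
    exact h
  · intro v hv
    funext i
    have h := hv (Pi.single i 1)
    rw [hermBilin_single] at h
    exact h

/-- The matrix condition for preserving the form. -/
theorem preserves_hermForm_iff (hF : Fintype.card F = q ^ 2) {n : ℕ} (M : Matrix (Fin n) (Fin n) F) :
    (∀ u v, Cfsg.hermForm n F q (M *ᵥ u) (M *ᵥ v) = Cfsg.hermForm n F q u v) ↔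
      Mᵀ * M.map (conjHom hF) = 1 := by
  have h1 : ∀ (u : Fin n → F) (i), (M *ᵥ u) i = ∑ j, M i j * u j := fun u i => rfl
  have key : ∀ u v : Fin n → F, Cfsg.hermForm n F q (M *ᵥ u) (M *ᵥ v) =
      u ⬝ᵥ ((Mᵀ * M.map (conjHom hF)) *ᵥ (fun j => conjHom hF (v j))) := by
    intro u v
    rw [Matrix.dotProduct_mulVec, ← Matrix.vecMul_vecMul, Matrix.vecMul_transpose,
      ← Matrix.dotProduct_mulVec]
    show ∑ i, (M *ᵥ u) i * (M *ᵥ v) i ^ q = ∑ i, _
    refine Finset.sum_congr rfl fun i _ => ?_
    rw [← conjHom_apply hF, h1 v i, map_sum]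
    congr 1
    exact Finset.sum_congr rfl fun j _ => map_mul _ _ _
  constructor
  · intro h
    ext i j
    have h' := h (Pi.single i 1) (Pi.single j 1)
    rw [key] at h'
    have hs : (fun k => conjHom hF ((Pi.single j (1 : F) : Fin n → F) k)) = Pi.single j 1 := by
      funext k
      rcases eq_or_ne k j with rfl | hk
      · simp
      · simp [hk]
    rw [hs, Matrix.mulVec_single_one, single_one_dotProduct] at h'
    show (Mᵀ * M.map (conjHom hF)) i j = _
    rw [show (Mᵀ * M.map (conjHom hF)) i j = (Mᵀ * M.map (conjHom hF)).col j i from rfl, h',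
      ← hermBilin_apply hF, hermBilin_single, Matrix.one_apply, Pi.single_apply]
    exact if_congr ⟨Eq.symm, Eq.symm⟩ rfl rfl
  · intro h u v
    rw [key, h, Matrix.one_mulVec]
    simp only [Cfsg.hermForm, dotProduct, conjHom_apply]

theorem mem_GU_iff (hF : Fintype.card F = q ^ 2) {n : ℕ} (g : GL (Fin n) F) :
    g ∈ Cfsg.GU n F q ↔ (g : Matrix (Fin n) (Fin n) F)ᵀ * (g : Matrix (Fin n) (Fin n) F).map (conjHom hF) = 1 :=
  preserves_hermForm_iff hF _

theorem mem_SU_iff (hF : Fintype.card F = q ^ 2) {n : ℕ} (g : Matrix.SpecialLinearGroup (Fin n) F) :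
    g ∈ Cfsg.SU n F q ↔ (g : Matrix (Fin n) (Fin n) F)ᵀ * (g : Matrix (Fin n) (Fin n) F).map (conjHom hF) = 1 :=
  preserves_hermForm_iff hF _

/-- Diagonal matrices of norm one entries preserve the form. -/
theorem diagonal_preserves (hF : Fintype.card F = q ^ 2) {n : ℕ} (d : Fin n → F)
    (hd : ∀ i, d i ^ (q + 1) = 1) :
    (Matrix.diagonal d)ᵀ * (Matrix.diagonal d).map (conjHom hF) = 1 := by
  rw [Matrix.diagonal_transpose, Matrix.diagonal_map (map_zero _), Matrix.diagonal_mul_diagonal,
    ← Matrix.diagonal_one]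
  congr 1
  funext i
  show d i * conjHom hF (d i) = 1
  rw [conjHom_apply, ← pow_succ', hd]

end Cfsg.Agent.Lib.Classical
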