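import Mathlib
import Cfsg.Prelude.Def_Classical
import Cfsg.Agent.Lib.Involutions.TwoGroupRec
import Cfsg.Agent.Lib.Classical.HermForm

/-!
The two-dimensional orthogonal groups are dihedral.
-/

set_option autoImplicit false

namespace Cfsg.Agent.Lib.Classical

open scoped Matrix

/-- A group consisting of a cyclic rotation group and its coset by an inverting involution. -/
theorem dihedral_of_rot {G N : Type*} [Group G] [Group N] [Finite N] [IsCyclic N] {H : Subgroup G}
    {n : ℕ} (hn : Nat.card N = n) (rot : N →* G) (hinj : Function.Injective rot) (y : G)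
    (hrot : ∀ u, rot u ∈ H) (hy : y ∈ H) (hy2 : y * y = 1) (hyN : ∀ u, y ≠ rot u)
    (hinv : ∀ u, y * rot u * y = rot u⁻¹) (hall : ∀ g ∈ H, ∃ u, g = rot u ∨ g = rot u * y) :
    Nonempty (H ≃* DihedralGroup n) := by
  obtain ⟨z, hz⟩ := IsCyclic.exists_ofOrder_eq_natCard (α := N)
  haveI : NeZero n := ⟨by rw [← hn]; exact Nat.card_pos.ne'⟩
  let e : N × Bool → H := fun p =>
    if p.2 then ⟨rot p.1 * y, mul_mem (hrot _) hy⟩ else ⟨rot p.1, hrot _⟩
  have he : Function.Bijective e := by
    have key : ∀ u v, rot u * y ≠ rot v := fun u v h => by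
      refine hyN (u⁻¹ * v) ?_
      rw [map_mul, map_inv, ← h, inv_mul_cancel_left]
    constructor
    · rintro ⟨u, b⟩ ⟨v, c⟩ h
      cases b <;> cases c <;>
        simp only [e, Bool.false_eq_true, if_false, if_true, Subtype.mk.injEq] at h
      · rw [hinj h]
      · exact absurd h.symm (key _ _)
      · exact absurd h (key _ _)
      · rw [hinj (mul_right_cancel h)]
    · rintro ⟨g, hg⟩
      obtain ⟨u, rfl | rfl⟩ := hall g hg
      · exact ⟨(u, false), rfl⟩
      · exact ⟨(u, true), rfl⟩
  have hcard : Nat.card H = 2 * n := by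
    rw [← Nat.card_eq_of_bijective e he, Nat.card_prod, hn, mul_comm]
    simp
  refine Involutions.nonempty_mulEquiv_dihedral (x := rot z) (y := y) hcard (hrot z) hy ?_ hy2 ?_ ?_
  · rw [orderOf_injective rot hinj, hz, hn]
  · rw [Subgroup.mem_zpowers_iff]
    rintro ⟨k, hk⟩
    exact hyN (z ^ k) (by rw [map_zpow, hk])
  · have hyi : y⁻¹ = y := inv_eq_of_mul_eq_one_left hy2
    rw [hyi, hinv, map_inv]

variable {F : Type*} [Field F] {ι : Type} [Fintype ι] [DecidableEq ι]
  {A : Type*} [AddCommGroup A] [Module F A]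

/-- Transport of linear automorphisms to invertible matrices. -/
noncomputable def autToGL (e : (ι → F) ≃ₗ[F] A) : (A ≃ₗ[F] A) →* GL ι F :=
  (Matrix.GeneralLinearGroup.toLin (R := F) (n := ι)).symm.toMonoidHom.comp
    ((LinearMap.GeneralLinearGroup.generalLinearEquiv F (ι → F)).symm.toMonoidHom.comp
      { toFun := fun f => (e.trans f).trans e.symm
        map_one' := by ext; simp
        map_mul' := fun f g => by ext; simp })

theorem autToGL_mulVec (e : (ι → F) ≃ₗ[F] A) (f : A ≃ₗ[F] A) (v : ι → F) :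
    (autToGL e f : Matrix ι ι F) *ᵥ v = e.symm (f (e v)) := by
  show LinearMap.toMatrixAlgEquiv' _ *ᵥ v = _
  rw [← Matrix.toLin'_apply, LinearMap.toMatrixAlgEquiv', ]
  simp
  rfl

theorem autToGL_injective (e : (ι → F) ≃ₗ[F] A) : Function.Injective (autToGL e) := by
  intro f g h
  ext z
  have := congrArg (fun M : GL ι F => (M : Matrix ι ι F) *ᵥ e.symm z) h
  simp only [autToGL_mulVec, LinearEquiv.apply_symm_apply] at this
  exact e.symm.injective this

theorem gl_ext_mulVec {g h : GL ι F} (H : ∀ v, (g : Matrix ι ι F) *ᵥ v = (h : Matrix ι ι F) *ᵥ v) :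
    g = h :=
  Units.ext (Matrix.ext_iff_mulVec.mpr H)

/-- Recognition criterion for the isometry group of a form `Q` pulled back from `A`. -/
theorem dihedral_isometryGroup {N : Type*} [Group N] [Finite N] [IsCyclic N] {n : ℕ}
    (hn : Nat.card N = n) (e : (ι → F) ≃ₗ[F] A) (Q : (ι → F) → F) (R : A → F)
    (hQ : ∀ v, Q v = R (e v)) (rot : N →* (A ≃ₗ[F] A)) (hinj : Function.Injective rot)
    (y : A ≃ₗ[F] A) (hrot : ∀ u z, R (rot u z) = R z) (hy : ∀ z, R (y z) = R z) (hy2 : y * y = 1)
    (hyN : ∀ u, y ≠ rot u) (hinv : ∀ u, y * rot u * y = rot u⁻¹)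
    (hall : ∀ f : A →ₗ[F] A, (∀ z, R (f z) = R z) →
      ∃ u, (∀ z, f z = rot u z) ∨ ∀ z, f z = rot u (y z)) :
    Nonempty (Cfsg.isometryGroup F Q ≃* DihedralGroup n) := by
  have hmem : ∀ f : A ≃ₗ[F] A, (∀ z, R (f z) = R z) → autToGL e f ∈ Cfsg.isometryGroup F Q := by
    intro f hf u _
    show Q ((autToGL e f : Matrix ι ι F) *ᵥ u) = Q u
    rw [autToGL_mulVec, hQ, hQ, LinearEquiv.apply_symm_apply, hf]
  refine dihedral_of_rot hn ((autToGL e).comp rot) ((autToGL_injective e).comp hinj) (autToGL e y)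
    (fun u => hmem _ (hrot u)) (hmem _ hy) (by rw [← map_mul, hy2, map_one]) ?_ ?_ ?_
  · intro u h
    exact hyN u (autToGL_injective e h)
  · intro u
    show autToGL e y * autToGL e (rot u) * autToGL e y = autToGL e (rot u⁻¹)
    rw [← map_mul, ← map_mul, hinv]
  · intro g hg
    let f : A →ₗ[F] A :=
      e.toLinearMap ∘ₗ (Matrix.mulVecLin (g : Matrix ι ι F)) ∘ₗ e.symm.toLinearMap
    have hf : ∀ z, R (f z) = R z := by
      intro z
      have h : Q ((g : Matrix ι ι F) *ᵥ e.symm z) = Q (e.symm z) := hg (e.symm z) (e.symm z)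
      rw [hQ, hQ, LinearEquiv.apply_symm_apply] at h
      exact h
    obtain ⟨u, h | h⟩ := hall f hf <;> refine ⟨u, ?_⟩
    · left
      refine gl_ext_mulVec fun v => ?_
      show _ = (autToGL e (rot u) : Matrix ι ι F) *ᵥ v
      rw [autToGL_mulVec, ← h]
      simp [f]
    · right
      refine gl_ext_mulVec fun v => ?_
      rw [MonoidHom.comp_apply, Units.val_mul, ← Matrix.mulVec_mulVec, autToGL_mulVec,
        autToGL_mulVec, LinearEquiv.apply_symm_apply, ← h]
      simp [f]

/-- `O⁺₂(q)` is dihedral of order `2(q-1)`. -/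
theorem nonempty_orthPlusTwo [Fintype F] :
    Nonempty (Cfsg.isometryGroup F (Cfsg.quadFormPlus 1 F) ≃* DihedralGroup (Fintype.card F - 1)) := by
  classical
  let e : ((Fin 1 ⊕ Fin 1) → F) ≃ₗ[F] (F × F) :=
    (LinearEquiv.sumArrowLequivProdArrow (Fin 1) (Fin 1) F F).trans
      ((LinearEquiv.funUnique (Fin 1) F F).prodCongr (LinearEquiv.funUnique (Fin 1) F F))
  let rot : Fˣ →* ((F × F) ≃ₗ[F] (F × F)) :=
    { toFun := fun u => (LinearEquiv.smulOfUnit u).prodCongr (LinearEquiv.smulOfUnit u⁻¹)
      map_one' := by ext <;> simp [LinearEquiv.smulOfUnit]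
      map_mul' := fun u v => by
        ext <;> simp [LinearEquiv.smulOfUnit, Units.smul_def, mul_assoc, mul_comm, mul_left_comm] }
  have hr : ∀ (u : Fˣ) (z : F × F), rot u z = ((u : F) * z.1, ((u⁻¹ : Fˣ) : F) * z.2) :=
    fun u z => rfl
  refine dihedral_isometryGroup (by rw [natCard_units]) e _ (fun z => z.1 * z.2) ?_ rot ?_
    (LinearEquiv.prodComm F F F) ?_ ?_ ?_ ?_ ?_ ?_
  · intro v
    simp [Cfsg.quadFormPlus, e]
  · intro u v h
    have := congrArg (fun f : (F × F) ≃ₗ[F] (F × F) => (f (1, 0)).1) h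
    simp only [hr, mul_one] at this
    exact Units.ext this
  · intro u z
    simp only [hr]
    rw [mul_mul_mul_comm, ← Units.val_mul, mul_inv_cancel, Units.val_one, one_mul]
  · intro z
    exact mul_comm _ _
  · ext z <;> rfl
  · intro u h
    have := congrArg (fun f : (F × F) ≃ₗ[F] (F × F) => (f (1, 0)).2) h
    simp [hr] at this
  · intro u
    apply LinearEquiv.ext
    intro z
    show LinearEquiv.prodComm F F F (rot u (LinearEquiv.prodComm F F F z)) = rot u⁻¹ z
    rw [hr u⁻¹ z]
    simp [hr]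
  · intro f hf
    have hz : ∀ z : F × F, f z = z.1 • f (1, 0) + z.2 • f (0, 1) := by
      intro z
      rw [← map_smul, ← map_smul, ← map_add]
      congr 1
      ext <;> simp
    have h1 := hf (1, 0)
    have h2 := hf (0, 1)
    have h3 := hf (1, 1)
    rw [hz (1, 1)] at h3
    simp only [one_smul, Prod.fst_add, Prod.snd_add, mul_zero, zero_mul, mul_one] at h1 h2 h3
    set a := (f (1, 0)).1 with ha
    set b := (f (1, 0)).2 with hb
    set c := (f (0, 1)).1 with hc
    set d := (f (0, 1)).2 with hd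
    rcases mul_eq_zero.mp h1 with h | h
    · have hbc : b * c = 1 := by linear_combination h3 - h2 - h1 - d * h
      have hd0 : d = 0 := (mul_eq_zero.mp h2).resolve_left (right_ne_zero_of_mul_eq_one hbc)
      refine ⟨Units.mkOfMulEqOne c b (by rw [mul_comm, hbc]), Or.inr fun z => ?_⟩
      have hb' : b = c⁻¹ := eq_inv_of_mul_eq_one_left hbc
      rw [hz z]
      ext <;> simp [hr, ← ha, ← hb, ← hc, ← hd, h, hd0, hb', mul_comm]
    · have had : a * d = 1 := by linear_combination h3 - h2 - h1 - c * h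
      have hc0 : c = 0 := (mul_eq_zero.mp h2).resolve_right (right_ne_zero_of_mul_eq_one had)
      refine ⟨Units.mkOfMulEqOne a d had, Or.inl fun z => ?_⟩
      have hd' : d = a⁻¹ := eq_inv_of_mul_eq_one_right had
      rw [hz z]
      ext <;> simp [hr, ← ha, ← hb, ← hc, ← hd, h, hc0, hd', mul_comm]

open QuadraticAlgebra in
/-- `O⁻₂(q)` is dihedral of order `2(q+1)`. -/
theorem nonempty_orthMinusTwo [Fintype F] {q : ℕ} (hq : Fintype.card F = q) (a b : F)
    (hab : ∀ z₁ z₂ : F, z₁ ^ 2 + a * z₁ * z₂ + b * z₂ ^ 2 = 0 → z₁ = 0 ∧ z₂ = 0) :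
    Nonempty (Cfsg.isometryGroup F (Cfsg.quadFormMinus 0 F a b) ≃* DihedralGroup (q + 1)) := by
  classical
  haveI : Fact (∀ r : F, r ^ 2 ≠ -b + a * r) := ⟨fun r h => one_ne_zero (hab (-r) 1 (by
    linear_combination h)).2⟩
  haveI : Finite (QuadraticAlgebra F (-b) a) := Module.finite_of_finite F
  letI : Fintype (QuadraticAlgebra F (-b) a) := Fintype.ofFinite (QuadraticAlgebra F (-b) a)
  have hK : Fintype.card (QuadraticAlgebra F (-b) a) = q ^ 2 := by
    rw [Fintype.card_congr (QuadraticAlgebra.equivProd (-b) a), Fintype.card_prod, hq, pow_two]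
  set σ := conjHom hK with hσdef
  let ω' : (QuadraticAlgebra F (-b) a) := ⟨a, -1⟩
  have hbase : ∀ r : F, σ (algebraMap F (QuadraticAlgebra F (-b) a) r) = algebraMap F (QuadraticAlgebra F (-b) a) r := fun r => by
    rw [conjHom_apply, ← map_pow, ← hq, FiniteField.pow_card]
  have hroots : ∀ w : (QuadraticAlgebra F (-b) a), w * w = algebraMap F (QuadraticAlgebra F (-b) a) (-b) + algebraMap F (QuadraticAlgebra F (-b) a) a * w → w = ω ∨ w = ω' := by
    intro w hw
    have h : (w - ω) * (w - ω') = 0 := by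
      have h1 : (ω : (QuadraticAlgebra F (-b) a)) + ω' = algebraMap F (QuadraticAlgebra F (-b) a) a := by ext <;> simp [ω']
      have h2 : (ω : (QuadraticAlgebra F (-b) a)) * ω' = algebraMap F (QuadraticAlgebra F (-b) a) b := by ext <;> simp [ω']
      linear_combination hw - w * h1 + h2 - (map_neg (algebraMap F (QuadraticAlgebra F (-b) a)) b).symm
    rcases mul_eq_zero.mp h with h' | h'
    · exact Or.inl (sub_eq_zero.mp h')
    · exact Or.inr (sub_eq_zero.mp h')
  have hdec : ∀ z : (QuadraticAlgebra F (-b) a), z = algebraMap F (QuadraticAlgebra F (-b) a) z.re + algebraMap F (QuadraticAlgebra F (-b) a) z.im * ω := fun z => by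
    ext <;> simp
  have hσω : σ ω = ω' := by
    rcases hroots (σ ω) (by
      rw [← map_mul, omega_mul_omega_eq_algebraMap, map_add, map_mul, hbase, hbase]) with h | h
    · exfalso
      refine conjHom_ne_id hK (RingHom.ext fun z => ?_)
      show σ z = z
      conv_lhs => rw [hdec z, map_add, map_mul, hbase, hbase, h]
      exact (hdec z).symm
    · exact h
  have hσ : ∀ z : (QuadraticAlgebra F (-b) a), σ z = algebraMap F (QuadraticAlgebra F (-b) a) z.re + algebraMap F (QuadraticAlgebra F (-b) a) z.im * ω' := fun z => by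
    conv_lhs => rw [hdec z, map_add, map_mul, hbase, hbase, hσω]
  let R : (QuadraticAlgebra F (-b) a) → F := fun z => z.re ^ 2 + a * z.re * z.im + b * z.im ^ 2
  have hR : ∀ z : (QuadraticAlgebra F (-b) a), algebraMap F (QuadraticAlgebra F (-b) a) (R z) = z * σ z := by
    intro z
    rw [hσ]
    ext <;> simp [R, ω', pow_two] <;> ring
  have hRinj : ∀ z w : (QuadraticAlgebra F (-b) a), z * σ z = w * σ w → R z = R w := fun z w h =>
    (algebraMap F (QuadraticAlgebra F (-b) a)).injective (by rw [hR, hR, h])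
  let N : Subgroup (QuadraticAlgebra F (-b) a)ˣ := (powMonoidHom (q + 1) : (QuadraticAlgebra F (-b) a)ˣ →* (QuadraticAlgebra F (-b) a)ˣ).ker
  have hN : ∀ u : N, ((u.1 : (QuadraticAlgebra F (-b) a)ˣ) : (QuadraticAlgebra F (-b) a)) * σ ((u.1 : (QuadraticAlgebra F (-b) a)ˣ) : (QuadraticAlgebra F (-b) a)) = 1 := fun u => by
    rw [conjHom_apply, ← pow_succ', ← Units.val_pow_eq_pow_val,
      (show u.1 ^ (q + 1) = 1 from MonoidHom.mem_ker.mp u.2), Units.val_one]
  have hNcard : Nat.card N = q + 1 := by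
    rw [IsCyclic.card_powMonoidHom_ker, natCard_units, hK]
    exact Nat.gcd_eq_right ⟨q - 1, by rw [← Nat.sq_sub_sq, one_pow]⟩
  let rot : N →* ((QuadraticAlgebra F (-b) a) ≃ₗ[F] (QuadraticAlgebra F (-b) a)) :=
    { toFun := fun u =>
        { toFun := fun z => ((u.1 : (QuadraticAlgebra F (-b) a)ˣ) : (QuadraticAlgebra F (-b) a)) * z
          map_add' := fun x y => mul_add _ _ _
          map_smul' := fun c x => mul_smul_comm _ _ _
          invFun := fun z => ((u.1⁻¹ : (QuadraticAlgebra F (-b) a)ˣ) : (QuadraticAlgebra F (-b) a)) * z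
          left_inv := fun z => by simp
          right_inv := fun z => by simp }
      map_one' := by apply LinearEquiv.ext; intro z; exact one_mul z
      map_mul' := fun u v => by apply LinearEquiv.ext; intro z; exact mul_assoc _ _ z }
  have hr : ∀ (u : N) (z : (QuadraticAlgebra F (-b) a)), rot u z = ((u.1 : (QuadraticAlgebra F (-b) a)ˣ) : (QuadraticAlgebra F (-b) a)) * z := fun u z => rfl
  let y : (QuadraticAlgebra F (-b) a) ≃ₗ[F] (QuadraticAlgebra F (-b) a) :=
    { toFun := σ
      map_add' := map_add σ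
      map_smul' := fun c x => by
        rw [Algebra.smul_def, map_mul, hbase, RingHom.id_apply, Algebra.smul_def]
      invFun := σ
      left_inv := conjHom_conjHom hK
      right_inv := conjHom_conjHom hK }
  have hy : ∀ z, y z = σ z := fun z => rfl
  let e : ((Fin 0 ⊕ Fin 0) ⊕ Fin 2 → F) ≃ₗ[F] (QuadraticAlgebra F (-b) a) :=
    { toFun := fun v => ⟨v (.inr 0), v (.inr 1)⟩
      map_add' := fun x y => by ext <;> simp
      map_smul' := fun c x => by ext <;> simp
      invFun := fun z => Sum.elim (fun i => i.elim Fin.elim0 Fin.elim0) ![z.re, z.im]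
      left_inv := fun v => by
        funext i
        rcases i with (i | i) | i
        · exact i.elim0
        · exact i.elim0
        · fin_cases i <;> rfl
      right_inv := fun z => by ext <;> rfl }
  refine dihedral_isometryGroup (N := N) hNcard e _ R ?_ rot ?_ y ?_ ?_ ?_ ?_ ?_ ?_
  · intro v
    simp [Cfsg.quadFormMinus, e, R]
  · intro u v h
    have := congrArg (fun f : (QuadraticAlgebra F (-b) a) ≃ₗ[F] (QuadraticAlgebra F (-b) a) => f 1) h
    simp only [hr, mul_one] at this
    exact Subtype.ext (Units.ext this)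
  · intro u z
    refine hRinj _ _ ?_
    rw [hr, map_mul, mul_mul_mul_comm, hN, one_mul]
  · intro z
    refine hRinj _ _ ?_
    rw [hy, conjHom_conjHom, mul_comm]
  · apply LinearEquiv.ext
    intro z
    exact conjHom_conjHom hK z
  · intro u h
    have h1 := congrArg (fun f : (QuadraticAlgebra F (-b) a) ≃ₗ[F] (QuadraticAlgebra F (-b) a) => f 1) h
    simp only [hy, map_one, hr, mul_one] at h1
    have h2 := congrArg (fun f : (QuadraticAlgebra F (-b) a) ≃ₗ[F] (QuadraticAlgebra F (-b) a) => f ω) h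
    simp only [hy, hr, ← h1, one_mul, hσω] at h2
    refine conjHom_ne_id hK (RingHom.ext fun z => ?_)
    show σ z = z
    rw [hσ z, h2]
    exact (hdec z).symm
  · intro u
    apply LinearEquiv.ext
    intro z
    show σ (((u.1 : (QuadraticAlgebra F (-b) a)ˣ) : (QuadraticAlgebra F (-b) a)) * σ z) = ((u.1⁻¹ : (QuadraticAlgebra F (-b) a)ˣ) : (QuadraticAlgebra F (-b) a)) * z
    rw [map_mul, conjHom_conjHom]
    congr 1
    exact (Units.inv_eq_of_mul_eq_one_right (hN u)).symm
  · intro f hf
    set c := f 1 with hc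
    have hc1 : c * σ c = 1 := by
      rw [← hR, hf]; simp [R]
    have hc' : Units.mkOfMulEqOne c (σ c) hc1 ∈ N := by
      rw [MonoidHom.mem_ker, powMonoidHom_apply]
      apply Units.ext
      rw [Units.val_pow_eq_pow_val, Units.val_mkOfMulEqOne, Units.val_one, pow_succ', ← conjHom_apply hK]
      exact hc1
    set w := σ c * f ω with hw
    have hlin : ∀ z : (QuadraticAlgebra F (-b) a), f z = c * (algebraMap F (QuadraticAlgebra F (-b) a) z.re + algebraMap F (QuadraticAlgebra F (-b) a) z.im * w) := by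
      intro z
      have e1 : z = z.re • (1 : (QuadraticAlgebra F (-b) a)) + z.im • ω := by ext <;> simp
      conv_lhs => rw [e1, map_add, map_smul, map_smul, ← hc]
      rw [Algebra.smul_def, Algebra.smul_def, hw, mul_add, mul_left_comm c (algebraMap F (QuadraticAlgebra F (-b) a) z.im),
        ← mul_assoc c (σ c), hc1, one_mul, mul_comm c]
    have hR' : ∀ x r : F, R ⟨x + r * w.re, r * w.im⟩ = R ⟨x, r⟩ := by
      intro x r
      apply hRinj
      have h1 : (⟨x + r * w.re, r * w.im⟩ : (QuadraticAlgebra F (-b) a)) = algebraMap F (QuadraticAlgebra F (-b) a) x + algebraMap F (QuadraticAlgebra F (-b) a) r * w := by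
        ext <;> simp
      have h2 := congrArg (algebraMap F (QuadraticAlgebra F (-b) a)) (hf ⟨x, r⟩)
      rw [hR, hR, hlin, map_mul, mul_mul_mul_comm, hc1, one_mul] at h2
      rw [h1]
      exact h2
    have h01 := hR' 0 1
    have h11 := hR' 1 1
    simp only [R] at h01 h11
    rcases hroots w (by
      ext <;> simp
      · linear_combination w.re * (h11 - h01) - h01
      · linear_combination w.im * (h11 - h01)) with h | h
    · refine ⟨⟨_, hc'⟩, Or.inl fun z => ?_⟩
      rw [hlin, h, ← hdec]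
      rfl
    · refine ⟨⟨_, hc'⟩, Or.inr fun z => ?_⟩
      rw [hlin, h, ← hσ]
      rfl

end Cfsg.Agent.Lib.Classical
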