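import Cfsg.Agent.Lib.Classical.OrthCard
import Cfsg.Agent.Lib.Geometry.OrthQuotient
import Cfsg.Agent.Lib.Geometry.OrthTransfer

/-!
The centraliser of the commutator subgroup of an orthogonal group is `±1` (Witt index at least 3),
and orders of the projective groups.
-/

set_option autoImplicit false

namespace Cfsg.Agent.Lib.Classical

open QuadraticMap (polarBilin)
open Cfsg.Agent.Lib.Geometry (quadIsometries mem_quadIsometries)
open scoped commutatorElement

variable {F : Type*} [Field F] {W : Type*} [AddCommGroup W] [Module F W]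

/-- The nilpotent part of a root element. -/
def hyperNil (m : ℕ) (i j : Fin m) (c : F) :
    ((Fin m → F) × (Fin m → F) × W) →ₗ[F] ((Fin m → F) × (Fin m → F) × W) where
  toFun p := (Pi.single i (c * p.1 j), Pi.single j (-(c * p.2.1 i)), 0)
  map_add' p r := by
    refine Prod.ext ?_ (Prod.ext ?_ (add_zero _).symm)
    · simp [mul_add, Pi.single_add]
    · simp [mul_add, ← Pi.single_add, add_comm]
  map_smul' a p := by
    refine Prod.ext ?_ (Prod.ext ?_ (smul_zero _).symm)
    · simp [← Pi.single_smul, mul_left_comm]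
    · simp [← Pi.single_smul, mul_left_comm]

theorem hyperNil_apply (m : ℕ) (i j : Fin m) (c : F) (p : (Fin m → F) × (Fin m → F) × W) :
    hyperNil m i j c p = (Pi.single i (c * p.1 j), Pi.single j (-(c * p.2.1 i)), 0) := rfl

theorem hyperNil_sq (m : ℕ) {i j : Fin m} (hij : i ≠ j) (c d : F) (p : (Fin m → F) × (Fin m → F) × W) :
    hyperNil m i j c (hyperNil m i j d p) = 0 := by
  simp [hyperNil_apply, Pi.single_eq_of_ne hij.symm, Pi.single_eq_of_ne hij]

/-- A root element. -/
noncomputable def hyperRoot (Q₀ : QuadraticForm F W) (m : ℕ) {i j : Fin m} (hij : i ≠ j) (c : F) :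
    quadIsometries (hyperForm m Q₀) :=
  ⟨LinearEquiv.ofLinear (LinearMap.id + hyperNil m i j c) (LinearMap.id + hyperNil m i j (-c))
      (LinearMap.ext fun p => by
        simp only [LinearMap.comp_apply, LinearMap.add_apply, LinearMap.id_apply, map_add,
          hyperNil_sq m hij, add_zero]
        rw [hyperNil_apply, hyperNil_apply, add_assoc]
        refine add_eq_left.mpr (Prod.ext ?_ (Prod.ext ?_ (add_zero _)))
        · simp [← Pi.single_add]
        · simp [← Pi.single_add])
      (LinearMap.ext fun p => by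
        simp only [LinearMap.comp_apply, LinearMap.add_apply, LinearMap.id_apply, map_add,
          hyperNil_sq m hij, add_zero]
        rw [hyperNil_apply, hyperNil_apply, add_assoc]
        refine add_eq_left.mpr (Prod.ext ?_ (Prod.ext ?_ (add_zero _)))
        · simp [← Pi.single_add]
        · simp [← Pi.single_add]), fun p => by
    show hyperForm m Q₀ (p + hyperNil m i j c p) = _
    simp only [hyperForm_apply, hyperNil_apply, Prod.fst_add, Prod.snd_add, add_zero,
      Pi.add_apply, mul_add, add_mul, Finset.sum_add_distrib]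
    simp [Pi.single_apply, hij, hij.symm]
    ring⟩

theorem hyperRoot_apply (Q₀ : QuadraticForm F W) (m : ℕ) {i j : Fin m} (hij : i ≠ j) (c : F)
    (p : (Fin m → F) × (Fin m → F) × W) :
    (hyperRoot Q₀ m hij c).1 p = p + hyperNil m i j c p := rfl

theorem hyperRoot_inv (Q₀ : QuadraticForm F W) (m : ℕ) {i j : Fin m} (hij : i ≠ j) (c : F) :
    (hyperRoot Q₀ m hij c)⁻¹ = hyperRoot Q₀ m hij (-c) := by
  refine Subtype.ext (LinearEquiv.ext fun p => ?_)
  rfl

/-- Root elements are commutators. -/
theorem hyperRoot_mem_commutator (Q₀ : QuadraticForm F W) (m : ℕ) (hm : 3 ≤ m) {i j : Fin m}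
    (hij : i ≠ j) (c : F) : hyperRoot Q₀ m hij c ∈ commutator (quadIsometries (hyperForm m Q₀)) := by
  classical
  obtain ⟨k, hk⟩ : ∃ k : Fin m, k ∉ ({i, j} : Finset (Fin m)) := by
    by_contra h
    push Not at h
    have : (Finset.univ : Finset (Fin m)).card ≤ ({i, j} : Finset (Fin m)).card :=
      Finset.card_le_card fun x _ => h x
    rw [Finset.card_univ, Fintype.card_fin] at this
    have := Finset.card_le_two (a := i) (b := j)
    omega
  simp only [Finset.mem_insert, Finset.mem_singleton, not_or] at hk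
  have hik : i ≠ k := fun h => hk.1 h.symm
  have e : hyperRoot Q₀ m hij c = ⁅hyperRoot Q₀ m hik c, hyperRoot Q₀ m hk.2 (1 : F)⁆ := by
    rw [commutatorElement_def, hyperRoot_inv, hyperRoot_inv]
    refine Subtype.ext (LinearEquiv.ext fun p => ?_)
    show (hyperRoot Q₀ m hij c).1 p = (hyperRoot Q₀ m hik c).1 ((hyperRoot Q₀ m hk.2 (1 : F)).1
      ((hyperRoot Q₀ m hik (-c)).1 ((hyperRoot Q₀ m hk.2 (-1 : F)).1 p)))
    simp only [hyperRoot_apply, hyperNil_apply]
    refine Prod.ext (funext fun r => ?_) (Prod.ext (funext fun r => ?_) (by simp))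
    · simp [Pi.single_apply, hij, hij.symm, hik, hik.symm, hk.2, Ne.symm hk.2]
      split_ifs <;> ring
    · simp [Pi.single_apply, hij, hij.symm, hik, hik.symm, hk.2, Ne.symm hk.2]
      split_ifs <;> ring
  rw [e, commutator_def]
  exact Subgroup.commutator_mem_commutator (Subgroup.mem_top _) (Subgroup.mem_top _)

/-- An isometry commuting with the commutator subgroup is `±1`. -/
theorem scalar_of_commute_commutator [FiniteDimensional F W] (Q₀ : QuadraticForm F W)
    (m : ℕ) (hm : 3 ≤ m) (hQ : (polarBilin (hyperForm m Q₀)).Nondegenerate)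
    (g : quadIsometries (hyperForm m Q₀))
    (hg : ∀ h ∈ commutator (quadIsometries (hyperForm m Q₀)), g * h = h * g) :
    ∃ c : F, (c = 1 ∨ c = -1) ∧ ∀ p, g.1 p = c • p := by
  classical
  let i₀ : Fin m := ⟨0, by omega⟩
  let i₁ : Fin m := ⟨1, by omega⟩
  let i₂ : Fin m := ⟨2, by omega⟩
  have h01 : i₀ ≠ i₁ := by simp [i₀, i₁, Fin.ext_iff]
  have h02 : i₀ ≠ i₂ := by simp [i₀, i₂, Fin.ext_iff]
  have h12 : i₁ ≠ i₂ := by simp [i₁, i₂, Fin.ext_iff]
  let E : Fin m → (Fin m → F) × (Fin m → F) × W := fun i => (Pi.single i 1, 0, 0)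
  let G : Fin m → (Fin m → F) × (Fin m → F) × W := fun i => (0, Pi.single i 1, 0)
  -- the line of `E i₀` is fixed by everything commuting with the commutator
  have hline : ∀ k : quadIsometries (hyperForm m Q₀),
      (∀ h ∈ commutator (quadIsometries (hyperForm m Q₀)), k * h = h * k) →
      ∃ c : F, k.1 (E i₀) = c • E i₀ := by
    intro k hk
    have key : ∀ j (hj : i₀ ≠ j), k.1 (E i₀) = hyperNil m i₀ j 1 (k.1 (E j)) := by
      intro j hj
      have h := congrArg (fun t : quadIsometries (hyperForm m Q₀) => t.1 (E j))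
        (hk _ (hyperRoot_mem_commutator Q₀ m hm hj 1))
      replace h : k.1 ((hyperRoot Q₀ m hj 1).1 (E j)) = (hyperRoot Q₀ m hj 1).1 (k.1 (E j)) := h
      rw [hyperRoot_apply, hyperRoot_apply, map_add, add_right_inj] at h
      rw [← h]
      congr 1
      simp [hyperNil_apply, E]
    refine ⟨(k.1 (E i₀)).1 i₀, ?_⟩
    have e1 := key i₁ h01
    have e2 := key i₂ h02
    refine Prod.ext ?_ (Prod.ext ?_ ?_)
    · rw [e1, hyperNil_apply]
      simp [E, ← Pi.single_smul]
    · funext r
      rcases eq_or_ne r i₁ with rfl | hr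
      · rw [e2, hyperNil_apply]
        simp [E, h12]
      · rw [e1, hyperNil_apply]
        simp [E, hr]
    · rw [e1, hyperNil_apply]
      simp [E]
  have hsing : ∀ v, hyperForm m Q₀ v = 0 → ∃ c : F, g.1 v = c • v := by
    intro v hv
    rcases eq_or_ne v 0 with rfl | hv0
    · exact ⟨0, by rw [map_zero, zero_smul]⟩
    have hE : E i₀ ≠ 0 := fun h => by
      have := congrFun (congrArg (fun p : (Fin m → F) × (Fin m → F) × W => p.1) h) i₀
      simp [E] at this
    obtain ⟨h, hh⟩ := Geometry.exists_isometry_apply_eq (hyperForm m Q₀) hQ hE hv0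
      (by rw [hv, hyperForm_apply]; simp [E])
    obtain ⟨c, hc⟩ := hline (h⁻¹ * g * h) fun k hk => by
      have h2 := hg _ ((inferInstance : (commutator (quadIsometries (hyperForm m Q₀))).Normal).conj_mem k hk h)
      calc h⁻¹ * g * h * k = h⁻¹ * (g * (h * k * h⁻¹)) * h := by group
        _ = h⁻¹ * (h * k * h⁻¹ * g) * h := by rw [h2]
        _ = _ := by group
    refine ⟨c, ?_⟩
    replace hc : h.1.symm (g.1 (h.1 (E i₀))) = c • E i₀ := hc
    rw [LinearEquiv.symm_apply_eq, hh, map_smul, hh] at hc
    exact hc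
  have hval : ∀ v w, hyperForm m Q₀ v = 0 → hyperForm m Q₀ w = 0 → hyperForm m Q₀ (v + w) = 0 →
      ∀ a b : F, g.1 v = a • v → g.1 w = b • w → (∀ s t : F, s • v + t • w = 0 → s = 0 ∧ t = 0) →
      a = b := by
    intro v w hv hw hvw a b ha hb hind
    obtain ⟨d, hd⟩ := hsing _ hvw
    rw [map_add, ha, hb, smul_add] at hd
    have h0 : (a - d) • v + (b - d) • w = 0 := by
      rw [sub_smul, sub_smul]; linear_combination (norm := module) hd
    obtain ⟨e1, e2⟩ := hind _ _ h0
    linear_combination e1 - e2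
  have hqE : ∀ i, hyperForm m Q₀ (E i) = 0 := fun i => by simp [hyperForm_apply, E]
  have hqG : ∀ i, hyperForm m Q₀ (G i) = 0 := fun i => by simp [hyperForm_apply, G]
  obtain ⟨c, hc⟩ := hsing _ (hqE i₀)
  choose a ha using fun i => hsing _ (hqE i)
  choose b hb using fun i => hsing _ (hqG i)
  have hab : ∀ i j, i ≠ j → a i = b j := by
    intro i j hij
    refine hval _ _ (hqE i) (hqG j) ?_ _ _ (ha i) (hb j) ?_
    · simp [hyperForm_apply, E, G, Pi.single_apply, hij, hij.symm]
    · intro s t h
      exact ⟨by simpa [E, G] using congrFun (congrArg (fun p : (Fin m → F) × (Fin m → F) × W => p.1) h) i,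
        by simpa [E, G] using congrFun (congrArg (fun p : (Fin m → F) × (Fin m → F) × W => p.2.1) h) j⟩
  have haa : ∀ i, a i = a i₀ := by
    intro i
    rcases eq_or_ne i i₀ with rfl | hi
    · rfl
    · refine hval _ _ (hqE i) (hqE i₀) ?_ _ _ (ha i) (ha i₀) ?_
      · simp [hyperForm_apply, E]
      · intro s t h
        have h' := congrArg (fun p : (Fin m → F) × (Fin m → F) × W => p.1) h
        exact ⟨by simpa [E, hi] using congrFun h' i, by simpa [E, hi.symm] using congrFun h' i₀⟩
  have hbb : ∀ j, b j = a i₀ := fun j => by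
    rcases eq_or_ne j i₁ with rfl | hj
    · rw [← hab i₀ i₁ h01]
    · rw [← hab i₁ j (Ne.symm hj), haa]
  set l := a i₀ with hl
  have hw : ∀ w : W, g.1 (0, 0, w) = l • (0, 0, w) := by
    intro w
    set u : (Fin m → F) × (Fin m → F) × W := E i₀ + (-Q₀ w) • G i₀ + (0, 0, w) with hu
    have hu0 : hyperForm m Q₀ u = 0 := by simp [hu, hyperForm_apply, E, G, Pi.single_apply]
    obtain ⟨d, hd⟩ := hsing u hu0
    rw [hu, map_add, map_add, map_smul, ha, hb, hbb, haa i₀] at hd
    have hdl : d = l := by
      have h2 := hd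
      set x := g.1 (0, 0, w) with hx
      have hB := Geometry.quad_polar_map (hyperForm m Q₀) (T := g.1.toLinearMap) g.2 (G i₀) (0, 0, w)
      simp only [LinearEquiv.coe_coe, hb, hbb, map_smul, LinearMap.smul_apply, smul_eq_mul, ← hx,
        QuadraticMap.polarBilin_apply_apply, QuadraticMap.polar, hyperForm_apply] at hB
      simp [G, Finset.sum_add_distrib, mul_add, add_mul, Pi.single_apply] at hB
      have hx1 := congrFun (congrArg (fun p : (Fin m → F) × (Fin m → F) × W => p.1) hd) i₀
      simp [E, G] at hx1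
      rcases hB with hB | hB
      · exfalso
        have h1 := g.1.injective.ne (show E i₀ ≠ 0 from fun h => by
          simpa [E] using congrFun (congrArg (fun p : (Fin m → F) × (Fin m → F) × W => p.1) h) i₀)
        rw [map_zero, ha i₀, ← hl, hB, zero_smul] at h1
        exact h1 rfl
      · linear_combination hB - hx1
    rw [hdl, smul_add, smul_add, smul_smul, smul_smul, mul_comm l, add_right_inj] at hd
    exact hd
  have hall : ∀ p, g.1 p = l • p := by
    intro p
    have hp : p = (∑ i, p.1 i • E i) + (∑ i, p.2.1 i • G i) + (0, 0, p.2.2) := by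
      refine Prod.ext (funext fun r => ?_) (Prod.ext (funext fun r => ?_) ?_) <;>
        simp [E, G, Prod.fst_sum, Prod.snd_sum, Pi.single_apply]
    conv_lhs => rw [hp, map_add, map_add, map_sum, map_sum, hw]
    conv_rhs => rw [hp, smul_add, smul_add, Finset.smul_sum, Finset.smul_sum]
    refine congrArg (· + l • ((0 : Fin m → F), (0 : Fin m → F), p.2.2)) (congrArg₂ (· + ·) ?_ ?_)
    · exact Finset.sum_congr rfl fun i _ => by rw [map_smul, ha, haa, smul_smul, smul_smul, mul_comm]
    · exact Finset.sum_congr rfl fun i _ => by rw [map_smul, hb, hbb, smul_smul, smul_smul, mul_comm]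
  refine ⟨l, mul_self_eq_one_iff.mp ?_, hall⟩
  have h := mem_quadIsometries.mp g.2 (E i₀ + G i₀)
  rw [hall] at h
  simpa [hyperForm_apply, E, G, Pi.single_apply] using h

variable {ι : Type} [Fintype ι] [DecidableEq ι] {V : Type*} [AddCommGroup V] [Module F V]

/-- The matrix isometry group of a pulled back form. -/
noncomputable def isometryMulEquiv (e : (ι → F) ≃ₗ[F] V) (Q : (ι → F) → F) (R : QuadraticForm F V)
    (h : ∀ v, Q v = R (e v)) : quadIsometries R ≃* Cfsg.isometryGroup F Q :=
  MulEquiv.ofBijective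
    (((autToGL e).comp (quadIsometries R).subtype).codRestrict (Cfsg.isometryGroup F Q) fun g u _ => by
      show Q ((autToGL e g.1 : Matrix ι ι F).mulVec u) = Q u
      rw [autToGL_mulVec, h, h, e.apply_symm_apply, mem_quadIsometries.mp g.2])
    ⟨fun g g' hgg => Subtype.ext (autToGL_injective e (congrArg Subtype.val hgg)), fun g => by
      let f := (e.symm.trans ((LinearMap.GeneralLinearGroup.generalLinearEquiv F (ι → F))
        (Matrix.GeneralLinearGroup.toLin g.1))).trans e
      have hf : ∀ v, f v = e ((g.1 : Matrix ι ι F).mulVec (e.symm v)) := fun v => rfl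
      refine ⟨⟨f, fun v => ?_⟩, Subtype.ext (gl_ext_mulVec fun v => ?_)⟩
      · have h' : Q ((g.1 : Matrix ι ι F).mulVec (e.symm v)) = Q (e.symm v) := g.2 (e.symm v) (e.symm v)
        rw [h, h, e.apply_symm_apply] at h'
        rw [hf, h']
      · show (autToGL e f : Matrix ι ι F).mulVec v = _
        rw [autToGL_mulVec, hf, e.symm_apply_apply, e.symm_apply_apply]⟩

theorem isometryMulEquiv_mulVec (e : (ι → F) ≃ₗ[F] V) (Q : (ι → F) → F) (R : QuadraticForm F V)
    (h : ∀ v, Q v = R (e v)) (g : quadIsometries R) (v : ι → F) :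
    ((isometryMulEquiv e Q R h g : Matrix.GeneralLinearGroup ι F) : Matrix ι ι F).mulVec v =
      e.symm (g.1 (e v)) :=
  autToGL_mulVec e g.1 v

variable {q : ℕ}

/-- Central elements of `Ω`: `±1`. -/
theorem center_Omega_eq [FiniteDimensional F W] (Q₀ : QuadraticForm F W) (m : ℕ) (hm : 3 ≤ m)
    (hQ : (polarBilin (hyperForm m Q₀)).Nondegenerate)
    (e : (ι → F) ≃ₗ[F] ((Fin m → F) × (Fin m → F) × W)) (Q : (ι → F) → F)
    (h : ∀ v, Q v = hyperForm m Q₀ (e v)) (z : Cfsg.Omega F Q) :
    z ∈ Subgroup.center (Cfsg.Omega F Q) ↔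
      ((z.1 : Matrix.GeneralLinearGroup ι F) : Matrix ι ι F) = 1 ∨
      ((z.1 : Matrix.GeneralLinearGroup ι F) : Matrix ι ι F) = -1 := by
  set φ := isometryMulEquiv e Q (hyperForm m Q₀) h with hφ
  constructor
  · intro hz
    have hmap : (commutator (quadIsometries (hyperForm m Q₀))).map φ.toMonoidHom =
        commutator (Cfsg.isometryGroup F Q) := Geometry.map_commutator_of_equiv φ
    have hc : ∀ k ∈ commutator (quadIsometries (hyperForm m Q₀)),
        φ.symm z.1 * k = k * φ.symm z.1 := by
      intro k hk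
      apply φ.injective
      rw [map_mul, map_mul, φ.apply_symm_apply]
      have hmem : φ k ∈ commutator (Cfsg.isometryGroup F Q) := by
        rw [← hmap]; exact Subgroup.mem_map_of_mem _ hk
      exact congrArg Subtype.val (Subgroup.mem_center_iff.mp hz ⟨φ k, hmem⟩).symm
    obtain ⟨c, hc1, hc2⟩ := scalar_of_commute_commutator Q₀ m hm hQ _ hc
    have hv : ∀ v, ((z.1 : Matrix.GeneralLinearGroup ι F) : Matrix ι ι F).mulVec v = c • v := by
      intro v
      rw [← φ.apply_symm_apply z.1, hφ, isometryMulEquiv_mulVec, hc2, map_smul, e.symm_apply_apply]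
    rcases hc1 with rfl | rfl
    · left; exact Matrix.ext_iff_mulVec.mpr fun v => by rw [hv, one_smul, Matrix.one_mulVec]
    · right; exact Matrix.ext_iff_mulVec.mpr fun v => by
        rw [hv, neg_smul, one_smul, Matrix.neg_mulVec, Matrix.one_mulVec]
  · intro hz
    rw [Subgroup.mem_center_iff]
    intro k
    refine Subtype.ext (Subtype.ext (Units.ext ?_))
    show ((k.1 : Matrix.GeneralLinearGroup ι F) : Matrix ι ι F) * _ = _ *
      ((k.1 : Matrix.GeneralLinearGroup ι F) : Matrix ι ι F)
    rcases hz with hz | hz <;> simp [hz]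

/-- The order of the centre of `Ω`. -/
theorem card_center_Omega [FiniteDimensional F W] (Q₀ : QuadraticForm F W) (m : ℕ) (hm : 3 ≤ m)
    (hQ : (polarBilin (hyperForm m Q₀)).Nondegenerate)
    (e : (ι → F) ≃ₗ[F] ((Fin m → F) × (Fin m → F) × W)) (Q : (ι → F) → F)
    (h : ∀ v, Q v = hyperForm m Q₀ (e v)) :
    Nat.card (Subgroup.center (Cfsg.Omega F Q)) =
      @ite ℕ ((2 : F) ≠ 0 ∧ ∃ g : Cfsg.isometryGroup F Q, g ∈ Cfsg.Omega F Q ∧
        ((g : Matrix.GeneralLinearGroup ι F) : Matrix ι ι F) = -1) (_root_.Classical.propDecidable _) 2 1 := by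
  have key := center_Omega_eq Q₀ m hm hQ e Q h
  have hι : Nonempty ι := by
    by_contra hι
    rw [not_nonempty_iff] at hι
    have hsub : Subsingleton ((Fin m → F) × (Fin m → F) × W) := e.symm.injective.subsingleton
    have := congrFun (congrArg Prod.fst (Subsingleton.elim
      (((fun _ => (1 : F)), (0 : Fin m → F), (0 : W)) : (Fin m → F) × (Fin m → F) × W) 0))
      (⟨0, by omega⟩ : Fin m)
    simp at this
  split_ifs with hc
  · obtain ⟨h2, g, hg, hgm⟩ := hc
    have hne : (1 : Matrix ι ι F) ≠ -1 := fun hh => h2 (by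
      have := congrFun (congrFun hh (Classical.arbitrary ι)) (Classical.arbitrary ι)
      simp at this
      linear_combination this)
    let a : Subgroup.center (Cfsg.Omega F Q) := 1
    let b : Subgroup.center (Cfsg.Omega F Q) := ⟨⟨g, hg⟩, (key _).mpr (Or.inr hgm)⟩
    rw [Nat.card_eq_two_iff]
    refine ⟨a, b, fun hh => hne ?_, Set.eq_univ_of_forall fun x => ?_⟩
    · have h' := congrArg (fun t : Subgroup.center (Cfsg.Omega F Q) =>
        ((t.1.1 : Matrix.GeneralLinearGroup ι F) : Matrix ι ι F)) hh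
      exact h'.trans hgm
    · rcases (key x.1).mp x.2 with hx | hx
      · exact Or.inl (Subtype.ext (Subtype.ext (Subtype.ext (Units.ext hx))))
      · exact Or.inr (Subtype.ext (Subtype.ext (Subtype.ext (Units.ext (hx.trans hgm.symm)))))
  · rw [Nat.card_eq_one_iff_exists]
    refine ⟨1, fun x => ?_⟩
    rcases (key x.1).mp x.2 with hx | hx
    · exact Subtype.ext (Subtype.ext (Subtype.ext (Units.ext hx)))
    · by_cases h2 : (2 : F) = 0
      · refine Subtype.ext (Subtype.ext (Subtype.ext (Units.ext (hx.trans ?_))))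
        ext i j
        show -((1 : Matrix ι ι F) i j) = (1 : Matrix ι ι F) i j
        linear_combination -((1 : Matrix ι ι F) i j) * h2
      · exact absurd ⟨h2, x.1.1, x.1.2, hx⟩ hc

theorem card_center_mul_card_POmega_mul (Q : (ι → F) → F) :
    Nat.card (Cfsg.POmega F Q) * Nat.card (Subgroup.center (Cfsg.Omega F Q)) *
      (commutator (Cfsg.isometryGroup F Q)).index = Nat.card (Cfsg.isometryGroup F Q) := by
  rw [← Subgroup.card_mul_index (commutator (Cfsg.isometryGroup F Q)),
    Subgroup.card_eq_card_quotient_mul_card_subgroup (Subgroup.center (Cfsg.Omega F Q))]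

end Cfsg.Agent.Lib.Classical
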