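import Cfsg.Agent.Lib.Classical.OrthCenter

/-!
The three families of forms as hyperbolic extensions, and orders of `PΩ`.
-/

set_option autoImplicit false

namespace Cfsg.Agent.Lib.Classical

open QuadraticMap (polarBilin)
open Cfsg.Agent.Lib.Geometry (quadIsometries mem_quadIsometries quad_polar_comm)

variable {F : Type*} [Field F]

/-- Coordinates for `quadFormOdd`. -/
def oddEquiv (m : ℕ) (F : Type*) [Field F] :
    (Unit ⊕ (Fin m ⊕ Fin m) → F) ≃ₗ[F] ((Fin m → F) × (Fin m → F) × F) where
  toFun v := (fun i => v (.inr (.inl i)), fun i => v (.inr (.inr i)), v (.inl ()))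
  map_add' _ _ := rfl
  map_smul' _ _ := rfl
  invFun p := Sum.elim (fun _ => p.2.2) (Sum.elim p.1 p.2.1)
  left_inv v := by funext i; rcases i with _ | i | i <;> rfl
  right_inv _ := rfl

theorem quadFormOdd_eq_hyper (m : ℕ) (v : Unit ⊕ (Fin m ⊕ Fin m) → F) :
    Cfsg.quadFormOdd m F v = hyperForm m (QuadraticMap.sq : QuadraticForm F F) (oddEquiv m F v) := by
  rw [hyperForm_apply]
  show v (.inl ()) ^ 2 + ∑ i, v (.inr (.inl i)) * v (.inr (.inr i)) =
    (∑ i, v (.inr (.inl i)) * v (.inr (.inr i))) + v (.inl ()) * v (.inl ())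
  rw [pow_two, add_comm]

theorem sq_nondegenerate (h2 : (2 : F) ≠ 0) :
    (polarBilin (QuadraticMap.sq : QuadraticForm F F)).Nondegenerate := by
  have key : ∀ x : F, (∀ y, polarBilin (QuadraticMap.sq : QuadraticForm F F) x y = 0) → x = 0 := by
    intro x hx
    have := hx 1
    simp only [QuadraticMap.polarBilin_apply_apply, QuadraticMap.polar, QuadraticMap.sq_apply] at this
    exact (mul_eq_zero.mp (show (2 : F) * x = 0 by linear_combination this)).resolve_left h2
  exact ⟨key, fun y hy => key y fun r => by rw [quad_polar_comm]; exact hy r⟩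

/-- Coordinates for `quadFormPlus`. -/
def plusEquiv (m : ℕ) (F : Type*) [Field F] :
    (Fin m ⊕ Fin m → F) ≃ₗ[F] ((Fin m → F) × (Fin m → F) × (Fin 0 → F)) where
  toFun v := (fun i => v (.inl i), fun i => v (.inr i), 0)
  map_add' _ _ := Prod.ext rfl (Prod.ext rfl (add_zero _).symm)
  map_smul' _ _ := Prod.ext rfl (Prod.ext rfl (smul_zero _).symm)
  invFun p := Sum.elim p.1 p.2.1
  left_inv v := by funext i; rcases i with i | i <;> rfl
  right_inv _ := Prod.ext rfl (Prod.ext rfl (funext fun i => i.elim0))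

theorem quadFormPlus_eq_hyper (m : ℕ) (v : Fin m ⊕ Fin m → F) :
    Cfsg.quadFormPlus m F v = hyperForm m (0 : QuadraticForm F (Fin 0 → F)) (plusEquiv m F v) := by
  simp [Cfsg.quadFormPlus, hyperForm_apply, plusEquiv]

theorem zero_nondegenerate :
    (polarBilin (0 : QuadraticForm F (Fin 0 → F))).Nondegenerate :=
  ⟨fun _ _ => Subsingleton.elim _ _, fun _ _ => Subsingleton.elim _ _⟩

/-- The binary form. -/
noncomputable def binaryForm (a b : F) : QuadraticForm F (F × F) :=
  QuadraticMap.linMulLin (LinearMap.fst F F F) (LinearMap.fst F F F) +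
    a • QuadraticMap.linMulLin (LinearMap.fst F F F) (LinearMap.snd F F F) +
    b • QuadraticMap.linMulLin (LinearMap.snd F F F) (LinearMap.snd F F F)

theorem binaryForm_apply (a b : F) (z : F × F) :
    binaryForm a b z = z.1 ^ 2 + a * z.1 * z.2 + b * z.2 ^ 2 := by
  simp [binaryForm, pow_two, mul_assoc]

theorem binaryForm_nondegenerate [Finite F] (a b : F)
    (hab : ∀ z₁ z₂ : F, z₁ ^ 2 + a * z₁ * z₂ + b * z₂ ^ 2 = 0 → z₁ = 0 ∧ z₂ = 0) :
    (polarBilin (binaryForm a b)).Nondegenerate := by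
  have key : ∀ x : F × F, (∀ y, polarBilin (binaryForm a b) x y = 0) → x = 0 := fun x hx => by
    have h1 := hx (1, 0)
    have h2 := hx (0, 1)
    simp only [QuadraticMap.polarBilin_apply_apply, QuadraticMap.polar, binaryForm_apply,
      Prod.fst_add, Prod.snd_add, mul_zero, add_zero, mul_one] at h1 h2
    by_cases h : (2 : F) = 0
    · have hc : ringChar F = 2 := by
        have h' : ((2 : ℕ) : F) = 0 := by simpa using h
        exact ((Nat.prime_dvd_prime_iff_eq (CharP.char_is_prime F (ringChar F)) Nat.prime_two).mp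
          (ringChar.dvd h'))
      have ha : a ≠ 0 := by
        intro ha
        obtain ⟨s, hs⟩ := FiniteField.isSquare_of_char_two hc (-b)
        exact one_ne_zero (hab s 1 (by rw [ha]; linear_combination -hs)).2
      have e1 : a * x.2 = 0 := by linear_combination h1 - x.1 * h
      have e2 : a * x.1 = 0 := by linear_combination h2 - b * x.2 * h
      exact Prod.ext ((mul_eq_zero.mp e2).resolve_left ha) ((mul_eq_zero.mp e1).resolve_left ha)
    · have hQx : x.1 ^ 2 + a * x.1 * x.2 + b * x.2 ^ 2 = 0 :=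
        (mul_eq_zero.mp (show (2 : F) * (x.1 ^ 2 + a * x.1 * x.2 + b * x.2 ^ 2) = 0 by
          linear_combination x.1 * h1 + x.2 * h2)).resolve_left h
      exact Prod.ext (hab _ _ hQx).1 (hab _ _ hQx).2
  exact ⟨key, fun y hy => key y fun r => by rw [quad_polar_comm]; exact hy r⟩

/-- Coordinates for `quadFormMinus`. -/
def minusEquiv (m : ℕ) (F : Type*) [Field F] :
    ((Fin m ⊕ Fin m) ⊕ Fin 2 → F) ≃ₗ[F] ((Fin m → F) × (Fin m → F) × (F × F)) where
  toFun v := (fun i => v (.inl (.inl i)), fun i => v (.inl (.inr i)), (v (.inr 0), v (.inr 1)))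
  map_add' _ _ := rfl
  map_smul' _ _ := rfl
  invFun p := Sum.elim (Sum.elim p.1 p.2.1) ![p.2.2.1, p.2.2.2]
  left_inv v := by
    funext i
    rcases i with (i | i) | i
    · rfl
    · rfl
    · fin_cases i <;> rfl
  right_inv _ := rfl

theorem quadFormMinus_eq_hyper (m : ℕ) (a b : F) (v : (Fin m ⊕ Fin m) ⊕ Fin 2 → F) :
    Cfsg.quadFormMinus m F a b v = hyperForm m (binaryForm a b) (minusEquiv m F v) := by
  rw [hyperForm_apply, binaryForm_apply]
  rfl

variable [Fintype F] {W : Type*} [AddCommGroup W] [Module F W] [Finite W] [FiniteDimensional F W]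
  {ι : Type} [Fintype ι] [DecidableEq ι]

theorem two_eq_zero_iff_even {q : ℕ} (hF : Fintype.card F = q) : (2 : F) = 0 ↔ Even q := by
  constructor
  · intro h
    have hc : ringChar F = 2 :=
      (Nat.prime_dvd_prime_iff_eq (CharP.char_is_prime F (ringChar F)) Nat.prime_two).mp
        (ringChar.dvd (by simpa using h))
    have := FiniteField.even_card_of_char_two hc
    rw [hF] at this
    exact Nat.even_iff.mpr this
  · intro h
    by_contra h2
    have hne : ringChar F ≠ 2 := fun hc => h2 (by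
      have : ((2 : ℕ) : F) = 0 := by rw [← hc]; exact ringChar.Nat.cast_ringChar
      simpa using this)
    have := FiniteField.odd_card_of_char_ne_two hne
    rw [hF] at this
    rw [Nat.even_iff] at h
    omega

theorem finrank_hyperSpace_ge (m : ℕ) :
    2 * m ≤ Module.finrank F ((Fin m → F) × (Fin m → F) × W) := by
  simp [Module.finrank_prod]
  omega

/-- `|O| = index * |centre| * |PΩ|`, with index `4` or `2`. -/
theorem card_POmega_mul (Q₀ : QuadraticForm F W) (h₀ : (polarBilin Q₀).Nondegenerate) (m : ℕ)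
    (hm : 3 ≤ m) (e : (ι → F) ≃ₗ[F] ((Fin m → F) × (Fin m → F) × W)) (Q : (ι → F) → F)
    (h : ∀ v, Q v = hyperForm m Q₀ (e v)) :
    ((2 : F) = 0 → 2 * Nat.card (Cfsg.POmega F Q) = Nat.card (Cfsg.isometryGroup F Q)) ∧
    ((2 : F) ≠ 0 → (∃ g : Cfsg.isometryGroup F Q, g ∈ Cfsg.Omega F Q ∧
        ((g : Matrix.GeneralLinearGroup ι F) : Matrix ι ι F) = -1) →
      8 * Nat.card (Cfsg.POmega F Q) = Nat.card (Cfsg.isometryGroup F Q)) ∧
    ((2 : F) ≠ 0 → (¬ ∃ g : Cfsg.isometryGroup F Q, g ∈ Cfsg.Omega F Q ∧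
        ((g : Matrix.GeneralLinearGroup ι F) : Matrix ι ι F) = -1) →
      4 * Nat.card (Cfsg.POmega F Q) = Nat.card (Cfsg.isometryGroup F Q)) := by
  have hQ := hyperForm_nondegenerate m Q₀ h₀
  have hrk := finrank_hyperSpace_ge (F := F) (W := W) m
  have hcz := card_center_Omega Q₀ m hm hQ e Q h
  have hmul := card_center_mul_card_POmega_mul Q
  rw [hcz, Geometry.index_commutator_congr (isometryMulEquiv e Q _ h).symm] at hmul
  refine ⟨fun h2 => ?_, fun h2 hex => ?_, fun h2 hex => ?_⟩
  · haveI : CharP F 2 := CharTwo.of_one_ne_zero_of_two_eq_zero one_ne_zero h2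
    rw [if_neg (fun hh => hh.1 h2), Geometry.index_commutator_even _ hQ (by omega)
      (Or.inr (by omega))] at hmul
    omega
  · rw [if_pos ⟨h2, hex⟩, Geometry.index_commutator_odd _ hQ h2 (by omega)] at hmul
    omega
  · rw [if_neg (fun hh => hex hh.2), Geometry.index_commutator_odd _ hQ h2 (by omega)] at hmul
    omega

end Cfsg.Agent.Lib.Classical
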