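import Cfsg.Agent.Lib.Classical.Eichler
import Cfsg.Agent.Lib.Classical.POmegaCard
import Cfsg.Agent.Lib.Classical.SLTwo

/-!
Simplicity of `PΩ` for hyperbolic extensions of Witt index at least three.
-/

set_option autoImplicit false

namespace Cfsg.Agent.Lib.Classical

open QuadraticMap (polarBilin)
open Cfsg.Agent.Lib.Geometry (quadIsometries)

attribute [-simp] QuadraticMap.polarBilin_apply_apply

variable {F : Type*} [Field F] {W : Type*} [AddCommGroup W] [Module F W]

theorem polarBilin_hyperForm (m : ℕ) (Q₀ : QuadraticForm F W)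
    (p r : (Fin m → F) × (Fin m → F) × W) :
    polarBilin (hyperForm m Q₀) p r =
      (∑ i, (p.1 i * r.2.1 i + r.1 i * p.2.1 i)) + polarBilin Q₀ p.2.2 r.2.2 := by
  simp only [QuadraticMap.polarBilin_apply_apply, QuadraticMap.polar, hyperForm_apply,
    Prod.fst_add, Prod.snd_add, Pi.add_apply, add_mul, mul_add, Finset.sum_add_distrib]
  ring

theorem hypThree_hyperForm (m : ℕ) (hm : 3 ≤ m) (Q₀ : QuadraticForm F W)
    (hQ : (polarBilin (hyperForm m Q₀)).Nondegenerate) :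
    ∃ e f e₂ f₂ e₃ f₃, HypThree (hyperForm m Q₀) e f e₂ f₂ e₃ f₃ := by
  classical
  let E : Fin m → (Fin m → F) × (Fin m → F) × W := fun i => (Pi.single i 1, 0, 0)
  let G : Fin m → (Fin m → F) × (Fin m → F) × W := fun i => (0, Pi.single i 1, 0)
  have sep : ∀ z ∈ (⊤ : Submodule F ((Fin m → F) × (Fin m → F) × W)), z ≠ 0 →
      ∃ y ∈ (⊤ : Submodule F ((Fin m → F) × (Fin m → F) × W)), polarBilin (hyperForm m Q₀) z y ≠ 0 := by
    intro z _ hz
    by_contra hall
    push Not at hall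
    exact hz (hQ.1 z fun y => hall y trivial)
  have key : ∀ i j : Fin m, i ≠ j → HypTwo (hyperForm m Q₀) ⊤ (E i) (G i) (E j) (G j) := by
    intro i j hij
    refine ⟨trivial, trivial, trivial, trivial, ?_, ?_, ?_, ?_, ?_, ?_, ?_, ?_, ?_, ?_, sep⟩ <;>
      simp [polarBilin_hyperForm, hyperForm_apply, E, G, Pi.single_apply, hij, hij.symm]
  exact ⟨_, _, _, _, _, _,
    key ⟨0, by omega⟩ ⟨1, by omega⟩ (by simp [Fin.ext_iff]),
    key ⟨0, by omega⟩ ⟨2, by omega⟩ (by simp [Fin.ext_iff]),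
    key ⟨1, by omega⟩ ⟨2, by omega⟩ (by simp [Fin.ext_iff])⟩

theorem isSimpleGroup_POmega [Fintype F] [FiniteDimensional F W] [Finite W] (Q₀ : QuadraticForm F W)
    (h₀ : (polarBilin Q₀).Nondegenerate) (m : ℕ) (hm : 3 ≤ m) {ι : Type} [Fintype ι] [DecidableEq ι]
    (e : (ι → F) ≃ₗ[F] ((Fin m → F) × (Fin m → F) × W)) (Q : (ι → F) → F)
    (h : ∀ v, Q v = hyperForm m Q₀ (e v)) : IsSimpleGroup (Cfsg.POmega F Q) := by
  have hQ := hyperForm_nondegenerate m Q₀ h₀
  obtain ⟨a, b, c, d, a', b', hyp3⟩ := hypThree_hyperForm m hm Q₀ hQ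
  have hrk := finrank_hyperSpace_ge (F := F) (W := W) m
  haveI := isSimpleGroup_commutator hyp3 hQ (Or.inr (by omega))
  let φ : commutator (quadIsometries (hyperForm m Q₀)) ≃* Cfsg.Omega F Q :=
    ((isometryMulEquiv e Q (hyperForm m Q₀) h).subgroupMap _).trans
      (MulEquiv.subgroupCongr (Geometry.map_commutator_of_equiv (isometryMulEquiv e Q (hyperForm m Q₀) h)))
  exact (MulEquiv.isSimpleGroup (centralQuotientCongr φ).symm)

end Cfsg.Agent.Lib.Classical
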