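import Cfsg.Agent.Lib.Classical.OrthThree
import Cfsg.Agent.Lib.Classical.OrthCenter
import Cfsg.Agent.Lib.Classical.LinearSimple
import Cfsg.Agent.Lib.Geometry.SymmDiscr

/-!
The orthogonal groups in odd characteristic and dimension at least three have no odd normal subgroup.
-/

set_option autoImplicit false

namespace Cfsg.Agent.Lib.Classical.OddFree

open Matrix

variable {F : Type*} [Field F]

/-- No non-trivial normal subgroup of odd order. -/
def OddFree (G : Type*) [Group G] : Prop := ∀ N : Subgroup G, N.Normal → Odd (Nat.card N) → N = ⊥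

theorem OddFree.congr {G H : Type*} [Group G] [Group H] (h : OddFree G) (e : G ≃* H) : OddFree H := by
  intro N hN hodd
  have hc : Nat.card (N.map e.symm.toMonoidHom) = Nat.card N := Subgroup.card_map_of_injective e.symm.injective
  have := h _ (hN.map _ e.symm.surjective) (hc ▸ hodd)
  rwa [Subgroup.map_eq_bot_iff_of_injective _ e.symm.injective] at this

theorem eq_one_of_sq {G : Type*} [Group G] {N : Subgroup G} (hodd : Odd (Nat.card N)) {x : G} (hx : x ∈ N)
    (h2 : x * x = 1) : x = 1 := by
  have h1 : orderOf x ∣ Nat.card N := by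
    rw [← Subgroup.orderOf_mk x hx, ← Subgroup.orderOf_coe] at *
    exact (Subgroup.orderOf_coe (⟨x, hx⟩ : N)).symm ▸ orderOf_dvd_natCard _
  have h3 : orderOf x ∣ 2 := orderOf_dvd_of_pow_eq_one (by rw [sq, h2])
  rcases (Nat.dvd_prime Nat.prime_two).mp h3 with e | e
  · exact orderOf_eq_one_iff.mp e
  · rw [e] at h1
    exact absurd (even_iff_two_dvd.mpr h1) (Nat.not_even_iff_odd.mpr hodd)

theorem mem_of_pow_mem {G : Type*} [Group G] [Finite G] {N H : Subgroup G} (hodd : Odd (Nat.card N)) {x : G}
    (hx : x ∈ N) {k : ℕ} (hk : x ^ (2 ^ k) ∈ H) : x ∈ H := by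
  have h1 : Odd (orderOf x) := hodd.of_dvd_nat ((Subgroup.orderOf_mk x hx) ▸ orderOf_dvd_natCard _)
  have hcop : (orderOf x).Coprime (2 ^ k) := Nat.Coprime.pow_right k (Nat.coprime_two_right.mpr h1)
  have : x ∈ Subgroup.zpowers (x ^ (2 ^ k)) := mem_zpowers_pow_iff.mpr hcop.symm
  exact Subgroup.zpowers_le.mpr hk this

theorem oddFree_psl_two [Fintype F] (hodd : Odd (Fintype.card F)) :
    OddFree (ProjectiveSpecialLinearGroup (Fin 2) F) := by
  classical
  intro N hN hN2
  have hq3 : 3 ≤ Fintype.card F := by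
    have := Fintype.one_lt_card (α := F)
    rw [Nat.odd_iff] at hodd
    omega
  let π : SpecialLinearGroup (Fin 2) F →* ProjectiveSpecialLinearGroup (Fin 2) F := QuotientGroup.mk' _
  have hπ : Function.Surjective π := QuotientGroup.mk'_surjective _
  have hev : ¬ Odd (Nat.card (ProjectiveSpecialLinearGroup (Fin 2) F)) := by
    have hc := Subgroup.card_eq_card_quotient_mul_card_subgroup
      (Subgroup.center (SpecialLinearGroup (Fin 2) F))
    rw [card_SL2, card_center_SL, Fintype.card_fin] at hc
    intro h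
    obtain ⟨j, hj⟩ := hodd
    rw [hj, Nat.add_sub_cancel, Nat.gcd_eq_left (dvd_mul_right 2 j)] at hc
    have hc' : Nat.card (ProjectiveSpecialLinearGroup (Fin 2) F) * 2 = (2 * j + 1) * ((2 * j + 1) ^ 2 - 1) :=
      hc.symm
    have h4 : 4 ∣ (2 * j + 1) ^ 2 - 1 := ⟨j * (j + 1), by
      rw [show (2 * j + 1) ^ 2 = 4 * (j * (j + 1)) + 1 by ring, Nat.add_sub_cancel]⟩
    obtain ⟨c, hc4⟩ := h4
    obtain ⟨i, hi⟩ := h
    rw [hi, hc4] at hc'
    have : (2 * i + 1) * 2 = 4 * ((2 * j + 1) * c) := hc'.trans (by ring)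
    omega
  by_cases h3 : Fintype.card F = 3
  · by_contra hne
    have hc := Subgroup.card_eq_card_quotient_mul_card_subgroup
      (Subgroup.center (SpecialLinearGroup (Fin 2) F))
    rw [card_SL2, card_center_SL, Fintype.card_fin, h3] at hc
    have hcard : Nat.card (ProjectiveSpecialLinearGroup (Fin 2) F) = 12 := by
      have h12 : 24 = Nat.card (ProjectiveSpecialLinearGroup (Fin 2) F) * 2 := by simpa using hc
      omega
    have hN3 : Nat.card N = 3 := by
      have hd := Subgroup.card_subgroup_dvd_card N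
      rw [hcard] at hd
      have hle := Nat.le_of_dvd (by norm_num) hd
      have h1 : Nat.card N ≠ 1 := fun e => hne (Subgroup.card_eq_one.mp e)
      obtain ⟨i, hi⟩ := hN2
      interval_cases hk : Nat.card N <;> omega
    have hidx : N.index = 4 := by
      have := N.card_mul_index
      rw [hN3, hcard] at this
      omega
    have h3mem : ∀ x : ProjectiveSpecialLinearGroup (Fin 2) F, x ^ 3 = 1 → x ∈ N := by
      intro x hx
      rw [← QuotientGroup.eq_one_iff (N := N)]
      set y : ProjectiveSpecialLinearGroup (Fin 2) F ⧸ N := QuotientGroup.mk x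
      have e3 : orderOf y ∣ 3 := orderOf_dvd_of_pow_eq_one (by
        show (QuotientGroup.mk x : ProjectiveSpecialLinearGroup (Fin 2) F ⧸ N) ^ 3 = 1
        rw [← QuotientGroup.mk_pow, hx, QuotientGroup.mk_one])
      have e4 : orderOf y ∣ 4 := hidx ▸ Subgroup.index_eq_card N ▸ orderOf_dvd_natCard y
      exact orderOf_eq_one_iff.mp (Nat.eq_one_of_dvd_coprimes (by norm_num) e3 e4)
    have htop : N.comap π = ⊤ := SL_eq_top_of_transvection_mem fun i j hij b => by
      refine h3mem _ ?_
      rw [← map_pow, show SpecialLinearGroup.transvection hij b ^ 3 = 1 from ?_, map_one]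
      refine Subtype.ext ?_
      rw [Matrix.SpecialLinearGroup.coe_pow, Matrix.SpecialLinearGroup.coe_one]
      haveI : CharP F 3 := charP_of_card_eq_prime h3
      show Matrix.transvection i j b ^ 3 = 1
      rw [pow_succ, pow_two, Matrix.transvection_mul_transvection_same _ _ hij,
        Matrix.transvection_mul_transvection_same _ _ hij]
      have : b + b + b = 0 := by
        have h30 : ((3 : ℕ) : F) = 0 := CharP.cast_eq_zero F 3
        push_cast at h30
        linear_combination b * h30
      rw [this, Matrix.transvection_zero]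
    have hNtop : N = ⊤ := by
      rw [← Subgroup.map_comap_eq_self_of_surjective hπ N, htop, Subgroup.map_top_of_surjective _ hπ]
    rw [hNtop, Subgroup.card_top] at hN2
    exact hev hN2
  · haveI : IsSimpleGroup (ProjectiveSpecialLinearGroup (Fin 2) F) :=
      isSimpleGroup_PSL_fin le_rfl fun _ => by rw [Nat.card_eq_fintype_card]; omega
    rcases hN.eq_bot_or_eq_top with h | h
    · exact h
    · rw [h, Subgroup.card_top] at hN2
      exact absurd hN2 hev

theorem two_ne_zero_of_odd [Fintype F] (hodd : Odd (Fintype.card F)) : (2 : F) ≠ 0 := fun h =>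
  Nat.not_even_iff_odd.mpr hodd ((two_eq_zero_iff_even (F := F) rfl).mp h)

theorem oddFree_orth_three [Fintype F] (hodd : Odd (Fintype.card F)) :
    OddFree (Cfsg.isometryGroup F (Cfsg.quadFormOdd 1 F)) := by
  classical
  intro N hN hN2
  have h2 := two_ne_zero_of_odd hodd
  have hQ := hyperForm_nondegenerate 1 (QuadraticMap.sq : QuadraticForm F F) (sq_nondegenerate (F := F) h2)
  set Ω := Cfsg.Omega F (Cfsg.quadFormOdd 1 F)
  have hidx : Ω.index = 4 := by
    rw [Geometry.index_commutator_congr
      (isometryMulEquiv (oddEquiv 1 F) _ _ (quadFormOdd_eq_hyper 1)).symm]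
    exact Geometry.index_commutator_odd _ hQ h2 (finrank_hyperSpace_ge 1)
  have hle : ∀ x ∈ N, x ∈ Ω := fun x hx => mem_of_pow_mem (k := 2) hN2 hx (by
    haveI : Ω.Normal := inferInstance
    show x ^ 4 ∈ Ω
    rw [← hidx]
    exact Ω.pow_index_mem x)
  obtain ⟨e⟩ := nonempty_POmega_three hodd
  have hZ : Subgroup.center Ω = ⊥ := by
    rw [← Subgroup.card_eq_one]
    have h := card_center_mul_card_POmega_mul (Cfsg.quadFormOdd 1 F)
    rw [show (commutator (Cfsg.isometryGroup F (Cfsg.quadFormOdd 1 F))).index = 4 from hidx,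
      card_orth_odd rfl hodd 1, Nat.card_congr e.toEquiv] at h
    have hc := Subgroup.card_eq_card_quotient_mul_card_subgroup
      (Subgroup.center (SpecialLinearGroup (Fin 2) F))
    rw [card_SL2, card_center_SL, Fintype.card_fin] at hc
    obtain ⟨j, hj⟩ := hodd
    rw [show Nat.gcd 2 (Fintype.card F - 1) = 2 by
      rw [hj, Nat.add_sub_cancel]; exact Nat.gcd_eq_left (dvd_mul_right 2 j)] at hc
    simp only [one_pow, pow_one, Finset.prod_range_one, zero_add, mul_one] at h
    have hc' : Fintype.card F * (Fintype.card F ^ 2 - 1) =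
        Nat.card (ProjectiveSpecialLinearGroup (Fin 2) F) * 2 := hc
    have h' : Nat.card (ProjectiveSpecialLinearGroup (Fin 2) F) * (Nat.card (Subgroup.center Ω) * 4) =
        Nat.card (ProjectiveSpecialLinearGroup (Fin 2) F) * 4 := by
      rw [← mul_assoc]
      refine h.trans ?_
      rw [mul_assoc 2, hc']
      ring
    have hpos : 0 < Nat.card (ProjectiveSpecialLinearGroup (Fin 2) F) := Nat.card_pos
    have := Nat.eq_of_mul_eq_mul_left hpos h'
    omega
  let π : Ω →* Cfsg.POmega F (Cfsg.quadFormOdd 1 F) := QuotientGroup.mk' _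
  have hπ : Function.Bijective π := by
    refine ⟨(injective_iff_map_eq_one π).mpr fun x hx => ?_, QuotientGroup.mk'_surjective _⟩
    have : x ∈ Subgroup.center Ω := (QuotientGroup.eq_one_iff x).mp hx
    rwa [hZ, Subgroup.mem_bot] at this
  have hfree : OddFree Ω := (oddFree_psl_two hodd).congr (e.symm.trans (MulEquiv.ofBijective π hπ).symm)
  have hb := hfree (N.subgroupOf Ω) inferInstance (hN2.of_dvd_nat
    (Subgroup.card_comap_dvd_of_injective N Ω.subtype Ω.subtype_injective))
  rw [eq_bot_iff]
  intro x hx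
  have hxm : (⟨x, hle x hx⟩ : Ω) ∈ N.subgroupOf Ω := hx
  rw [hb, Subgroup.mem_bot] at hxm
  exact Subgroup.mem_bot.mpr (congrArg Subtype.val hxm)

/-- A diagonal quadratic form. -/
def diagForm {n : ℕ} (d : Fin n → F) (v : Fin n → F) : F := ∑ i, d i * v i ^ 2

theorem mem_diag {n : ℕ} {d : Fin n → F} {g : GL (Fin n) F} :
    g ∈ Cfsg.isometryGroup F (diagForm d) ↔ ∀ v, diagForm d ((g : Matrix (Fin n) (Fin n) F) *ᵥ v) = diagForm d v :=
  ⟨fun h v => h v v, fun h u _ => h u⟩

theorem diagForm_eq {n : ℕ} (d : Fin n → F) (v : Fin n → F) :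
    diagForm d v = QuadraticMap.weightedSumSquares F d v := by
  simp [diagForm, QuadraticMap.weightedSumSquares_apply, sq]

theorem oddFree_diag_three [Fintype F] (hodd : Odd (Fintype.card F)) (d : Fin 3 → F) (hd : ∀ i, d i ≠ 0) :
    OddFree (Cfsg.isometryGroup F (diagForm d)) := by
  classical
  have h2 := two_ne_zero_of_odd hodd
  set c : F := -(d 0 * d 1 * d 2) with hc
  have hc0 : c ≠ 0 := neg_ne_zero.mpr (mul_ne_zero (mul_ne_zero (hd 0) (hd 1)) (hd 2))
  let d' : Fin 3 → F := ![c, c, -c]
  have hd' : ∀ i, d' i ≠ 0 := by intro i; fin_cases i <;> simp [d', hc0]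
  let B : (Fin 3 → F) → LinearMap.BilinForm F (Fin 3 → F) := fun w => Matrix.toBilin' (Matrix.diagonal w)
  have hB : ∀ (w : Fin 3 → F) u v, B w u v = ∑ i, w i * (u i * v i) := fun w u v => by
    simp [B, Matrix.toBilin'_apply', Matrix.mulVec_diagonal, dotProduct]
    exact Finset.sum_congr rfl fun i _ => by ring
  have hS : ∀ w, (B w).IsSymm := fun w => ⟨fun u v => by simp [hB, mul_comm (u _) (v _)]⟩
  have hnd : ∀ w : Fin 3 → F, (∀ i, w i ≠ 0) → (B w).Nondegenerate := fun w hw => by
    refine (LinearMap.BilinForm.nondegenerate_toBilin'_iff_det_ne_zero).mpr ?_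
    rw [Matrix.det_diagonal]
    exact Finset.prod_ne_zero_iff.mpr fun i _ => hw i
  obtain ⟨g, hg⟩ := Geometry.exists_isometry_of_isSquare_det_mul h2 (B d) (B d') (hS _) (hS _) (hnd _ hd)
    (hnd _ hd') (Pi.basisFun F (Fin 3)) (by
      rw [LinearMap.BilinForm.toMatrix_basisFun, LinearMap.BilinForm.toMatrix'_toBilin',
        LinearMap.BilinForm.toMatrix'_toBilin', Matrix.det_diagonal, Matrix.det_diagonal]
      refine ⟨c * c, ?_⟩
      simp [Fin.prod_univ_three, d']
      rw [hc]
      ring)
  have hgq : ∀ v, diagForm d v = diagForm d' (g v) := fun v => by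
    have h := hg v v
    simp only [hB] at h
    simp only [diagForm, sq]
    exact h.symm
  let L : (Fin 3 → F) ≃ₗ[F] (Unit ⊕ (Fin 1 ⊕ Fin 1) → F) :=
    { toFun := fun w => Sum.elim (fun _ => w 0) (Sum.elim (fun _ => w 1 + w 2) (fun _ => w 1 - w 2))
      invFun := fun v => ![v (.inl ()), (v (.inr (.inl 0)) + v (.inr (.inr 0))) / 2,
        (v (.inr (.inl 0)) - v (.inr (.inr 0))) / 2]
      map_add' := fun u v => by
        funext k; rcases k with k | k | k <;> simp <;> ring
      map_smul' := fun a v => by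
        funext k; rcases k with k | k | k <;> simp <;> ring
      left_inv := fun w => by
        funext k; fin_cases k <;> simp <;> field_simp <;> ring
      right_inv := fun v => by
        funext k
        rcases k with k | k | k
        · simp
        · simp [Subsingleton.elim k 0]; field_simp; ring
        · simp [Subsingleton.elim k 0]; field_simp; ring }
  have hL : ∀ w, Cfsg.quadFormOdd 1 F (L w) = c⁻¹ * diagForm d' w := fun w => by
    show w 0 ^ 2 + ∑ _i : Fin 1, (w 1 + w 2) * (w 1 - w 2) = _
    rw [Fin.sum_univ_one, diagForm, Fin.sum_univ_three]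
    simp [d']
    field_simp
    ring
  have hgrp : Cfsg.isometryGroup F (diagForm d) =
      Cfsg.isometryGroup F (fun v => Cfsg.quadFormOdd 1 F (L (g v))) := by
    ext x
    have e : ∀ v, Cfsg.quadFormOdd 1 F (L (g v)) = c⁻¹ * diagForm d v := fun v => by rw [hL, ← hgq]
    constructor
    · intro h u v
      show Cfsg.quadFormOdd 1 F (L (g _)) = Cfsg.quadFormOdd 1 F (L (g u))
      rw [e, e]
      exact congrArg (c⁻¹ * ·) (mem_diag.mp h u)
    · intro h
      refine mem_diag.mpr fun v => ?_
      have := h v v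
      change Cfsg.quadFormOdd 1 F (L (g _)) = Cfsg.quadFormOdd 1 F (L (g v)) at this
      rw [e, e] at this
      exact mul_left_cancel₀ (inv_ne_zero hc0) this
  refine OddFree.congr (oddFree_orth_three hodd) ?_
  exact (((isometryMulEquiv (oddEquiv 1 F) (Cfsg.quadFormOdd 1 F) _ (quadFormOdd_eq_hyper 1)).symm).trans
    (isometryMulEquiv ((g.trans L).trans (oddEquiv 1 F)) _ _ fun v => quadFormOdd_eq_hyper 1 (L (g v)))).trans
    (MulEquiv.subgroupCongr hgrp.symm)

variable [Fintype F]

/-- The reflection in a coordinate. -/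
def refl {n : ℕ} (k : Fin n) : GL (Fin n) F where
  val := Matrix.diagonal fun i => if i = k then -1 else 1
  inv := Matrix.diagonal fun i => if i = k then -1 else 1
  val_inv := by
    rw [Matrix.diagonal_mul_diagonal, ← Matrix.diagonal_one]
    congr 1; funext i; split_ifs <;> simp
  inv_val := by
    rw [Matrix.diagonal_mul_diagonal, ← Matrix.diagonal_one]
    congr 1; funext i; split_ifs <;> simp

theorem refl_coe {n : ℕ} (k : Fin n) :
    ((refl (F := F) k : GL (Fin n) F) : Matrix (Fin n) (Fin n) F) = Matrix.diagonal fun i => if i = k then -1 else 1 :=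
  rfl

theorem refl_mul_self {n : ℕ} (k : Fin n) : refl (F := F) k * refl k = 1 :=
  Units.ext (refl (F := F) k).mul_inv

theorem refl_mem {n : ℕ} (d : Fin n → F) (k : Fin n) : refl k ∈ Cfsg.isometryGroup F (diagForm d) :=
  mem_diag.mpr fun v => Finset.sum_congr rfl fun i _ => by
    rw [refl_coe, Matrix.mulVec_diagonal]
    split_ifs <;> ring

omit [Fintype F] in
theorem diag_entry {n : ℕ} {k : Fin n} {x : Matrix (Fin n) (Fin n) F}
    (h : Matrix.diagonal (fun i => if i = k then (-1 : F) else 1) * x =
      x * Matrix.diagonal (fun i => if i = k then (-1 : F) else 1)) (h2 : (2 : F) ≠ 0) {i : Fin n} (hi : i ≠ k) :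
    x i k = 0 ∧ x k i = 0 := by
  have e1 := congrFun (congrFun h i) k
  have e2 := congrFun (congrFun h k) i
  rw [Matrix.diagonal_mul, Matrix.mul_diagonal, if_neg hi, if_pos rfl] at e1
  rw [Matrix.diagonal_mul, Matrix.mul_diagonal, if_neg hi, if_pos rfl] at e2
  constructor
  · exact (mul_eq_zero.mp (show (2 : F) * x i k = 0 by linear_combination e1)).resolve_left h2
  · exact (mul_eq_zero.mp (show (2 : F) * x k i = 0 by linear_combination -e2)).resolve_left h2

theorem oddFree_diag (hodd : Odd (Fintype.card F)) : ∀ (n : ℕ), 3 ≤ n → ∀ d : Fin n → F, (∀ i, d i ≠ 0) →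
    OddFree (Cfsg.isometryGroup F (diagForm d)) := by
  classical
  intro n
  induction n with
  | zero => intro h; omega
  | succ n ih =>
    intro hn d hd
    rcases Nat.lt_or_ge n 3 with hlt | hge
    · obtain rfl : n = 2 := by omega
      exact oddFree_diag_three hodd d hd
    intro N hN hN2
    have h2 := two_ne_zero_of_odd hodd
    let T : Fin (n + 1) → Cfsg.isometryGroup F (diagForm d) := fun k => ⟨refl k, refl_mem d k⟩
    have hTT : ∀ k, T k * T k = 1 := fun k => Subtype.ext (refl_mul_self k)
    have hfix : ∀ k, ∀ x ∈ N, T k * x * T k = x → x = 1 := by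
      intro k x hx hc
      -- the block of `x` away from `k`
      let H : Subgroup (Cfsg.isometryGroup F (diagForm d)) := Subgroup.centralizer {T k}
      have hmem : ∀ y, y ∈ H ↔ T k * y * T k = y := fun y => by
        rw [Subgroup.mem_centralizer_singleton_iff]
        constructor
        · intro e
          rw [← e, mul_assoc, hTT, mul_one]
        · intro e
          conv_rhs => rw [← e]
          rw [← mul_assoc, ← mul_assoc, hTT, one_mul]
      have hH : ∀ y : H, ∀ i, i ≠ k →
          ((y.1.1 : GL (Fin (n+1)) F) : Matrix (Fin (n+1)) (Fin (n+1)) F) i k = 0 ∧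
            ((y.1.1 : GL (Fin (n+1)) F) : Matrix (Fin (n+1)) (Fin (n+1)) F) k i = 0 := fun y i hi => by
        refine diag_entry ?_ h2 hi
        have h := Subgroup.mem_centralizer_singleton_iff.mp y.2
        exact congrArg (fun z : Cfsg.isometryGroup F (diagForm d) =>
          ((z.1 : GL (Fin (n+1)) F) : Matrix (Fin (n+1)) (Fin (n+1)) F)) h.symm
      let blk : H →* Matrix (Fin n) (Fin n) F := {
        toFun := fun y => ((y.1.1 : GL (Fin (n+1)) F) : Matrix (Fin (n+1)) (Fin (n+1)) F).submatrix k.succAbove k.succAbove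
        map_one' := by
          show (1 : Matrix (Fin (n+1)) (Fin (n+1)) F).submatrix _ _ = 1
          exact Matrix.submatrix_one _ Fin.succAbove_right_injective
        map_mul' := fun y z => by
          ext i j
          show (((y.1.1 : GL (Fin (n+1)) F) : Matrix (Fin (n+1)) (Fin (n+1)) F) * ((z.1.1 : GL (Fin (n+1)) F) : Matrix (Fin (n+1)) (Fin (n+1)) F)) (k.succAbove i) (k.succAbove j) = _
          rw [Matrix.mul_apply, Fin.sum_univ_succAbove _ k, (hH z _ (Fin.succAbove_ne k j)).2, mul_zero, zero_add]
          rfl }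
      have hblk : ∀ (y : H) (v : Fin n → F), diagForm (d ∘ k.succAbove) (blk y *ᵥ v) = diagForm (d ∘ k.succAbove) v := by
        intro y v
        have h := mem_diag.mp y.1.2 (k.insertNth (α := fun _ => F) 0 v)
        simp only [diagForm, Fin.sum_univ_succAbove _ k] at h
        have hk : ((((y.1.1 : GL (Fin (n+1)) F) : Matrix (Fin (n+1)) (Fin (n+1)) F)) *ᵥ (k.insertNth (α := fun _ => F) 0 v)) k = 0 := by
          rw [Matrix.mulVec, dotProduct, Fin.sum_univ_succAbove _ k]
          simp [fun i => (hH y _ (Fin.succAbove_ne k i)).2]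
        have hi : ∀ i, (((((y.1.1 : GL (Fin (n+1)) F) : Matrix (Fin (n+1)) (Fin (n+1)) F)) *ᵥ (k.insertNth (α := fun _ => F) 0 v))
            (k.succAbove i)) = (blk y *ᵥ v) i := fun i => by
          rw [Matrix.mulVec, dotProduct, Fin.sum_univ_succAbove _ k]
          simp [blk, Matrix.mulVec, dotProduct]
        simp only [hk, hi] at h
        simpa [diagForm] using h
      let β : H →* Cfsg.isometryGroup F (diagForm (d ∘ k.succAbove)) :=
        MonoidHom.mk' (fun y => ⟨blk.toHomUnits y, mem_diag.mpr (hblk y)⟩) fun y z => Subtype.ext (map_mul _ y z)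
      have hsurj : Function.Surjective β := fun z => by
        let M : Matrix (Fin (n+1)) (Fin (n+1)) F := Matrix.of fun i j =>
          k.insertNth (α := fun _ => F) (if j = k then (1 : F) else 0) (fun a => k.insertNth (α := fun _ => F) (0 : F)
            (fun b => ((z.1 : GL (Fin n) F) : Matrix (Fin n) (Fin n) F) a b) j) i
        have hMk : ∀ w, (M *ᵥ w) k = w k := fun w => by
          simp [M, Matrix.mulVec, dotProduct]
        have hMi : ∀ w a, (M *ᵥ w) (k.succAbove a) = (((z.1 : GL (Fin n) F) : Matrix (Fin n) (Fin n) F) *ᵥ (w ∘ k.succAbove)) a := fun w a => by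
          simp [M, Matrix.mulVec, dotProduct, Fin.sum_univ_succAbove _ k]
        have hq : ∀ w, diagForm d (M *ᵥ w) = diagForm d w := fun w => by
          have h := mem_diag.mp z.2 (w ∘ k.succAbove)
          simp only [diagForm, Fin.sum_univ_succAbove _ k, hMk, hMi]
          simp only [diagForm, Function.comp_apply] at h
          rw [h]
        have hdet : IsUnit M := by
          rw [← Matrix.mulVec_injective_iff_isUnit]
          intro w w' e
          funext i
          rcases Fin.eq_self_or_eq_succAbove k i with hi | ⟨a, rfl⟩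
          · simpa [hMk, hi] using congrFun e i
          · have : ((z.1 : GL (Fin n) F) : Matrix (Fin n) (Fin n) F) *ᵥ (w ∘ k.succAbove) =
                ((z.1 : GL (Fin n) F) : Matrix (Fin n) (Fin n) F) *ᵥ (w' ∘ k.succAbove) := funext fun b => by
              rw [← hMi, ← hMi, e]
            exact congrFun (Matrix.mulVec_injective_iff_isUnit.mpr z.1.isUnit this) a
        refine ⟨⟨⟨hdet.unit, mem_diag.mpr hq⟩, ?_⟩, ?_⟩
        · rw [Subgroup.mem_centralizer_singleton_iff]
          refine Subtype.ext (Units.ext ?_)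
          show M * Matrix.diagonal _ = Matrix.diagonal _ * M
          ext i j
          rw [Matrix.mul_diagonal, Matrix.diagonal_mul]
          rcases Fin.eq_self_or_eq_succAbove k i with hi | ⟨a, hi⟩ <;>
            rcases Fin.eq_self_or_eq_succAbove k j with hj | ⟨b, hj⟩ <;>
              simp [M, hi, hj, Fin.succAbove_ne]
        · refine Subtype.ext (Units.ext (Matrix.ext fun a b => ?_))
          show M (k.succAbove a) (k.succAbove b) = _
          simp [M]
      have hbot := ih hge (d ∘ k.succAbove) (fun i => hd _) ((N.subgroupOf H).map β)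
        ((inferInstance : (N.subgroupOf H).Normal).map β hsurj)
        (hN2.of_dvd_nat ((Subgroup.card_map_dvd _ β).trans
          (Subgroup.card_comap_dvd_of_injective N H.subtype H.subtype_injective)))
      have hxH : x ∈ H := (hmem x).mpr hc
      have hβ1 : β ⟨x, hxH⟩ = 1 := by
        rw [← Subgroup.mem_bot, ← hbot]
        exact ⟨⟨x, hxH⟩, hx, rfl⟩
      have hb : ∀ a b, ((x.1 : GL (Fin (n+1)) F) : Matrix (Fin (n+1)) (Fin (n+1)) F) (k.succAbove a) (k.succAbove b) =
          (1 : Matrix (Fin n) (Fin n) F) a b := fun a b =>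
        congrArg (fun z : Cfsg.isometryGroup F (diagForm (d ∘ k.succAbove)) =>
          ((z.1 : GL (Fin n) F) : Matrix (Fin n) (Fin n) F) a b) hβ1
      have hkk : ((x.1 : GL (Fin (n+1)) F) : Matrix (Fin (n+1)) (Fin (n+1)) F) k k ^ 2 = 1 := by
        have h := mem_diag.mp x.2 (Pi.single k 1)
        simp only [diagForm, Matrix.mulVec_single_one, Fin.sum_univ_succAbove _ k, Matrix.col_apply] at h
        simp [(hH ⟨x, hxH⟩ _ (Fin.succAbove_ne k _)).1, Fin.succAbove_ne, Pi.single_apply] at h
        rw [Finset.sum_eq_zero (fun i _ => by rw [(hH ⟨x, hxH⟩ _ (Fin.succAbove_ne k i)).1]; ring), add_zero] at h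
        exact mul_left_cancel₀ (hd k) (h.trans (mul_one _).symm)
      refine eq_one_of_sq hN2 hx (Subtype.ext (Units.ext ?_))
      show ((x.1 : GL (Fin (n+1)) F) : Matrix (Fin (n+1)) (Fin (n+1)) F) * _ = 1
      have hk0 : ∀ a, ((x.1 : GL (Fin (n+1)) F) : Matrix (Fin (n+1)) (Fin (n+1)) F) (k.succAbove a) k = 0 ∧
          ((x.1 : GL (Fin (n+1)) F) : Matrix (Fin (n+1)) (Fin (n+1)) F) k (k.succAbove a) = 0 := fun a =>
        hH ⟨x, hxH⟩ _ (Fin.succAbove_ne k a)
      ext i j
      rw [Matrix.mul_apply, Fin.sum_univ_succAbove _ k]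
      rcases Fin.eq_self_or_eq_succAbove k i with hi | ⟨a, hi⟩ <;>
        rcases Fin.eq_self_or_eq_succAbove k j with hj | ⟨b, hj⟩
      · subst i; subst j; simp [hk0, ← sq, hkk]
      · simp [hi, hj, hk0, (Fin.succAbove_ne k b).symm, Matrix.one_apply]
      · simp [hi, hj, hk0, Matrix.one_apply]
      · simp [hi, hj, hk0, hb, Matrix.one_apply, (Fin.succAbove_right_injective).eq_iff]
    have hinv : ∀ k, ∀ x ∈ N, T k * x * T k = x⁻¹ := by
      intro k
      let φ : N → N := fun x => ⟨T k * x.1 * T k, by
        have := hN.conj_mem x.1 x.2 (T k)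
        rwa [show (T k)⁻¹ = T k from inv_eq_of_mul_eq_one_right (hTT k)] at this⟩
      let φh : N →* N := MonoidHom.mk' φ fun a b => Subtype.ext (by
        show T k * (a.1 * b.1) * T k = T k * a.1 * T k * (T k * b.1 * T k)
        rw [mul_assoc _ (T k) (T k * b.1 * T k), ← mul_assoc (T k) (T k * b.1), ← mul_assoc (T k) (T k), hTT, one_mul]
        simp only [mul_assoc])
      have hfpf : MonoidHom.FixedPointFree φh := fun x hx => Subtype.ext (hfix k x.1 x.2 (congrArg Subtype.val hx))
      have hinvol : Function.Involutive φh := fun x => Subtype.ext (by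
        show T k * (T k * x.1 * T k) * T k = x.1
        rw [← mul_assoc, ← mul_assoc, hTT, one_mul, mul_assoc, hTT, mul_one])
      intro x hx
      exact congrArg Subtype.val (congrFun (MonoidHom.FixedPointFree.coe_eq_inv_of_involutive hfpf hinvol) ⟨x, hx⟩)
    rw [eq_bot_iff]
    intro x hx
    rw [Subgroup.mem_bot]
    have hcomm : ∀ k l, T k * T l * x = x * (T k * T l) := by
      intro k l
      have e1 := hinv l x hx
      have e2 : T k * x⁻¹ * T k = x := by
        rw [hinv k _ (N.inv_mem hx), inv_inv]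
      have e3 : (T k * T l) * x * (T l * T k) = x := by
        rw [show (T k * T l) * x * (T l * T k) = T k * (T l * x * T l) * T k by simp only [mul_assoc], e1, e2]
      have e4 : T l * T k * (T k * T l) = 1 := by
        rw [mul_assoc, ← mul_assoc (T k), hTT, one_mul, hTT]
      conv_rhs => rw [← e3]
      rw [mul_assoc _ (T l * T k), e4, mul_one]
    set X := ((x.1 : GL (Fin (n+1)) F) : Matrix (Fin (n+1)) (Fin (n+1)) F) with hX
    have hoff : ∀ i j, i ≠ j → X i j = 0 := by
      intro i j hij
      obtain ⟨l, hl⟩ : ∃ l : Fin (n+1), l ∉ ({i, j} : Finset (Fin (n+1))) := by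
        by_contra hcon
        push Not at hcon
        have := (Finset.card_le_card (s := (Finset.univ : Finset (Fin (n+1)))) (t := {i, j}) fun a _ => hcon a).trans
          Finset.card_le_two
        simp at this
        omega
      simp only [Finset.mem_insert, Finset.mem_singleton, not_or] at hl
      have h := congrArg (fun z : Cfsg.isometryGroup F (diagForm d) =>
        ((z.1 : GL (Fin (n+1)) F) : Matrix (Fin (n+1)) (Fin (n+1)) F) i j) (hcomm i l)
      change (((refl (F := F) i : GL (Fin (n+1)) F) : Matrix (Fin (n+1)) (Fin (n+1)) F) * ((refl (F := F) l : GL (Fin (n+1)) F) : Matrix (Fin (n+1)) (Fin (n+1)) F) * X) i j = (X * (((refl (F := F) i : GL (Fin (n+1)) F) : Matrix (Fin (n+1)) (Fin (n+1)) F) * ((refl (F := F) l : GL (Fin (n+1)) F) : Matrix (Fin (n+1)) (Fin (n+1)) F))) i j at h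
      rw [refl_coe, refl_coe] at h
      rw [Matrix.diagonal_mul_diagonal, Matrix.diagonal_mul, Matrix.mul_diagonal, if_pos rfl,
        if_neg (Ne.symm hl.1), if_neg hij.symm, if_neg (Ne.symm hl.2)] at h
      exact (mul_eq_zero.mp (show (2 : F) * X i j = 0 by linear_combination -h)).resolve_left h2
    refine eq_one_of_sq hN2 hx (Subtype.ext (Units.ext ?_))
    show X * X = 1
    have hd1 : ∀ i, X i i ^ 2 = 1 := fun i => by
      have h := mem_diag.mp x.2 (Pi.single i 1)
      simp only [diagForm, Matrix.mulVec_single_one, Matrix.col_apply, ← hX] at h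
      rw [Finset.sum_eq_single i (fun j _ hj => by rw [hoff j i hj]; ring) (by simp),
        Finset.sum_eq_single i (fun j _ hj => by simp [hj]) (by simp)] at h
      simpa [hd i] using h
    ext i j
    rw [Matrix.mul_apply, Finset.sum_eq_single i (fun l _ hl => by rw [hoff i l hl.symm, zero_mul]) (by simp)]
    rcases eq_or_ne i j with rfl | hij
    · rw [← sq, hd1, Matrix.one_apply_eq]
    · rw [hoff i j hij, mul_zero, Matrix.one_apply_ne hij]

end Cfsg.Agent.Lib.Classical.OddFree
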