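import Cfsg.Agent.Lib.Classical.SocleCriterion
import Cfsg.Agent.Lib.Components.Fitting

/-!
The odd core of the centralizer of an outer involution in an almost simple group.
-/

set_option autoImplicit false

namespace Cfsg.Agent.Lib.Classical.CoreCriterion

open Cfsg.Agent.Lib.Components

variable {K : Type*} [Group K]

/-- An involutory automorphism of a group of even order has an even number of fixed points. -/
theorem two_dvd_fixed [Finite K] {β : MulAut K} (hβ : β ^ 2 = 1) (hev : 2 ∣ Nat.card K) :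
    2 ∣ Nat.card ↥(MonoidHom.eqLocus β.toMonoidHom (MonoidHom.id K)) := by
  classical
  haveI := Fintype.ofFinite K
  have hinv : Function.Involutive β := fun x => by
    show (β * β) x = x
    rw [← sq, hβ]
    rfl
  let e : Equiv.Perm K := hinv.toPerm _
  have he : e ^ 2 ^ 1 = 1 := Equiv.ext fun x => by
    rw [pow_one, sq]
    exact hinv x
  haveI : Fact (Nat.Prime 2) := ⟨Nat.prime_two⟩
  have h := Equiv.Perm.card_compl_support_modEq (p := 2) (n := 1) he
  rw [← Nat.card_eq_fintype_card] at h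
  have hc : Nat.card ↥(MonoidHom.eqLocus β.toMonoidHom (MonoidHom.id K)) = (e.supportᶜ).card := by
    rw [← Nat.card_eq_finsetCard]
    refine Nat.card_congr (Equiv.subtypeEquivRight fun x => ?_)
    rw [Finset.mem_compl, Equiv.Perm.notMem_support]
    rfl
  rw [hc]
  exact (Nat.ModEq.dvd_iff h dvd_rfl).mpr hev

/-- No odd-order obstruction in the centralizer of an involution. -/
theorem core_eq_bot_of_involution [Finite K] {A : Subgroup (MulAut K)} (hinn : ∀ k : K, MulAut.conj k ∈ A)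
    {β : MulAut K} (hZ : ∀ k : K, MulAut.conj k = 1 → k = 1)
    (ha : ∀ N : Subgroup K, (∀ n ∈ N, β n = n) →
      (∀ γ : MulAut K, γ * β = β * γ → ∀ n ∈ N, γ n ∈ N) → Odd (Nat.card N) → N = ⊥)
    (hb : ∀ γ : MulAut K, γ * β = β * γ → Odd (orderOf γ) → (∀ y, β y = y → γ y = y) → γ = 1) :
    Cfsg.pPrimeCore 2 ↥(A ⊓ Subgroup.centralizer {β}) = ⊥ := by
  classical
  haveI : Finite (MulAut K) := Finite.of_injective _ DFunLike.coe_injective
  set C := A ⊓ Subgroup.centralizer {β}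
  set Y := MonoidHom.eqLocus β.toMonoidHom (MonoidHom.id K)
  have hconj : ∀ (γ : MulAut K) (y : K), γ * MulAut.conj y * γ⁻¹ = MulAut.conj (γ y) := fun γ y =>
    MulEquiv.ext fun z => by simp [MulAut.mul_apply]
  have hcY : ∀ γ : MulAut K, γ * β = β * γ → ∀ y, β y = y → β (γ y) = γ y := fun γ hc y hy => by
    show (β * γ) y = γ y
    rw [← hc]
    show γ (β y) = γ y
    rw [hy]
  -- the odd core of the fixed points
  have hM : (Cfsg.pPrimeCore 2 ↥Y).map Y.subtype = ⊥ := by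
    refine ha _ (by rintro _ ⟨y, -, rfl⟩; exact mem_fix.mp y.2) ?_ ?_
    · intro γ hc
      rintro _ ⟨y, hy, rfl⟩
      let e : Y ≃* Y :=
        { toFun := fun y => ⟨γ y.1, mem_fix.mpr (hcY γ hc _ (mem_fix.mp y.2))⟩
          invFun := fun y => ⟨γ⁻¹ y.1, mem_fix.mpr (hcY γ⁻¹ (Commute.inv_left (show Commute γ β from hc)).eq _ (mem_fix.mp y.2))⟩
          left_inv := fun y => Subtype.ext (γ.symm_apply_apply y.1)
          right_inv := fun y => Subtype.ext (γ.apply_symm_apply y.1)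
          map_mul' := fun a b => Subtype.ext (map_mul γ _ _) }
      exact ⟨e y, map_pPrimeCore_le 2 e ⟨y, hy, rfl⟩, rfl⟩
    · rw [Subgroup.card_map_of_injective Y.subtype_injective, Nat.odd_iff]
      exact Nat.two_dvd_ne_zero.mp fun h => by
        have h2 := Nat.eq_one_of_dvd_coprimes (pPrimeCore_coprime (G := ↥Y) 2) h dvd_rfl
        norm_num at h2
  rw [← le_bot_iff]
  refine sSup_le ?_
  rintro N ⟨hNn, hNp⟩ γ hγ
  rw [Subgroup.mem_bot]
  have hcomm : γ.1 * β = β * γ.1 := Subgroup.mem_centralizer_singleton_iff.mp γ.2.2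
  let e : Y →* C := MonoidHom.mk' (fun y => ⟨MulAut.conj y.1, hinn y.1, by
    show MulAut.conj y.1 ∈ Subgroup.centralizer {β}
    rw [Subgroup.mem_centralizer_singleton_iff]
    have := hconj β y.1
    rw [mem_fix.mp y.2] at this
    exact (mul_inv_eq_iff_eq_mul.mp this).symm⟩) fun a b => Subtype.ext (map_mul _ _ _)
  have he : Function.Injective e := (injective_iff_map_eq_one e).mpr fun y hy =>
    Subtype.ext (hZ _ (congrArg Subtype.val hy))
  haveI := hNn
  have hle : N.comap e ≤ Cfsg.pPrimeCore 2 ↥Y := le_pPrimeCore (hNn.comap e) (by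
    refine Nat.Coprime.coprime_dvd_left ?_ hNp
    exact Subgroup.card_comap_dvd_of_injective N e he)
  refine Subtype.ext (hb γ.1 hcomm ?_ fun y hy => ?_)
  · rw [Subgroup.orderOf_coe, ← Subgroup.orderOf_mk γ hγ, Nat.odd_iff]
    exact Nat.two_dvd_ne_zero.mp fun h => by
      have h2 := Nat.eq_one_of_dvd_coprimes hNp (h.trans (orderOf_dvd_natCard _)) dvd_rfl
      norm_num at h2
  · let yY : Y := ⟨y, mem_fix.mpr hy⟩
    have hk : β (γ.1 y * y⁻¹) = γ.1 y * y⁻¹ := by rw [map_mul, map_inv, hy, hcY _ hcomm y hy]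
    have h1 : e ⟨_, mem_fix.mpr hk⟩ = γ * (e yY * γ⁻¹ * (e yY)⁻¹) := Subtype.ext (by
      show MulAut.conj (γ.1 y * y⁻¹) = γ.1 * (MulAut.conj y * γ.1⁻¹ * (MulAut.conj y)⁻¹)
      rw [map_mul, map_inv, ← hconj]; group)
    have h2 : (⟨_, mem_fix.mpr hk⟩ : Y) ∈ N.comap e := by
      rw [Subgroup.mem_comap, h1]
      exact N.mul_mem hγ (hNn.conj_mem _ (N.inv_mem hγ) _)
    have h3 : γ.1 y * y⁻¹ ∈ (Cfsg.pPrimeCore 2 ↥Y).map Y.subtype := ⟨_, hle h2, rfl⟩
    rw [hM, Subgroup.mem_bot, mul_inv_eq_one] at h3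
    exact h3

/-- Both sides of a balance criterion fail for such an involution. -/
theorem involution_criterion [Finite K] {A : Subgroup (MulAut K)} (hinn : ∀ k : K, MulAut.conj k ∈ A)
    {β : MulAut K} (hord : orderOf β = 2) (hev : 2 ∣ Nat.card K) (hZ : ∀ k : K, MulAut.conj k = 1 → k = 1)
    (ha : ∀ N : Subgroup K, (∀ n ∈ N, β n = n) →
      (∀ γ : MulAut K, γ * β = β * γ → ∀ n ∈ N, γ n ∈ N) → Odd (Nat.card N) → N = ⊥)
    (hb : ∀ γ : MulAut K, γ * β = β * γ → Odd (orderOf γ) → (∀ y, β y = y → γ y = y) → γ = 1) (P : Prop) :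
    Cfsg.pPrimeCore 2 ↥(A ⊓ Subgroup.centralizer {β}) ≠ ⊥ ↔
      (P ∧ Nat.Coprime 2 (Nat.card ↥(MonoidHom.eqLocus β.toMonoidHom (MonoidHom.id K)))) := by
  refine iff_of_false (fun h => h (core_eq_bot_of_involution hinn hZ ha hb)) fun h => ?_
  have h2 := Nat.eq_one_of_dvd_coprimes h.2 dvd_rfl (two_dvd_fixed (hord ▸ pow_orderOf_eq_one β) hev)
  norm_num at h2

end Cfsg.Agent.Lib.Classical.CoreCriterion
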