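import Mathlib
import Cfsg.Prelude.Def_ClassicalGeometry
import Cfsg.Agent.Lib.Classical.LinearCard
import Cfsg.Agent.Lib.Geometry.SympBasic
import Cfsg.Agent.Lib.MaxSub.Symplectic

/-!
`Sp_{2m}`: transvection generation, centre, transitivity and order.
-/

set_option autoImplicit false

namespace Cfsg.Agent.Lib.Classical

open scoped Matrix
open Cfsg.Agent.Lib.Geometry

variable {F : Type*} [Field F] {m : ℕ}

set_option quotPrecheck false in
local notation "Spm" => Subtype (fun A => A ∈ Matrix.symplecticGroup (Fin m) F)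
set_option quotPrecheck false in
local notation "Vm" => (Fin m ⊕ Fin m → F)

/-- The inclusion of `Sp_{2m}` in `GL_{2m}`. -/
noncomputable def spToGL (m : ℕ) (F : Type*) [Field F] :
    Matrix.symplecticGroup (Fin m) F →* GL (Fin m ⊕ Fin m) F :=
  (Matrix.symplecticGroup (Fin m) F).subtype.toHomUnits

@[simp] theorem spToGL_coe (g : Spm) :
    (spToGL m F g : Matrix (Fin m ⊕ Fin m) (Fin m ⊕ Fin m) F) = g.1 := rfl

theorem spToGL_injective : Function.Injective (spToGL m F) :=
  fun a b h => Subtype.ext (congrArg (fun u : GL (Fin m ⊕ Fin m) F =>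
    (u : Matrix (Fin m ⊕ Fin m) (Fin m ⊕ Fin m) F)) h)

theorem sp_form (g : Spm) (u v : Vm) :
    Cfsg.sympForm m F (g.1 *ᵥ u) (g.1 *ᵥ v) = Cfsg.sympForm m F u v :=
  mem_symplecticGroup_iff_form.mp g.2 u v

theorem spToGL_range : (spToGL m F).range = Cfsg.spGL m F := by
  ext g
  constructor
  · rintro ⟨a, rfl⟩
    exact mem_symplecticGroup_iff_form.mp a.2
  · intro hg
    exact ⟨⟨_, mem_symplecticGroup_iff_form.mpr hg⟩, Units.ext rfl⟩

/-- `Sp_{2m}` as a subgroup of `GL_{2m}`. -/
noncomputable def spEquivGL (m : ℕ) (F : Type*) [Field F] :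
    Matrix.symplecticGroup (Fin m) F ≃* Cfsg.spGL m F :=
  (MonoidHom.ofInjective spToGL_injective).trans (MulEquiv.subgroupCongr spToGL_range)

theorem sp_ext {g h : Spm} (H : ∀ x : Vm, g.1 *ᵥ x = h.1 *ᵥ x) : g = h :=
  Subtype.ext (Matrix.ext_of_mulVec_single fun k => H _)

theorem sp_mulVec_mul (g h : Spm) (x : Vm) : (g * h).1 *ᵥ x = g.1 *ᵥ (h.1 *ᵥ x) := by
  rw [Submonoid.coe_mul, Matrix.mulVec_mulVec]

theorem sp_one_mulVec (x : Vm) : (1 : Spm).1 *ᵥ x = x := by
  rw [Submonoid.coe_one, Matrix.one_mulVec]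

theorem sp_inv_mulVec_cancel (g : Spm) (x : Vm) : (g⁻¹).1 *ᵥ (g.1 *ᵥ x) = x := by
  rw [← sp_mulVec_mul, inv_mul_cancel, sp_one_mulVec]

theorem sp_mulVec_inv_cancel (g : Spm) (x : Vm) : g.1 *ᵥ ((g⁻¹).1 *ᵥ x) = x := by
  rw [← sp_mulVec_mul, mul_inv_cancel, sp_one_mulVec]

/-- A symplectic transvection as a group element. -/
noncomputable def spT (v : Vm) (c : F) : Spm :=
  ⟨Cfsg.sympTransvection m v c, sympTransvection_mem v c⟩

theorem spT_mulVec (v : Vm) (c : F) (x : Vm) :
    (spT v c).1 *ᵥ x = x + (c * Cfsg.sympForm m F x v) • v :=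
  sympTransvection_mulVec v c x

theorem spT_add (v : Vm) (c d : F) : spT v c * spT v d = spT v (c + d) :=
  Subtype.ext (sympTransvection_mul v c d)

theorem spT_zero (v : Vm) : spT v (0 : F) = 1 :=
  sp_ext fun x => by rw [spT_mulVec, zero_mul, zero_smul, add_zero, sp_one_mulVec]

theorem spT_inv (v : Vm) (c : F) : (spT v c)⁻¹ = spT v (-c) :=
  inv_eq_of_mul_eq_one_right (by rw [spT_add, add_neg_cancel, spT_zero])

theorem sympForm_smul_left (a : F) (u v : Vm) :
    Cfsg.sympForm m F (a • u) v = a * Cfsg.sympForm m F u v := by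
  rw [← sympBilin_apply, ← sympBilin_apply, map_smul, LinearMap.smul_apply, smul_eq_mul]

theorem sympForm_smul_right (a : F) (u v : Vm) :
    Cfsg.sympForm m F u (a • v) = a * Cfsg.sympForm m F u v := by
  rw [← sympBilin_apply, ← sympBilin_apply, map_smul, smul_eq_mul]

theorem sympForm_sub_right (u v w : Vm) :
    Cfsg.sympForm m F u (v - w) = Cfsg.sympForm m F u v - Cfsg.sympForm m F u w := by
  rw [← sympBilin_apply, ← sympBilin_apply, ← sympBilin_apply, map_sub]

theorem sympForm_add_right (u v w : Vm) :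
    Cfsg.sympForm m F u (v + w) = Cfsg.sympForm m F u v + Cfsg.sympForm m F u w := by
  rw [← sympBilin_apply, ← sympBilin_apply, ← sympBilin_apply, map_add]

theorem spT_smul (a : F) (v : Vm) (c : F) : spT (a • v) c = spT v (c * a * a) :=
  sp_ext fun x => by
    rw [spT_mulVec, spT_mulVec, sympForm_smul_right, smul_smul]
    ring_nf

theorem spT_conj (g : Spm) (v : Vm) (c : F) : g * spT v c * g⁻¹ = spT (g.1 *ᵥ v) c :=
  sp_ext fun x => by
    rw [sp_mulVec_mul, sp_mulVec_mul, spT_mulVec, spT_mulVec, Matrix.mulVec_add, Matrix.mulVec_smul,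
      sp_mulVec_inv_cancel]
    conv_rhs => rw [← sp_mulVec_inv_cancel g x, sp_form, sp_mulVec_inv_cancel]

/-- A subgroup containing all transvections is everything. -/
theorem sp_eq_top_of_transvections {H : Subgroup Spm} (h : ∀ (v : Vm) (c : F), spT v c ∈ H) :
    H = ⊤ := by
  refine eq_top_iff.mpr fun g _ => ?_
  have hle : Cfsg.spGL m F ≤ H.map (spToGL m F) := by
    refine MaxSub.spGL_le fun w c => ⟨spT w c, h w c, ?_⟩
    refine Units.ext (MaxSub.eq_of_mulVec_eq fun x => ?_)
    rw [MaxSub.AltForm.trans_mulVec, MaxSub.stdAlt_apply]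
    exact spT_mulVec w c x
  obtain ⟨a, ha, hag⟩ := hle (spEquivGL m F g).2
  have : a = g := spToGL_injective hag
  exact this ▸ ha

theorem exists_sympForm_eq_one {v : Vm} (hv : v ≠ 0) : ∃ x : Vm, Cfsg.sympForm m F v x = 1 := by
  obtain ⟨x, hx⟩ : ∃ x, Cfsg.sympForm m F v x ≠ 0 := by
    by_contra hcon
    push Not at hcon
    exact hv ((sympBilin_nondegenerate F m).1 v fun x => by rw [sympBilin_apply, hcon x])
  exact ⟨(Cfsg.sympForm m F v x)⁻¹ • x, by rw [sympForm_smul_right, inv_mul_cancel₀ hx]⟩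

theorem exists_sp_mulVec_eq_of_form_ne_zero {u v : Vm} (h : Cfsg.sympForm m F u v ≠ 0) :
    ∃ g : Spm, g.1 *ᵥ u = v := by
  refine ⟨spT (v - u) (Cfsg.sympForm m F u v)⁻¹, ?_⟩
  rw [spT_mulVec, sympForm_sub_right, sympForm_self, sub_zero, inv_mul_cancel₀ h, one_smul,
    add_sub_cancel]

/-- `Sp_{2m}` is transitive on non-zero vectors. -/
theorem exists_sp_mulVec_eq {u v : Vm} (hu : u ≠ 0) (hv : v ≠ 0) : ∃ g : Spm, g.1 *ᵥ u = v := by
  by_cases h : Cfsg.sympForm m F u v = 0
  · obtain ⟨x, hx⟩ := exists_sympForm_eq_one hu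
    obtain ⟨y, hy⟩ := exists_sympForm_eq_one hv
    obtain ⟨w, hw1, hw2⟩ : ∃ w, Cfsg.sympForm m F u w ≠ 0 ∧ Cfsg.sympForm m F v w ≠ 0 := by
      by_cases h1 : Cfsg.sympForm m F v x = 0
      · by_cases h2 : Cfsg.sympForm m F u y = 0
        · exact ⟨x + y, by rw [sympForm_add_right, hx, h2, add_zero]; exact one_ne_zero,
            by rw [sympForm_add_right, hy, h1, zero_add]; exact one_ne_zero⟩
        · exact ⟨y, h2, by rw [hy]; exact one_ne_zero⟩
      · exact ⟨x, by rw [hx]; exact one_ne_zero, h1⟩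
    obtain ⟨g₁, hg₁⟩ := exists_sp_mulVec_eq_of_form_ne_zero hw1
    obtain ⟨g₂, hg₂⟩ := exists_sp_mulVec_eq_of_form_ne_zero
      (u := w) (v := v) (by rw [sympForm_swap]; exact neg_ne_zero.mpr hw2)
    exact ⟨g₂ * g₁, by rw [sp_mulVec_mul, hg₁, hg₂]⟩
  · exact exists_sp_mulVec_eq_of_form_ne_zero h

theorem sp_scalar_of_commute_transvections (z : Spm) (h : ∀ (v : Vm), z * spT v 1 = spT v 1 * z)
    (v : Vm) : ∃ a : F, z.1 *ᵥ v = a • v := by
  rcases eq_or_ne v 0 with rfl | hv
  · exact ⟨0, by rw [Matrix.mulVec_zero, smul_zero]⟩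
  obtain ⟨x, hx⟩ := exists_sympForm_eq_one hv
  have h' := congrArg (fun g : Spm => g.1 *ᵥ x) (h v)
  simp only [sp_mulVec_mul, spT_mulVec, one_mul, Matrix.mulVec_add, Matrix.mulVec_smul] at h'
  rw [add_left_cancel_iff, sympForm_swap x v, hx, neg_one_smul] at h'
  exact ⟨-(Cfsg.sympForm m F (z.1 *ᵥ x) v), by rw [neg_smul, ← h', neg_neg]⟩

theorem mem_center_sp_iff (hm : 1 ≤ m) (z : Spm) :
    z ∈ Subgroup.center Spm ↔ z.1 = 1 ∨ z.1 = -1 := by
  constructor
  · intro hz
    have hall := sp_scalar_of_commute_transvections z fun v => (Subgroup.mem_center_iff.mp hz _).symm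
    obtain ⟨a, ha⟩ := (Matrix.toLin' z.1).exists_eq_smul_id_of_forall_notLinearIndependent fun v => by
      by_cases hv : v = 0
      · simp [hv, linearIndependent_fin2]
      · obtain ⟨b, hb⟩ := hall v
        rw [LinearIndependent.pair_iff' hv]
        push Not
        exact ⟨b, by rw [Matrix.toLin'_apply, hb]⟩
    have hz' : ∀ x : Vm, z.1 *ᵥ x = a • x := fun x => by
      rw [← Matrix.toLin'_apply, ha]; rfl
    let i₀ : Fin m := ⟨0, hm⟩
    have hv : (Pi.single (Sum.inl i₀) (1 : F) : Vm) ≠ 0 := Pi.single_ne_zero_iff.2 one_ne_zero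
    obtain ⟨x, hx⟩ := exists_sympForm_eq_one hv
    have h := sp_form z (Pi.single (Sum.inl i₀) (1 : F)) x
    rw [hz', hz', sympForm_smul_left, sympForm_smul_right, hx, mul_one] at h
    rcases mul_self_eq_one_iff.mp h with rfl | rfl
    · left
      exact Matrix.ext_of_mulVec_single fun k => by rw [hz', one_smul, Matrix.one_mulVec]
    · right
      exact Matrix.ext_of_mulVec_single fun k => by
        rw [hz', neg_one_smul, Matrix.neg_mulVec, Matrix.one_mulVec]
  · intro h
    rw [Subgroup.mem_center_iff]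
    intro g
    apply Subtype.ext
    rw [Submonoid.coe_mul, Submonoid.coe_mul]
    rcases h with h | h <;> rw [h] <;> simp

theorem card_center_sp [Fintype F] (hm : 1 ≤ m) :
    Nat.card (Subgroup.center Spm) = Nat.gcd 2 (Fintype.card F - 1) := by
  have hn : -1 ∈ Matrix.symplecticGroup (Fin m) F := SymplecticGroup.neg_mem (Submonoid.one_mem _)
  rw [← natCard_units, Nat.gcd_comm, ← IsCyclic.card_powMonoidHom_ker]
  let i : Fin m ⊕ Fin m := Sum.inl ⟨0, hm⟩
  let z : Fˣ → Spm := fun u =>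
    haveI := Classical.dec (u = 1)
    if u = 1 then 1 else ⟨-1, hn⟩
  have hzmem : ∀ u, z u ∈ Subgroup.center Spm := fun u => by
    refine (mem_center_sp_iff hm _).mpr ?_
    by_cases h : u = 1
    · left; simp [z, h]
    · right; simp [z, h]
  let Φ : (powMonoidHom 2 : Fˣ →* Fˣ).ker → Subgroup.center Spm := fun u => ⟨z u.1, hzmem _⟩
  refine (Nat.card_congr (Equiv.ofBijective Φ ⟨?_, ?_⟩)).symm
  · rintro ⟨u, hu⟩ ⟨w, hw⟩ h
    have hu' : (u : F) = 1 ∨ (u : F) = -1 := sq_eq_one_iff.mp (by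
      have := congrArg Units.val hu; simpa using this)
    have hw' : (w : F) = 1 ∨ (w : F) = -1 := sq_eq_one_iff.mp (by
      have := congrArg Units.val hw; simpa using this)
    have h' := congrArg (fun g : Subgroup.center Spm => (g.1.1) i i) h
    simp only [Φ, z] at h'
    apply Subtype.ext
    show u = w
    by_cases h1 : u = 1 <;> by_cases h2 : w = 1
    · rw [h1, h2]
    · exfalso
      simp [h1, h2] at h'
      rcases hw' with e | e
      · exact h2 (Units.ext e)
      · exact h2 (Units.ext (by rw [e, ← h']; rfl))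
    · exfalso
      simp [h1, h2] at h'
      rcases hu' with e | e
      · exact h1 (Units.ext e)
      · exact h1 (Units.ext (by rw [e, h']; rfl))
    · exact Units.ext ((hu'.resolve_left fun e => h1 (Units.ext e)).trans
        (hw'.resolve_left fun e => h2 (Units.ext e)).symm)
  · rintro ⟨g, hg⟩
    by_cases h1 : g = 1
    · exact ⟨⟨1, one_mem _⟩, Subtype.ext (by simp [Φ, z, h1])⟩
    · rcases (mem_center_sp_iff hm g).mp hg with h | h
      · exact absurd (Subtype.ext h) h1
      · refine ⟨⟨-1, by simp⟩, Subtype.ext ?_⟩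
        have hne : (-1 : Fˣ) ≠ 1 := by
          intro e
          apply h1
          refine Subtype.ext ?_
          have e' : (-1 : F) = 1 := by simpa using congrArg Units.val e
          rw [h, Submonoid.coe_one]
          rw [← neg_one_smul F (1 : Matrix (Fin m ⊕ Fin m) (Fin m ⊕ Fin m) F), e', one_smul]
        simp only [Φ, z, hne, if_false]
        exact Subtype.ext h.symm

end Cfsg.Agent.Lib.Classical
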