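import Mathlib
import Cfsg.Agent.Lib.Classical.SympGroup
import Cfsg.Agent.Lib.Classical.LinearSimple

/-!
Perfectness of `Sp_{2m}` and simplicity of `PSp_{2m}`.
-/

set_option autoImplicit false

namespace Cfsg.Agent.Lib.Classical

open scoped Matrix LinearAlgebra.Projectivization commutatorElement Pointwise
open Cfsg.Agent.Lib.Geometry

variable {F : Type*} [Field F] {m : ℕ}

set_option quotPrecheck false in
local notation "Spm" => Subtype (fun A => A ∈ Matrix.symplecticGroup (Fin m) F)
set_option quotPrecheck false in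
local notation "Vm" => (Fin m ⊕ Fin m → F)

/-- `diag(A, A^{-T})`. -/
noncomputable def spM (A : Matrix.GeneralLinearGroup (Fin m) F) : Spm :=
  ⟨Matrix.fromBlocks A.1 0 0 ((A⁻¹).1)ᵀ, by
    rw [SymplecticGroup.fromBlocks_mem_iff]
    refine ⟨by simp, by simp, ?_⟩
    rw [Matrix.transpose_zero, Matrix.zero_mul, sub_zero, ← Matrix.transpose_mul, ← Units.val_mul,
      inv_mul_cancel, Units.val_one, Matrix.transpose_one]⟩

/-- `[[1, X], [0, 1]]` for symmetric `X`. -/
def spN (X : Matrix (Fin m) (Fin m) F) (hX : Xᵀ = X) : Spm :=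
  ⟨Matrix.fromBlocks 1 X 0 1, by
    rw [SymplecticGroup.fromBlocks_mem_iff]
    exact ⟨by simp, by simp [hX], by simp⟩⟩

theorem spN_mul (X Y : Matrix (Fin m) (Fin m) F) (hX : Xᵀ = X) (hY : Yᵀ = Y) :
    spN X hX * spN Y hY = spN (X + Y) (by rw [Matrix.transpose_add, hX, hY]) := by
  refine Subtype.ext ?_
  show Matrix.fromBlocks 1 X 0 1 * Matrix.fromBlocks 1 Y 0 1 = Matrix.fromBlocks 1 (X + Y) 0 1
  rw [Matrix.fromBlocks_multiply]
  simp [add_comm]

theorem spN_congr {X Y : Matrix (Fin m) (Fin m) F} (hX : Xᵀ = X) (hY : Yᵀ = Y) (h : X = Y) :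
    spN X hX = spN Y hY := by subst h; rfl

theorem transpose_conj_symm {A X : Matrix (Fin m) (Fin m) F} (hX : Xᵀ = X) :
    (A * X * Aᵀ)ᵀ = A * X * Aᵀ := by
  rw [Matrix.transpose_mul, Matrix.transpose_mul, Matrix.transpose_transpose, hX, Matrix.mul_assoc]

theorem spM_spN_commutator (A : Matrix.GeneralLinearGroup (Fin m) F)
    (X : Matrix (Fin m) (Fin m) F) (hX : Xᵀ = X) :
    ⁅spM A, spN X hX⁆ = spN (A.1 * X * A.1ᵀ - X)
      (by rw [Matrix.transpose_sub, transpose_conj_symm hX, hX]) := by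
  have h1 : spM A * spN X hX = spN (A.1 * X * A.1ᵀ) (transpose_conj_symm hX) * spM A := by
    refine Subtype.ext ?_
    show Matrix.fromBlocks A.1 0 0 ((A⁻¹).1)ᵀ * Matrix.fromBlocks 1 X 0 1 =
      Matrix.fromBlocks 1 (A.1 * X * A.1ᵀ) 0 1 * Matrix.fromBlocks A.1 0 0 ((A⁻¹).1)ᵀ
    rw [Matrix.fromBlocks_multiply, Matrix.fromBlocks_multiply]
    have : A.1ᵀ * ((A⁻¹).1)ᵀ = 1 := by
      rw [← Matrix.transpose_mul, ← Units.val_mul, inv_mul_cancel, Units.val_one, Matrix.transpose_one]
    simp only [Matrix.one_mul, Matrix.mul_one, Matrix.zero_mul, Matrix.mul_zero, add_zero, zero_add,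
      Matrix.mul_assoc, this]
  rw [commutatorElement_def, h1, mul_inv_cancel_right, mul_inv_eq_iff_eq_mul, spN_mul]
  exact spN_congr _ _ (by rw [sub_add_cancel])

theorem single_symm (k : Fin m) (a : F) :
    (Matrix.single k k a : Matrix (Fin m) (Fin m) F)ᵀ = Matrix.single k k a :=
  Matrix.transpose_single ..

theorem single_pair_symm (k l : Fin m) (a : F) :
    (Matrix.single k l a + Matrix.single l k a : Matrix (Fin m) (Fin m) F)ᵀ =
      Matrix.single k l a + Matrix.single l k a := by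
  rw [Matrix.transpose_add, Matrix.transpose_single, Matrix.transpose_single, add_comm]

/-- `1 + E_kl` as a unit. -/
noncomputable def elemGL (k l : Fin m) (h : k ≠ l) : Matrix.GeneralLinearGroup (Fin m) F :=
  Matrix.SpecialLinearGroup.toGL (Matrix.SpecialLinearGroup.transvection h (1 : F))

theorem elemGL_coe (k l : Fin m) (h : k ≠ l) :
    ((elemGL k l h : Matrix.GeneralLinearGroup (Fin m) F) : Matrix (Fin m) (Fin m) F) =
      1 + Matrix.single k l 1 := by
  rw [elemGL, Matrix.SpecialLinearGroup.coe_GL_coe_matrix]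
  exact Matrix.SpecialLinearGroup.transvection_coe h 1

theorem comm_diag_pair (k l : Fin m) (h : k ≠ l) (a : F) :
    spN (Matrix.single k k a + (Matrix.single k l a + Matrix.single l k a))
      (by rw [Matrix.transpose_add, single_symm, single_pair_symm]) ∈ commutator Spm := by
  have he : spN (Matrix.single k k a + (Matrix.single k l a + Matrix.single l k a))
      (by rw [Matrix.transpose_add, single_symm, single_pair_symm]) =
      ⁅spM (elemGL (F := F) k l h), spN (Matrix.single l l a) (single_symm l a)⁆ := by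
    rw [spM_spN_commutator]
    refine spN_congr _ _ ?_
    rw [elemGL_coe, Matrix.transpose_add, Matrix.transpose_one, Matrix.transpose_single]
    simp only [add_mul, one_mul, mul_add, mul_one, Matrix.single_mul_single_same]
    abel
  exact he ▸ Subgroup.commutator_mem_commutator trivial trivial

theorem comm_two_diag (k l : Fin m) (h : k ≠ l) (a : F) :
    spN (Matrix.single k k (a + a)) (single_symm k _) ∈ commutator Spm := by
  have he : spN (Matrix.single k k (a + a)) (single_symm k _) =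
      ⁅spM (elemGL (F := F) k l h), spN (Matrix.single k l a + Matrix.single l k a) (single_pair_symm k l a)⁆ := by
    rw [spM_spN_commutator]
    refine spN_congr _ _ ?_
    rw [elemGL_coe, Matrix.transpose_add, Matrix.transpose_one, Matrix.transpose_single]
    simp only [add_mul, one_mul, mul_add, mul_one, Matrix.single_mul_single_same,
      Matrix.single_mul_single_of_ne _ _ _ _ h.symm, Matrix.single_mul_single_of_ne _ _ _ _ h, add_zero, zero_add, zero_mul,
      Matrix.single_add]
    abel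
  exact he ▸ Subgroup.commutator_mem_commutator trivial trivial

theorem comm_pair (k j l : Fin m) (hkj : k ≠ j) (hjl : j ≠ l) (hkl : k ≠ l) (a : F) :
    spN (Matrix.single k l a + Matrix.single l k a) (single_pair_symm k l a) ∈ commutator Spm := by
  have he : spN (Matrix.single k l a + Matrix.single l k a) (single_pair_symm k l a) =
      ⁅spM (elemGL (F := F) k j hkj), spN (Matrix.single j l a + Matrix.single l j a) (single_pair_symm j l a)⁆ := by
    rw [spM_spN_commutator]
    refine spN_congr _ _ ?_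
    rw [elemGL_coe, Matrix.transpose_add, Matrix.transpose_one, Matrix.transpose_single]
    simp only [add_mul, one_mul, mul_add, mul_one, Matrix.single_mul_single_same,
      Matrix.single_mul_single_of_ne _ _ _ _ hjl, Matrix.single_mul_single_of_ne _ _ _ _ hjl.symm,
      add_zero, zero_add, zero_mul]
    abel
  exact he ▸ Subgroup.commutator_mem_commutator trivial trivial

theorem comm_diag_scaled (k : Fin m) (t : F) (ht : t ≠ 0) (a : F) :
    spN (Matrix.single k k ((t * t - 1) * a)) (single_symm k _) ∈ commutator Spm := by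
  have he : spN (Matrix.single k k ((t * t - 1) * a)) (single_symm k _) =
      ⁅spM (diag1n k (Units.mk0 t ht)), spN (Matrix.single k k a) (single_symm k a)⁆ := by
    rw [spM_spN_commutator]
    refine spN_congr _ _ ?_
    ext i j
    simp only [diag1n, Units.val_mk0, Matrix.sub_apply, Matrix.diagonal_transpose,
      Matrix.mul_diagonal, Matrix.diagonal_mul, Matrix.single_apply]
    by_cases hi : k = i
    · by_cases hj : k = j
      · subst hi hj; simp; ring
      · subst hi; simp [hj]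
    · simp [hi]
  exact he ▸ Subgroup.commutator_mem_commutator trivial trivial

theorem exists_sq_ne_one (hF : 4 ≤ Nat.card F) : ∃ t : F, t ≠ 0 ∧ t * t - 1 ≠ 0 := by
  have : Finite F := (Nat.card_pos_iff.1 (by omega)).2
  obtain ⟨x, hx⟩ : IsCyclic Fˣ := by infer_instance
  refine ⟨x, Units.ne_zero x, fun h => ?_⟩
  have h2 : x ^ 2 = 1 := Units.ext (by simp [pow_two, sub_eq_zero.mp h])
  have h3 := orderOf_le_of_pow_eq_one zero_lt_two h2
  rw [orderOf_eq_card_of_forall_mem_zpowers hx, Nat.card_units] at h3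
  omega

theorem spN_single_eq_spT (k : Fin m) (c : F) :
    spN (Matrix.single k k c) (single_symm k c) = spT (Pi.single (Sum.inl k) 1 : Vm) c := by
  refine Subtype.ext (Matrix.ext fun i j => ?_)
  show Matrix.fromBlocks 1 (Matrix.single k k c) 0 1 i j =
    (1 + c • Matrix.vecMulVec _ (Matrix.J (Fin m) F *ᵥ Pi.single (Sum.inl k) 1)) i j
  rw [Matrix.mulVec_single_one]
  rcases i with i | i <;> rcases j with j | j <;>
    simp [Matrix.vecMulVec_apply, Matrix.J, Matrix.col, Matrix.one_apply, Matrix.single_apply,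
      Pi.single_apply, eq_comm, ite_and] <;>
    (split_ifs <;> simp_all)

/-- The hypothesis under which `Sp_{2m}` is perfect. -/
theorem commutator_sp_eq_top
    (h : 3 ≤ m ∨ (2 ≤ m ∧ (2 : F) ≠ 0) ∨ ∃ t : F, t ≠ 0 ∧ t * t - 1 ≠ 0) :
    commutator Spm = ⊤ := by
  rcases Nat.eq_zero_or_pos m with rfl | hm
  · exact Subsingleton.elim _ _
  have hk : ∀ c : F, ∃ k : Fin m, spN (Matrix.single k k c) (single_symm k c) ∈ commutator Spm := by
    intro c
    rcases h with h | ⟨h, h2⟩ | ⟨t, ht, ht'⟩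
    · let k : Fin m := ⟨0, by omega⟩
      let j : Fin m := ⟨1, by omega⟩
      let l : Fin m := ⟨2, by omega⟩
      have hkj : k ≠ j := Fin.ne_of_val_ne (by norm_num)
      have hjl : j ≠ l := Fin.ne_of_val_ne (by norm_num)
      have hkl : k ≠ l := Fin.ne_of_val_ne (by norm_num)
      refine ⟨k, ?_⟩
      have h1 := mul_mem (comm_diag_pair k l hkl c) (comm_pair k j l hkj hjl hkl (-c))
      rw [spN_mul] at h1
      convert h1 using 2
      rw [← Matrix.single_neg, ← Matrix.single_neg]
      abel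
    · refine ⟨⟨0, hm⟩, ?_⟩
      have h1 := comm_two_diag (⟨0, hm⟩ : Fin m) ⟨1, by omega⟩ (Fin.ne_of_val_ne (by norm_num))
        (c / 2)
      convert h1 using 2
      rw [← two_mul, mul_div_cancel₀ c h2]
    · refine ⟨⟨0, hm⟩, ?_⟩
      have h1 := comm_diag_scaled (⟨0, hm⟩ : Fin m) t ht (c / (t * t - 1))
      convert h1 using 2
      rw [mul_div_cancel₀ c ht']
  refine sp_eq_top_of_transvections fun v c => ?_
  obtain ⟨k, hkc⟩ := hk c
  rw [spN_single_eq_spT] at hkc
  rcases eq_or_ne v 0 with rfl | hv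
  · have : spT (0 : Vm) c = 1 := sp_ext fun x => by
      rw [spT_mulVec, smul_zero, add_zero, sp_one_mulVec]
    rw [this]
    exact one_mem _
  · obtain ⟨g, hg⟩ := exists_sp_mulVec_eq (Pi.single_ne_zero_iff.2 (one_ne_zero (α := F))) hv
    rw [← hg, ← spT_conj]
    exact (inferInstance : (commutator Spm).Normal).conj_mem _ hkc g

/-! ### The action on points -/

theorem sp_smul_mk (g : Spm) {v : Vm} (hv : v ≠ 0) (h : g.1 *ᵥ v ≠ 0) :
    g • Projectivization.mk F v hv = Projectivization.mk F (g.1 *ᵥ v) h := rfl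

theorem sp_mulVec_ne_zero (g : Spm) {v : Vm} (hv : v ≠ 0) : g.1 *ᵥ v ≠ 0 := fun h => by
  apply hv
  rw [← sp_inv_mulVec_cancel g v, h, Matrix.mulVec_zero]

instance spProjPretransitive : MulAction.IsPretransitive Spm (ℙ F Vm) :=
  ⟨fun x y => by
    induction x using Projectivization.ind with | _ u hu => ?_
    induction y using Projectivization.ind with | _ v hv => ?_
    obtain ⟨g, hg⟩ := exists_sp_mulVec_eq hu hv
    refine ⟨g, ?_⟩
    rw [sp_smul_mk g hu (sp_mulVec_ne_zero g hu), Projectivization.mk_eq_mk_iff']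
    exact ⟨1, by rw [one_smul, hg]⟩⟩

theorem exists_sp_fix_of_nonperp {u v v' : Vm} (h : Cfsg.sympForm m F u v = 1)
    (h' : Cfsg.sympForm m F u v' = 1) : ∃ g : Spm, g.1 *ᵥ u = u ∧ g.1 *ᵥ v = v' := by
  have step : ∀ {a b : Vm}, Cfsg.sympForm m F u a = 1 → Cfsg.sympForm m F u b = 1 →
      Cfsg.sympForm m F a b ≠ 0 → ∃ g : Spm, g.1 *ᵥ u = u ∧ g.1 *ᵥ a = b := by
    intro a b ha hb hab
    refine ⟨spT (b - a) (Cfsg.sympForm m F a b)⁻¹, ?_, ?_⟩
    · rw [spT_mulVec, sympForm_sub_right, ha, hb, sub_self, mul_zero, zero_smul, add_zero]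
    · rw [spT_mulVec, sympForm_sub_right, sympForm_self, sub_zero, inv_mul_cancel₀ hab, one_smul,
        add_sub_cancel]
  by_cases hvv : Cfsg.sympForm m F v v' = 0
  · have hw : Cfsg.sympForm m F u (u + v') = 1 := by rw [sympForm_add_right, sympForm_self, h', zero_add]
    obtain ⟨g₁, hg₁u, hg₁⟩ := step h hw (by
      rw [sympForm_add_right, hvv, add_zero, sympForm_swap, h]
      exact neg_ne_zero.mpr one_ne_zero)
    obtain ⟨g₂, hg₂u, hg₂⟩ := step hw h' (by
      rw [sympForm_swap, sympForm_add_right, sympForm_self, add_zero, sympForm_swap, h', neg_neg]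
      exact one_ne_zero)
    exact ⟨g₂ * g₁, by rw [sp_mulVec_mul, hg₁u, hg₂u], by rw [sp_mulVec_mul, hg₁, hg₂]⟩
  · exact step h h' hvv

theorem exists_perp_pair {u v : Vm} (hu : u ≠ 0) (hv : ∀ a : F, a • u ≠ v) :
    ∃ x : Vm, Cfsg.sympForm m F u x = 0 ∧ Cfsg.sympForm m F v x = 1 := by
  obtain ⟨y, hy, hy1⟩ := (MaxSub.stdAlt m F).exists_perp_eq_one (Submodule.span F {u}) (x := v)
    (by rw [Submodule.mem_span_singleton]; exact fun ⟨a, ha⟩ => hv a ha)
  rw [MaxSub.stdAlt_apply] at hy1
  have := hy u (Submodule.mem_span_singleton_self u)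
  rw [MaxSub.stdAlt_apply] at this
  exact ⟨y, this, hy1⟩

theorem exists_sp_fix_of_perp {u v v' : Vm} (hu : u ≠ 0) (h : Cfsg.sympForm m F u v = 0)
    (h' : Cfsg.sympForm m F u v' = 0) (hv : ∀ a : F, a • u ≠ v) (hv' : ∀ a : F, a • u ≠ v') :
    ∃ g : Spm, g.1 *ᵥ u = u ∧ g.1 *ᵥ v = v' := by
  have step : ∀ {a b : Vm}, Cfsg.sympForm m F u a = 0 → Cfsg.sympForm m F u b = 0 →
      Cfsg.sympForm m F a b ≠ 0 → ∃ g : Spm, g.1 *ᵥ u = u ∧ g.1 *ᵥ a = b := by
    intro a b ha hb hab
    refine ⟨spT (b - a) (Cfsg.sympForm m F a b)⁻¹, ?_, ?_⟩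
    · rw [spT_mulVec, sympForm_sub_right, ha, hb, sub_self, mul_zero, zero_smul, add_zero]
    · rw [spT_mulVec, sympForm_sub_right, sympForm_self, sub_zero, inv_mul_cancel₀ hab, one_smul,
        add_sub_cancel]
  by_cases hvv : Cfsg.sympForm m F v v' = 0
  · obtain ⟨x, hx0, hx⟩ := exists_perp_pair hu hv
    obtain ⟨y, hy0, hy⟩ := exists_perp_pair hu hv'
    obtain ⟨w, hw, hw1, hw2⟩ : ∃ w, Cfsg.sympForm m F u w = 0 ∧ Cfsg.sympForm m F v w ≠ 0 ∧
        Cfsg.sympForm m F w v' ≠ 0 := by
      by_cases h1 : Cfsg.sympForm m F v' x = 0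
      · by_cases h2 : Cfsg.sympForm m F v y = 0
        · refine ⟨x + y, by rw [sympForm_add_right, hx0, hy0, add_zero],
            by rw [sympForm_add_right, hx, h2, add_zero]; exact one_ne_zero, ?_⟩
          rw [sympForm_swap, sympForm_add_right, h1, hy, zero_add]
          exact neg_ne_zero.mpr one_ne_zero
        · exact ⟨y, hy0, h2, by rw [sympForm_swap, hy]; exact neg_ne_zero.mpr one_ne_zero⟩
      · exact ⟨x, hx0, by rw [hx]; exact one_ne_zero, by rw [sympForm_swap]; exact neg_ne_zero.mpr h1⟩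
    obtain ⟨g₁, hg₁u, hg₁⟩ := step h hw hw1
    obtain ⟨g₂, hg₂u, hg₂⟩ := step hw h' hw2
    exact ⟨g₂ * g₁, by rw [sp_mulVec_mul, hg₁u, hg₂u], by rw [sp_mulVec_mul, hg₁, hg₂]⟩
  · exact step h h' hvv

/-- A block with two non-orthogonal points is everything. -/
theorem sp_block_univ {B : Set (ℙ F Vm)} (hB : MulAction.IsBlock Spm B) {u v : Vm} (hu : u ≠ 0)
    (hv : v ≠ 0) (huB : Projectivization.mk F u hu ∈ B) (hvB : Projectivization.mk F v hv ∈ B)
    (h : Cfsg.sympForm m F u v ≠ 0) : B = Set.univ := by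
  have spread : ∀ {a b : Vm} (ha : a ≠ 0) (hb : b ≠ 0), Projectivization.mk F a ha ∈ B →
      Projectivization.mk F b hb ∈ B → Cfsg.sympForm m F a b ≠ 0 →
      ∀ {c : Vm} (hc : c ≠ 0), Cfsg.sympForm m F a c ≠ 0 → Projectivization.mk F c hc ∈ B := by
    intro a b ha hb haB hbB hab c hc hac
    obtain ⟨g, hga, hgb⟩ := exists_sp_fix_of_nonperp
      (v := (Cfsg.sympForm m F a b)⁻¹ • b) (v' := (Cfsg.sympForm m F a c)⁻¹ • c)
      (by rw [sympForm_smul_right, inv_mul_cancel₀ hab]) (by rw [sympForm_smul_right, inv_mul_cancel₀ hac])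
    have hgB : g • B = B := by
      rcases hB.smul_eq_or_disjoint g with e | e
      · exact e
      · exfalso
        refine Set.disjoint_left.mp e (Set.smul_mem_smul_set haB) ?_
        rw [sp_smul_mk g ha (sp_mulVec_ne_zero g ha)]
        simpa only [hga] using haB
    have hb' := Set.smul_mem_smul_set (a := g) hbB
    rw [hgB, sp_smul_mk g hb (sp_mulVec_ne_zero g hb)] at hb'
    convert hb' using 1
    rw [Projectivization.mk_eq_mk_iff']
    refine ⟨Cfsg.sympForm m F a c * (Cfsg.sympForm m F a b)⁻¹, ?_⟩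
    rw [Matrix.mulVec_smul] at hgb
    rw [mul_smul, hgb, smul_inv_smul₀ hac]
  refine Set.eq_univ_of_forall fun r => ?_
  induction r using Projectivization.ind with | _ w hw => ?_
  by_cases huw : Cfsg.sympForm m F u w = 0
  · obtain ⟨x, hx⟩ := exists_sympForm_eq_one hu
    obtain ⟨y, hy⟩ := exists_sympForm_eq_one hw
    obtain ⟨s, hs1, hs2⟩ : ∃ s, Cfsg.sympForm m F u s ≠ 0 ∧ Cfsg.sympForm m F w s ≠ 0 := by
      by_cases h1 : Cfsg.sympForm m F w x = 0
      · by_cases h2 : Cfsg.sympForm m F u y = 0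
        · exact ⟨x + y, by rw [sympForm_add_right, hx, h2, add_zero]; exact one_ne_zero,
            by rw [sympForm_add_right, hy, h1, zero_add]; exact one_ne_zero⟩
        · exact ⟨y, h2, by rw [hy]; exact one_ne_zero⟩
      · exact ⟨x, by rw [hx]; exact one_ne_zero, h1⟩
    have hs0 : s ≠ 0 := by
      rintro rfl
      rw [← sympBilin_apply, map_zero] at hs1
      exact hs1 rfl
    exact spread hs0 hu (spread hu hv huB hvB h hs0 hs1) huB
      (by rw [sympForm_swap]; exact neg_ne_zero.mpr hs1) hw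
      (by rw [sympForm_swap]; exact neg_ne_zero.mpr hs2)
  · exact spread hu hv huB hvB h hw huw

instance spProjPreprimitive : MulAction.IsPreprimitive Spm (ℙ F Vm) := by
  refine ⟨fun {B} hB => ?_⟩
  rw [MulAction.IsTrivialBlock]
  by_contra hcon
  push Not at hcon
  obtain ⟨⟨p, hp, q, hq, hpq⟩, hne⟩ : (∃ p ∈ B, ∃ q ∈ B, p ≠ q) ∧ B ≠ Set.univ := by
    obtain ⟨h1, h2⟩ := hcon
    exact ⟨Set.not_subsingleton_iff.mp (by simpa using h1), h2⟩
  apply hne
  induction p using Projectivization.ind with | _ u hu => ?_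
  induction q using Projectivization.ind with | _ v hv => ?_
  have hnot : ∀ a : F, a • u ≠ v := fun a ha =>
    hpq ((Projectivization.mk_eq_mk_iff' ..).mpr ⟨a, ha⟩).symm
  by_cases h : Cfsg.sympForm m F u v = 0
  · obtain ⟨x, hx0, hx⟩ := exists_perp_pair hu hnot
    have hxne : x ≠ 0 := by
      rintro rfl
      rw [← sympBilin_apply, map_zero] at hx
      exact zero_ne_one hx
    have hnotx : ∀ a : F, a • u ≠ x := fun a ha => by
      rw [← ha, sympForm_smul_right, sympForm_swap, h, neg_zero, mul_zero] at hx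
      exact zero_ne_one hx
    obtain ⟨g, hgu, hgv⟩ := exists_sp_fix_of_perp hu h hx0 hnot hnotx
    have hgB : g • B = B := by
      rcases hB.smul_eq_or_disjoint g with e | e
      · exact e
      · exfalso
        refine Set.disjoint_left.mp e (Set.smul_mem_smul_set hp) ?_
        rw [sp_smul_mk g hu (sp_mulVec_ne_zero g hu)]
        simpa only [hgu] using hp
    have hx' := Set.smul_mem_smul_set (a := g) hq
    rw [hgB, sp_smul_mk g hv (sp_mulVec_ne_zero g hv)] at hx'
    simp only [hgv] at hx'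
    exact sp_block_univ hB hv hxne hq hx' (by rw [hx]; exact one_ne_zero)
  · exact sp_block_univ hB hu hv hp hq h

theorem sp_action_ker (hm : 1 ≤ m) :
    (MulAction.toPermHom Spm (ℙ F Vm)).ker = Subgroup.center Spm := by
  ext g
  rw [MonoidHom.mem_ker, mem_center_sp_iff hm]
  constructor
  · intro h
    have hall : ∀ v : Vm, ∃ a : F, g.1 *ᵥ v = a • v := by
      intro v
      rcases eq_or_ne v 0 with rfl | hv
      · exact ⟨0, by rw [Matrix.mulVec_zero, smul_zero]⟩
      have := Equiv.ext_iff.mp h (Projectivization.mk F v hv)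
      rw [MulAction.toPermHom_apply, MulAction.toPerm_apply, Equiv.Perm.one_apply,
        sp_smul_mk g hv (sp_mulVec_ne_zero g hv), Projectivization.mk_eq_mk_iff'] at this
      obtain ⟨a, ha⟩ := this
      exact ⟨a, ha.symm⟩
    rw [← mem_center_sp_iff hm, Subgroup.mem_center_iff]
    obtain ⟨a, ha⟩ := (Matrix.toLin' g.1).exists_eq_smul_id_of_forall_notLinearIndependent fun v => by
      by_cases hv : v = 0
      · simp [hv, linearIndependent_fin2]
      · obtain ⟨b, hb⟩ := hall v
        rw [LinearIndependent.pair_iff' hv]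
        push Not
        exact ⟨b, by rw [Matrix.toLin'_apply, hb]⟩
    have hg : ∀ x : Vm, g.1 *ᵥ x = a • x := fun x => by rw [← Matrix.toLin'_apply, ha]; rfl
    intro k
    exact sp_ext fun x => by rw [sp_mulVec_mul, sp_mulVec_mul, hg, hg, Matrix.mulVec_smul]
  · intro h
    refine Equiv.ext fun p => ?_
    induction p using Projectivization.ind with | _ v hv => ?_
    rw [MulAction.toPermHom_apply, MulAction.toPerm_apply, Equiv.Perm.one_apply,
      sp_smul_mk g hv (sp_mulVec_ne_zero g hv), Projectivization.mk_eq_mk_iff']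
    rcases h with h | h <;> simp only [h, Matrix.one_mulVec, Matrix.neg_mulVec]
    · exact ⟨1, one_smul _ _⟩
    · exact ⟨-1, neg_one_smul _ _⟩

/-- The root group of a vector. -/
noncomputable def spRoot (v : Vm) : Subgroup Spm where
  carrier := Set.range (spT v)
  one_mem' := ⟨0, spT_zero v⟩
  mul_mem' := by rintro _ _ ⟨c, rfl⟩ ⟨d, rfl⟩; exact ⟨c + d, (spT_add v c d).symm⟩
  inv_mem' := by rintro _ ⟨c, rfl⟩; exact ⟨-c, (spT_inv v c).symm⟩

theorem spRoot_smul {a : F} (ha : a ≠ 0) (v : Vm) : spRoot (a • v) = spRoot v := by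
  ext g
  constructor
  · rintro ⟨c, rfl⟩
    exact ⟨c * a * a, (spT_smul a v c).symm⟩
  · rintro ⟨c, rfl⟩
    refine ⟨c / (a * a), ?_⟩
    rw [spT_smul]
    congr 1
    field_simp

theorem spRoot_conj (g : Spm) (v : Vm) : spRoot (g.1 *ᵥ v) = MulAut.conj g • spRoot v := by
  ext x
  constructor
  · rintro ⟨c, rfl⟩
    exact ⟨spT v c, ⟨c, rfl⟩, spT_conj g v c⟩
  · rintro ⟨_, ⟨c, rfl⟩, rfl⟩
    exact ⟨c, (spT_conj g v c).symm⟩

/-- `PSp_{2m}` is simple when `Sp_{2m}` is perfect. -/
theorem isSimpleGroup_psp_of_perfect (hm : 1 ≤ m) (hperf : commutator Spm = ⊤) :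
    IsSimpleGroup (Cfsg.PSp m F) := by
  let π := QuotientGroup.mk' (Subgroup.center Spm)
  have hπ : Function.Surjective π := QuotientGroup.mk'_surjective _
  letI : MulAction (Cfsg.PSp m F) (ℙ F Vm) := MulAction.compHom _
    (QuotientGroup.lift (Subgroup.center Spm) (MulAction.toPermHom Spm (ℙ F Vm))
      (sp_action_ker hm).ge)
  have hsmul : ∀ (g : Spm) (p : ℙ F Vm), (π g) • p = g • p := fun g p => rfl
  haveI : MulAction.IsPreprimitive (Cfsg.PSp m F) (ℙ F Vm) :=
    MulAction.IsPreprimitive.of_surjective (φ := π) (M := Spm) (α := ℙ F Vm)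
      (f := { toFun := id, map_smul' := fun g p => (hsmul g p).symm }) Function.surjective_id
  have hf : FaithfulSMul (Cfsg.PSp m F) (ℙ F Vm) := by
    refine faithfulSMul_iff.2 fun g hg => ?_
    obtain ⟨g, rfl⟩ := hπ g
    refine (QuotientGroup.eq_one_iff g).mpr ?_
    rw [← sp_action_ker hm, MonoidHom.mem_ker]
    exact Equiv.ext fun p => hg p
  haveI : Nontrivial (Cfsg.PSp m F) := by
    let e : Vm := Pi.single (Sum.inl ⟨0, hm⟩) 1
    have he : e ≠ 0 := Pi.single_ne_zero_iff.2 one_ne_zero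
    obtain ⟨x, hx⟩ := exists_sympForm_eq_one he
    refine ⟨π (spT e 1), 1, fun hh => ?_⟩
    have hc : spT e (1 : F) ∈ Subgroup.center Spm := (QuotientGroup.eq_one_iff _).mp hh
    rcases (mem_center_sp_iff hm _).mp hc with h | h
    · have := spT_mulVec e 1 x
      rw [h, Matrix.one_mulVec, one_mul, sympForm_swap, hx, eq_comm, add_eq_left, neg_one_smul,
        neg_eq_zero] at this
      exact he this
    · have := spT_mulVec e 1 x
      rw [h, Matrix.neg_mulVec, Matrix.one_mulVec, one_mul, sympForm_swap, hx, neg_one_smul] at this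
      have h' := congrArg (Cfsg.sympForm m F e) this
      rw [← neg_one_smul F x, ← sub_eq_add_neg, sympForm_smul_right, sympForm_sub_right, hx,
        sympForm_self, sub_zero, mul_one] at h'
      have h'' : e = x + x := by linear_combination (norm := module) this
      have h3 := hx
      rw [h'', sympForm_swap, sympForm_add_right, sympForm_self, add_zero, neg_zero] at h3
      exact zero_ne_one h3
  have : Group.IsPerfect Spm := ⟨hperf⟩
  have hp : commutator (Cfsg.PSp m F) = ⊤ :=
    (inferInstance : Group.IsPerfect (Cfsg.PSp m F)).commutator_eq_top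
  refine MulAction.IwasawaStructure.isSimpleGroup hp (α := ℙ F Vm)
    { T := fun p => (spRoot p.rep).map π
      is_comm := fun p => ?_
      is_conj := fun g p => ?_
      is_generator := ?_ } hf
  · have : IsMulCommutative (spRoot p.rep) := ⟨⟨by
      rintro ⟨_, c, rfl⟩ ⟨_, d, rfl⟩
      exact Subtype.ext (by show spT p.rep c * spT p.rep d = _; rw [spT_add, add_comm, ← spT_add]; rfl)⟩⟩
    exact Subgroup.map_isMulCommutative _ _
  · obtain ⟨g, rfl⟩ := hπ g
    obtain ⟨a, ha⟩ : ∃ a : Fˣ, a • g.1 *ᵥ p.rep = (g • p).rep := by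
      rw [← Projectivization.mk_rep p, sp_smul_mk g p.rep_nonzero (sp_mulVec_ne_zero g p.rep_nonzero),
        Projectivization.mk_rep]
      exact Projectivization.exists_smul_eq_mk_rep F _ (sp_mulVec_ne_zero g p.rep_nonzero)
    show (spRoot (g • p).rep).map π = MulAut.conj (π g) • (spRoot p.rep).map π
    rw [← ha, Units.smul_def, spRoot_smul a.ne_zero, spRoot_conj]
    ext x
    constructor
    · rintro ⟨_, ⟨y, hy, rfl⟩, rfl⟩
      exact ⟨π y, ⟨y, hy, rfl⟩, by simp⟩
    · rintro ⟨_, ⟨y, hy, rfl⟩, rfl⟩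
      exact ⟨g * y * g⁻¹, ⟨y, hy, rfl⟩, by simp⟩
  · have step : (⨆ p : ℙ F Vm, spRoot p.rep) = ⊤ := by
      refine sp_eq_top_of_transvections fun v c => ?_
      rcases eq_or_ne v 0 with rfl | hv
      · have : spT (0 : Vm) c = 1 := sp_ext fun x => by
          rw [spT_mulVec, smul_zero, add_zero, sp_one_mulVec]
        rw [this]; exact one_mem _
      · obtain ⟨a, ha⟩ := Projectivization.exists_smul_eq_mk_rep F v hv
        refine Subgroup.mem_iSup_of_mem (Projectivization.mk F v hv) ?_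
        rw [← ha, Units.smul_def, spRoot_smul a.ne_zero]
        exact ⟨c, rfl⟩
    have := congrArg (Subgroup.map π) step
    rw [Subgroup.map_iSup, Subgroup.map_top_of_surjective _ hπ] at this
    exact this

theorem sp_perfect_cond_of_card [Fintype F]
    (h : 3 ≤ m ∨ (m = 2 ∧ 3 ≤ Fintype.card F) ∨ 4 ≤ Fintype.card F) :
    3 ≤ m ∨ (2 ≤ m ∧ (2 : F) ≠ 0) ∨ ∃ t : F, t ≠ 0 ∧ t * t - 1 ≠ 0 := by
  rcases h with h | ⟨hm, hq⟩ | h
  · exact Or.inl h
  · rcases hq.eq_or_lt with hq | hq
    · refine Or.inr (Or.inl ⟨by omega, fun h0 => ?_⟩)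
      have hc2 : CharP F 2 := CharTwo.of_one_ne_zero_of_two_eq_zero one_ne_zero h0
      have := FiniteField.even_card_iff_char_two.mp (ringChar.eq F 2)
      omega
    · exact Or.inr (Or.inr (exists_sq_ne_one (by rw [Nat.card_eq_fintype_card]; omega)))
  · exact Or.inr (Or.inr (exists_sq_ne_one (by rw [Nat.card_eq_fintype_card]; omega)))

/-- `PSp_{2m}(q)` is simple for `m ≥ 2`, except `PSp_4(2)`. -/
theorem isSimpleGroup_psp [Fintype F] (hm : 2 ≤ m) (h : m = 2 → 3 ≤ Fintype.card F) :
    IsSimpleGroup (Cfsg.PSp m F) :=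
  isSimpleGroup_psp_of_perfect (by omega) (commutator_sp_eq_top (sp_perfect_cond_of_card (by
    rcases hm.eq_or_lt with rfl | hm'
    · exact Or.inr (Or.inl ⟨rfl, h rfl⟩)
    · exact Or.inl hm')))

end Cfsg.Agent.Lib.Classical
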