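import Cfsg.Agent.Lib.Classical.CoreCriterion

/-!
Fixed points of an automorphism of prime order through a simple subgroup of the fixed points, and the
automorphisms of a finite field fixing a subfield of prime index.
-/

set_option autoImplicit false

namespace Cfsg.Agent.Lib.Classical.CoreCriterion

variable {K : Type*} [Group K]

/-- The facts needed for the criterion, from a simple subgroup of the fixed points. -/
theorem props_of_socle {p : ℕ} [Fact p.Prime] {φ : MulAut K} (hZ : ∀ k : K, MulAut.conj k = 1 → k = 1)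
    (T : Subgroup K) [Finite K] [Nontrivial T] (hTfix : ∀ t ∈ T, φ t = t)
    (hTnormal : ∀ N : Subgroup T, N.Normal → N ≠ ⊥ → p ∣ Nat.card T → p ∣ Nat.card N)
    (hnorm : ∀ y, φ y = y → ∀ t ∈ T, y * t * y⁻¹ ∈ T)
    (hdvd : p ∣ Nat.card ↥(MonoidHom.eqLocus φ.toMonoidHom (MonoidHom.id K)) → p ∣ Nat.card T)
    (hinner : ∀ k : K, MulAut.conj k ∈ Subgroup.zpowers φ → k = 1)
    (hcent : ∀ γ : MulAut K, γ * φ = φ * γ → (∀ t ∈ T, γ t = t) → γ ∈ Subgroup.zpowers φ) : Props p φ := by
  refine ⟨?_, fun hp N hN hNn hco => ?_, fun γ hc hγ => hcent γ hc fun t ht => hγ t (hTfix t ht)⟩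
  · obtain ⟨t, ht⟩ := exists_ne (1 : T)
    exact ⟨t.1, fun e => ht (Subtype.ext e), hTfix _ t.2⟩
  · haveI : (N.subgroupOf T).Normal := ⟨fun n hn g => hNn g.1 (hTfix _ g.2) n.1 hn⟩
    by_cases hbot : N.subgroupOf T = ⊥
    · rw [eq_bot_iff]
      intro n hn
      rw [Subgroup.mem_bot]
      refine hinner n (hcent _ ?_ fun t ht => ?_)
      · refine MulEquiv.ext fun z => ?_
        simp [MulAut.mul_apply, hN n hn]
      · have h1 : n * t * n⁻¹ * t⁻¹ ∈ N := by
          rw [show n * t * n⁻¹ * t⁻¹ = n * (t * n⁻¹ * t⁻¹) by group]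
          exact N.mul_mem hn (hNn t (hTfix t ht) _ (N.inv_mem hn))
        have h2 : n * t * n⁻¹ * t⁻¹ ∈ T := T.mul_mem (hnorm n (hN n hn) t ht) (T.inv_mem ht)
        have h3 : (⟨_, h2⟩ : T) ∈ N.subgroupOf T := h1
        rw [hbot, Subgroup.mem_bot] at h3
        rw [MulAut.conj_apply]
        exact mul_inv_eq_one.mp (congrArg Subtype.val h3)
    · exfalso
      have h1 : p ∣ Nat.card N := (hTnormal _ inferInstance hbot (hdvd hp)).trans
        (Subgroup.card_comap_dvd_of_injective N T.subtype T.subtype_injective)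
      exact (Fact.out : p.Prime).one_lt.ne' (Nat.eq_one_of_dvd_coprimes hco h1 dvd_rfl)

/-- If squares of fixed points fall into `T` and `T` has even order. -/
theorem dvd_of_squares [Finite K] {p : ℕ} [Fact p.Prime] {φ : MulAut K} (T : Subgroup K)
    (hsq : ∀ y, φ y = y → y * y ∈ T) (hev : 2 ∣ Nat.card T)
    (hp : p ∣ Nat.card ↥(MonoidHom.eqLocus φ.toMonoidHom (MonoidHom.id K))) : p ∣ Nat.card T := by
  rcases (Fact.out : p.Prime).eq_two_or_odd' with rfl | hodd
  · exact hev
  · obtain ⟨h, hh⟩ := exists_prime_orderOf_dvd_card' p hp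
    obtain ⟨t, ht⟩ := hodd
    have hhp : h.1 ^ p = 1 := by rw [← SubmonoidClass.coe_pow, ← hh, pow_orderOf_eq_one]; rfl
    have he : h.1 = h.1 ^ (t + 1) * h.1 ^ (t + 1) := by
      rw [← pow_add, show t + 1 + (t + 1) = p + 1 by omega, pow_succ, hhp, one_mul]
    have hmem : h.1 ∈ T := by
      rw [he]
      refine hsq _ ?_
      rw [map_pow, show φ h.1 = h.1 from h.2]
    have h1 := orderOf_dvd_natCard (⟨h.1, hmem⟩ : T)
    rwa [Subgroup.orderOf_mk, Subgroup.orderOf_coe, hh] at h1

/-- An automorphism fixing a subfield of prime index is a power of a given non-trivial one. -/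
theorem mem_zpowers_of_fix {F F₀ : Type*} [Field F] [Fintype F] [Field F₀] [Fintype F₀] {p : ℕ} [Fact p.Prime]
    {j : F₀ →+* F} (hcard : Fintype.card F = Fintype.card F₀ ^ p) {σ τ : F ≃+* F} (hσ : σ ≠ 1)
    (hσfix : ∀ t, σ (j t) = j t) (hτfix : ∀ t, τ (j t) = j t) : τ ∈ Subgroup.zpowers σ := by
  letI := j.toAlgebra
  let toA : ∀ e : F ≃+* F, (∀ t, e (j t) = j t) → (F ≃ₐ[F₀] F) := fun e he => AlgEquiv.ofRingEquiv (f := e) he
  have hfr : Module.finrank F₀ F = p := by
    have h := Module.natCard_eq_pow_finrank (K := F₀) (V := F)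
    rw [Nat.card_eq_fintype_card, Nat.card_eq_fintype_card, hcard] at h
    exact (Nat.pow_right_injective Fintype.one_lt_card h).symm
  have hgc : Nat.card (F ≃ₐ[F₀] F) = p := by rw [IsGalois.card_aut_eq_finrank, hfr]
  have hs1 : toA σ hσfix ≠ 1 := fun e => hσ (RingEquiv.ext fun t => AlgEquiv.congr_fun e t)
  obtain ⟨i, hi⟩ : toA τ hτfix ∈ Subgroup.zpowers (toA σ hσfix) := by
    rw [zpowers_eq_top_of_prime_card hgc hs1]; exact Subgroup.mem_top _
  refine ⟨i, ?_⟩
  let back : (F ≃ₐ[F₀] F) →* (F ≃+* F) :=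
    MonoidHom.mk' (fun e => e.toRingEquiv) fun a b => RingEquiv.ext fun _ => rfl
  have := congrArg back hi
  rwa [map_zpow, show back (toA σ hσfix) = σ from RingEquiv.ext fun _ => rfl,
    show back (toA τ hτfix) = τ from RingEquiv.ext fun _ => rfl] at this

/-- A finite field over the fixed field of an automorphism of prime order. -/
theorem exists_fixed_subfield {F : Type*} [Field F] [Fintype F] {σ : F ≃+* F} {p : ℕ} (hσ : orderOf σ = p) :
    ∃ (K : Subfield F) (_ : Fintype K), (∀ t, σ t = t ↔ ∃ s : K, K.subtype s = t) ∧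
      Fintype.card F = Fintype.card K ^ p := by
  haveI : Finite (F ≃+* F) := Finite.of_injective (fun e : F ≃+* F => (e : F → F)) DFunLike.coe_injective
  let H := Subgroup.zpowers σ
  let K := FixedPoints.subfield H F
  haveI : Fintype H := Fintype.ofFinite _
  haveI hK : Fintype K := Fintype.ofFinite _
  refine ⟨K, hK, fun t => ⟨fun h => ⟨⟨t, fun τ =>
    (Subgroup.zpowers_le.mpr (show σ ∈ MulAction.stabilizer (F ≃+* F) t from h)) τ.2⟩, rfl⟩, ?_⟩, ?_⟩
  · rintro ⟨s, rfl⟩
    exact s.2 ⟨σ, Subgroup.mem_zpowers σ⟩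
  · have hrank : Module.finrank K F = p := by
      rw [FixedPoints.finrank_eq_card H F, ← Nat.card_eq_fintype_card, Nat.card_zpowers, hσ]
    have hc := Module.natCard_eq_pow_finrank (K := K) (V := F)
    rw [hrank, Nat.card_eq_fintype_card, Nat.card_eq_fintype_card] at hc
    exact hc

end Cfsg.Agent.Lib.Classical.CoreCriterion
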