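import Mathlib
import Cfsg.Prelude.Def_Solvable
import Cfsg.Prelude.Def_KGroupFacts

/-!
The core of the centralizer of an automorphism of prime order in a group containing the inner automorphisms.
-/

set_option autoImplicit false

namespace Cfsg.Agent.Lib.Classical.CoreCriterion

variable {K : Type*} [Group K]

/-- What one needs to know about the fixed points of `β`. -/
def Props (p : ℕ) (β : MulAut K) : Prop :=
  (∃ y : K, y ≠ 1 ∧ β y = y) ∧
  (p ∣ Nat.card ↥(MonoidHom.eqLocus β.toMonoidHom (MonoidHom.id K)) →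
    ∀ N : Subgroup K, (∀ n ∈ N, β n = n) → (∀ y, β y = y → ∀ n ∈ N, y * n * y⁻¹ ∈ N) →
      (Nat.card N).Coprime p → N = ⊥) ∧
  (∀ γ : MulAut K, γ * β = β * γ → (∀ y, β y = y → γ y = y) → γ ∈ Subgroup.zpowers β)

theorem mem_fix {β : MulAut K} {y : K} : y ∈ MonoidHom.eqLocus β.toMonoidHom (MonoidHom.id K) ↔ β y = y :=
  Iff.rfl

theorem map_fix (a φ : MulAut K) :
    (MonoidHom.eqLocus φ.toMonoidHom (MonoidHom.id K)).map a.toMonoidHom =
      MonoidHom.eqLocus (a * φ * a⁻¹).toMonoidHom (MonoidHom.id K) := by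
  ext y
  rw [Subgroup.mem_map, mem_fix]
  constructor
  · rintro ⟨z, hz, rfl⟩
    show a (φ (a⁻¹ (a z))) = a z
    rw [show a⁻¹ (a z) = z from a.symm_apply_apply z, mem_fix.mp hz]
  · intro hy
    refine ⟨a⁻¹ y, mem_fix.mpr (a.injective ?_), a.apply_symm_apply y⟩
    rw [show a (a⁻¹ y) = y from a.apply_symm_apply y]
    exact hy

theorem props_conj {p : ℕ} (a : MulAut K) {φ : MulAut K} (h : Props p φ) : Props p (a * φ * a⁻¹) := by
  have hfix : ∀ z, φ z = z → (a * φ * a⁻¹) (a z) = a z := fun z hz => by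
    show a (φ (a⁻¹ (a z))) = a z
    rw [show a⁻¹ (a z) = z from a.symm_apply_apply z, hz]
  have hback : ∀ y, (a * φ * a⁻¹) y = y → φ (a⁻¹ y) = a⁻¹ y := fun y hy => a.injective (by
    rw [show a (a⁻¹ y) = y from a.apply_symm_apply y]; exact hy)
  refine ⟨?_, fun hp N hN hNn hco => ?_, fun γ hc hγ => ?_⟩
  · obtain ⟨y, hy1, hy⟩ := h.1
    exact ⟨a y, fun e => hy1 (a.injective (e.trans (map_one a).symm)), hfix y hy⟩
  · rw [← map_fix, Subgroup.card_map_of_injective (f := a.toMonoidHom) a.injective] at hp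
    have h0 := h.2.1 hp (N.comap a.toMonoidHom)
      (fun n hn => by
        have := hback (a n) (hN _ hn)
        rwa [show a⁻¹ (a n) = n from a.symm_apply_apply n] at this)
      (fun y hy n hn => by
        show a (y * n * y⁻¹) ∈ N
        rw [map_mul, map_mul, map_inv]
        exact hNn _ (hfix y hy) _ hn)
      (by
        rw [← Subgroup.card_map_of_injective (K := N.comap a.toMonoidHom) (f := a.toMonoidHom) a.injective,
          Subgroup.map_comap_eq_self_of_surjective a.surjective]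
        exact hco)
    rw [eq_bot_iff]
    intro n hn
    have hm : a⁻¹ n ∈ N.comap a.toMonoidHom := by
      show a (a⁻¹ n) ∈ N
      rwa [show a (a⁻¹ n) = n from a.apply_symm_apply n]
    rw [h0, Subgroup.mem_bot] at hm
    rw [Subgroup.mem_bot]
    exact a⁻¹.injective (hm.trans (map_one _).symm)
  · have h1 : (a⁻¹ * γ * a) * φ = φ * (a⁻¹ * γ * a) := by
      have := congrArg (fun z => a⁻¹ * z * a) hc
      simp only [mul_assoc, inv_mul_cancel, mul_one, inv_mul_cancel_left] at this ⊢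
      exact this
    obtain ⟨i, hi⟩ := h.2.2 (a⁻¹ * γ * a) h1 (fun z hz => by
      show a⁻¹ (γ (a z)) = z
      rw [hγ _ (hfix z hz)]; exact a.symm_apply_apply z)
    refine ⟨i, ?_⟩
    show (a * φ * a⁻¹) ^ i = γ
    rw [conj_zpow, show φ ^ i = a⁻¹ * γ * a from hi]
    group

theorem core_criterion [Finite K] {A : Subgroup (MulAut K)} (hinn : ∀ k : K, MulAut.conj k ∈ A) {p : ℕ}
    [Fact p.Prime] {β : MulAut K} (hord : orderOf β = p) (hZ : ∀ k : K, MulAut.conj k = 1 → k = 1)
    (h : Props p β) :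
    Cfsg.pPrimeCore p ↥(A ⊓ Subgroup.centralizer {β}) ≠ ⊥ ↔
      Nat.Coprime p (Nat.card ↥(MonoidHom.eqLocus β.toMonoidHom (MonoidHom.id K))) := by
  classical
  haveI : Finite (MulAut K) := Finite.of_injective _ DFunLike.coe_injective
  obtain ⟨⟨y₁, hy₁, hy₁'⟩, hcore, hcent⟩ := h
  set C := A ⊓ Subgroup.centralizer {β}
  set Y := MonoidHom.eqLocus β.toMonoidHom (MonoidHom.id K)
  have hconj : ∀ (γ : MulAut K) (y : K), γ * MulAut.conj y * γ⁻¹ = MulAut.conj (γ y) := fun γ y =>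
    MulEquiv.ext fun z => by simp [MulAut.mul_apply]
  have hmem : ∀ y, β y = y → MulAut.conj y ∈ C := fun y hy => ⟨hinn y, by
    show MulAut.conj y ∈ Subgroup.centralizer {β}
    rw [Subgroup.mem_centralizer_singleton_iff]
    have := hconj β y
    rw [hy] at this
    exact (mul_inv_eq_iff_eq_mul.mp this).symm⟩
  let e : Y →* C :=
    MonoidHom.mk' (fun y => ⟨MulAut.conj y.1, hmem _ (mem_fix.mp y.2)⟩) fun a b => Subtype.ext (map_mul _ _ _)
  have hγY : ∀ γ ∈ C, ∀ y, β y = y → β (γ y) = γ y := fun γ hγ y hy => by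
    have hc : γ * β = β * γ := Subgroup.mem_centralizer_singleton_iff.mp hγ.2
    show (β * γ) y = γ y
    rw [← hc]
    show γ (β y) = γ y
    rw [hy]
  constructor
  · intro hne
    by_contra hco
    have hp : p ∣ Nat.card Y := ((Fact.out : p.Prime).dvd_iff_not_coprime).mpr hco
    obtain ⟨N, ⟨hNn, hNp⟩, hN⟩ : ∃ N ∈ {N : Subgroup C | N.Normal ∧ (Nat.card N).Coprime p}, N ≠ ⊥ := by
      by_contra hcon
      push Not at hcon
      exact hne (sSup_eq_bot.mpr hcon)
    refine hN ((Subgroup.eq_bot_iff_forall N).mpr fun γ hγ => ?_)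
    have he : Function.Injective e := (injective_iff_map_eq_one e).mpr fun y hy =>
      Subtype.ext (hZ _ (congrArg Subtype.val hy))
    have hinj : Function.Injective (Y.subtype) := Subtype.val_injective
    have h0 : ((N.comap e).map Y.subtype) = ⊥ := hcore hp _
      (by rintro _ ⟨y, -, rfl⟩; exact mem_fix.mp y.2)
      (by
        rintro y hy _ ⟨n, hn, rfl⟩
        refine ⟨⟨y, mem_fix.mpr hy⟩ * n * ⟨y, mem_fix.mpr hy⟩⁻¹, ?_, rfl⟩
        show e _ ∈ N
        rw [map_mul, map_mul, map_inv]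
        exact hNn.conj_mem _ hn _)
      (by
        rw [Subgroup.card_map_of_injective hinj]
        refine Nat.Coprime.coprime_dvd_left ?_ hNp
        rw [← Subgroup.card_map_of_injective (K := N.comap e) (f := e) he]
        exact Subgroup.card_dvd_of_le (Subgroup.map_comap_le e N))
    have hfixY : ∀ y, β y = y → γ.1 y = y := fun y hy => by
      have hk : β (γ.1 y * y⁻¹) = γ.1 y * y⁻¹ := by rw [map_mul, map_inv, hy, hγY _ γ.2 y hy]
      have hm : γ.1 y * y⁻¹ ∈ (N.comap e).map Y.subtype := by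
        refine ⟨⟨_, mem_fix.mpr hk⟩, ?_, rfl⟩
        show e _ ∈ N
        have : e ⟨_, mem_fix.mpr hk⟩ =
            γ * (e ⟨y, mem_fix.mpr hy⟩ * γ⁻¹ * (e ⟨y, mem_fix.mpr hy⟩)⁻¹) := Subtype.ext (by
          show MulAut.conj (γ.1 y * y⁻¹) = γ.1 * (MulAut.conj y * γ.1⁻¹ * (MulAut.conj y)⁻¹)
          rw [map_mul, map_inv, ← hconj]; group)
        rw [this]
        exact N.mul_mem hγ (hNn.conj_mem _ (N.inv_mem hγ) _)
      rw [h0, Subgroup.mem_bot, mul_inv_eq_one] at hm
      exact hm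
    have hpow := hcent γ.1 (Subgroup.mem_centralizer_singleton_iff.mp γ.2.2) hfixY
    have h1 : orderOf γ.1 ∣ p := hord ▸ orderOf_dvd_of_mem_zpowers hpow
    have h2 : orderOf γ.1 ∣ Nat.card N := by
      rw [Subgroup.orderOf_coe, ← Subgroup.orderOf_mk γ hγ]; exact orderOf_dvd_natCard _
    exact Subtype.ext (orderOf_eq_one_iff.mp (Nat.eq_one_of_dvd_coprimes hNp h2 h1))
  · intro hco hbot
    have hle : e.range ≤ Cfsg.pPrimeCore p ↥C := by
      refine le_sSup ⟨⟨?_⟩, ?_⟩
      · rintro _ ⟨y, rfl⟩ γ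
        refine ⟨⟨γ.1 y.1, mem_fix.mpr (hγY _ γ.2 _ (mem_fix.mp y.2))⟩, Subtype.ext ?_⟩
        exact (hconj γ.1 y.1).symm
      · exact Nat.Coprime.coprime_dvd_left (Subgroup.card_range_dvd e) hco.symm
    rw [hbot, le_bot_iff, MonoidHom.range_eq_bot_iff] at hle
    have := congrArg Subtype.val (DFunLike.congr_fun hle ⟨y₁, mem_fix.mpr hy₁'⟩)
    exact hy₁ (hZ _ this)

end Cfsg.Agent.Lib.Classical.CoreCriterion
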