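import Mathlib

/-!
Iwasawa's criterion for `G / Z(G)`.
-/

set_option autoImplicit false

namespace Cfsg.Agent.Lib.Classical

open scoped Pointwise

theorem isSimpleGroup_quotient_center_of_iwasawa {G X : Type*} [Group G] [MulAction G X]
    [MulAction.IsPreprimitive G X] (T : X → Subgroup G)
    (hcomm : ∀ x, ∀ a ∈ T x, ∀ b ∈ T x, a * b = b * a)
    (hconj : ∀ (g : G) (x : X), ∀ a ∈ T x, g * a * g⁻¹ ∈ T (g • x))
    (hgen : ⨆ x, T x = ⊤) (hperf : commutator G = ⊤)
    (hcenter : ∀ z ∈ Subgroup.center G, ∀ x : X, z • x = x)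
    (hfree : ∀ x, ∀ a ∈ T x, (∀ y : X, a • y = y) → a = 1)
    (hnt : ∃ (g : G) (x : X), g • x ≠ x) :
    IsSimpleGroup (G ⧸ Subgroup.center G) := by
  -- the kernel of the action is the centre
  have hker : (MulAction.toPermHom G X).ker = Subgroup.center G := by
    refine le_antisymm (fun k hk => ?_) fun z hz => MonoidHom.mem_ker.mpr (Equiv.ext (hcenter z hz))
    have hk' : ∀ y : X, k • y = y := fun y => Equiv.ext_iff.mp (MonoidHom.mem_ker.mp hk) y
    have hcl : ∀ a : G, a ∈ ⨆ x, T x → k * a = a * k := by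
      intro a ha
      induction ha using Subgroup.iSup_induction' with
      | hp x a ha =>
        have h1 : k * a * k⁻¹ * a⁻¹ ∈ T x := by
          refine mul_mem ?_ (inv_mem ha)
          simpa only [hk' x] using hconj k x a ha
        have h2 := hfree x _ h1 fun y => by
          have hki : k⁻¹ • (a⁻¹ • y) = a⁻¹ • y := inv_smul_eq_iff.mpr (hk' _).symm
          rw [mul_smul, mul_smul, mul_smul, hki, smul_inv_smul, hk']
        rwa [mul_inv_eq_one, mul_inv_eq_iff_eq_mul] at h2
      | h1 => simp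
      | hmul a b _ _ iha ihb => rw [← mul_assoc, iha, mul_assoc, ihb, mul_assoc]
    exact Subgroup.mem_center_iff.mpr fun g => (hcl g (hgen ▸ Subgroup.mem_top g)).symm
  let π := QuotientGroup.mk' (Subgroup.center G)
  have hπ : Function.Surjective π := QuotientGroup.mk'_surjective _
  letI : MulAction (G ⧸ Subgroup.center G) X := MulAction.compHom _
    (QuotientGroup.lift (Subgroup.center G) (MulAction.toPermHom G X) hker.ge)
  have hsmul : ∀ (g : G) (p : X), (π g) • p = g • p := fun g p => rfl
  haveI : MulAction.IsPreprimitive (G ⧸ Subgroup.center G) X :=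
    MulAction.IsPreprimitive.of_surjective (φ := π) (M := G) (α := X)
      (f := { toFun := id, map_smul' := fun g p => (hsmul g p).symm }) Function.surjective_id
  have hf : FaithfulSMul (G ⧸ Subgroup.center G) X := by
    refine faithfulSMul_iff.2 fun g hg => ?_
    obtain ⟨g, rfl⟩ := hπ g
    refine (QuotientGroup.eq_one_iff g).mpr ?_
    rw [← hker, MonoidHom.mem_ker]
    exact Equiv.ext fun p => hg p
  haveI : Nontrivial (G ⧸ Subgroup.center G) := by
    obtain ⟨g, x, hgx⟩ := hnt
    refine ⟨π g, 1, fun hh => hgx ?_⟩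
    rw [← hsmul, hh, one_smul]
  have : Group.IsPerfect G := ⟨hperf⟩
  have hp : commutator (G ⧸ Subgroup.center G) = ⊤ :=
    (inferInstance : Group.IsPerfect (G ⧸ Subgroup.center G)).commutator_eq_top
  refine MulAction.IwasawaStructure.isSimpleGroup hp (α := X)
    { T := fun p => (T p).map π
      is_comm := fun p => ?_
      is_conj := fun g p => ?_
      is_generator := by rw [← Subgroup.map_iSup, hgen, Subgroup.map_top_of_surjective _ hπ] } hf
  · have : IsMulCommutative (T p) := ⟨⟨fun a b => Subtype.ext (hcomm p a a.2 b b.2)⟩⟩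
    exact Subgroup.map_isMulCommutative _ _
  · obtain ⟨g, rfl⟩ := hπ g
    rw [hsmul]
    ext x
    constructor
    · rintro ⟨y, hy, rfl⟩
      refine ⟨π (g⁻¹ * y * g), ⟨_, ?_, rfl⟩, by simp [mul_assoc]⟩
      simpa using hconj g⁻¹ (g • p) y hy
    · rintro ⟨_, ⟨y, hy, rfl⟩, rfl⟩
      exact ⟨g * y * g⁻¹, hconj g p y hy, by simp⟩

end Cfsg.Agent.Lib.Classical
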