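import Cfsg.Agent.Lib.Classical.HermCard
import Cfsg.Agent.Lib.Classical.Iwasawa
import Cfsg.Agent.Lib.Geometry.UnitaryGen
import Cfsg.Agent.S0780
import Cfsg.Agent.S0781

/-!
Simplicity of `PSU_n(q)`: the action on isotropic points.
-/

set_option autoImplicit false

namespace Cfsg.Agent.Lib.Classical

open scoped Matrix Pointwise
open Cfsg.Agent.Lib.Geometry (witt_hermitian exists_add_conj_eq exists_sesq_eq_functional
  exists_sesq_perp_apply_eq_one det_id_add_smulRight)

variable {F : Type*} [Field F] [Fintype F] {q n : ℕ} (hF : Fintype.card F = q ^ 2)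

set_option quotPrecheck false in
local notation "B" => hermBilin hF n
set_option quotPrecheck false in
local notation "σ" => conjHom hF

theorem herm_symm (u v : Fin n → F) : σ (B u v) = B v u := (hermBilin_isSymm hF n).eq u v

theorem exists_shift_isotropic {e r : Fin n → F} (he : B e e = 0) (her : B e r = 1) :
    ∃ c : F, B (r + c • e) (r + c • e) = 0 := by
  obtain ⟨c, hc⟩ := exists_add_conj_eq (conjHom_ne_id hF) (conjHom_conjHom hF)
    (s := -B r r) (by rw [map_neg, herm_symm hF])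
  refine ⟨c, ?_⟩
  have hre : B r e = 1 := by rw [← herm_symm hF, her, map_one]
  simp only [map_add, map_smul, map_smulₛₗ, LinearMap.add_apply, LinearMap.smul_apply,
    smul_eq_mul, he, her, hre, mul_zero, mul_one, add_zero]
  linear_combination hc

theorem exists_partner {e : Fin n → F} (he0 : e ≠ 0) (he : B e e = 0) :
    ∃ f, B e f = 1 ∧ B f f = 0 := by
  obtain ⟨i, hi⟩ := Function.ne_iff.mp he0
  obtain ⟨r, hr⟩ : ∃ r, B e r = 1 := by
    refine ⟨(σ (e i))⁻¹ • Pi.single i 1, ?_⟩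
    rw [map_smul, smul_eq_mul, ← herm_symm hF, hermBilin_single, inv_mul_cancel₀]
    exact (map_ne_zero_iff _ (RingHom.injective _)).mpr hi
  obtain ⟨c, hc⟩ := exists_shift_isotropic hF he hr
  exact ⟨r + c • e, by rw [map_add, map_smul, he, smul_zero, add_zero, hr], hc⟩

theorem exists_partner_perp {e w : Fin n → F} (he : B e e = 0) (hew : B e w = 0)
    (hind : ∀ a : F, a • w ≠ e) : ∃ f, B e f = 1 ∧ B f f = 0 ∧ B w f = 0 := by
  obtain ⟨u, hu, hue⟩ := exists_sesq_perp_apply_eq_one B (conjHom_conjHom hF)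
    (hermBilin_isSymm hF n) (hermBilin_nondegenerate hF n) (Submodule.span F {w}) (x := e)
    (by rw [Submodule.mem_span_singleton]; exact fun ⟨a, ha⟩ => hind a ha)
  have heu : B e u = 1 := by rw [← herm_symm hF, hue, map_one]
  have hwu : B w u = 0 := by
    rw [← herm_symm hF, hu w (Submodule.mem_span_singleton_self w), map_zero]
  obtain ⟨c, hc⟩ := exists_shift_isotropic hF he heu
  refine ⟨u + c • e, by rw [map_add, map_smul, he, smul_zero, add_zero, heu], hc, ?_⟩
  have hwe : B w e = 0 := by rw [← herm_symm hF, hew, map_zero]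
  rw [map_add, map_smul, hwe, smul_zero, add_zero, hwu]

/-- An isometry given by a matrix. -/
theorem exists_SU_of_isometry (g : (Fin n → F) ≃ₗ[F] (Fin n → F))
    (hg : ∀ u v, B (g u) (g v) = B u v)
    (hdet : LinearMap.det (g : (Fin n → F) →ₗ[F] (Fin n → F)) = 1) :
    ∃ A : Cfsg.SU n F q, ∀ x, A • x = g x := by
  refine ⟨⟨⟨LinearMap.toMatrix' (g : (Fin n → F) →ₗ[F] (Fin n → F)), by
    rw [LinearMap.det_toMatrix', hdet]⟩, fun u v => ?_⟩, fun x => ?_⟩
  · show Cfsg.hermForm n F q (LinearMap.toMatrix' (g : (Fin n → F) →ₗ[F] (Fin n → F)) *ᵥ u)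
      (LinearMap.toMatrix' (g : (Fin n → F) →ₗ[F] (Fin n → F)) *ᵥ v) = _
    rw [← Matrix.toLin'_apply, ← Matrix.toLin'_apply, Matrix.toLin'_toMatrix']
    exact hg v u
  · show LinearMap.toMatrix' (g : (Fin n → F) →ₗ[F] (Fin n → F)) *ᵥ x = _
    rw [← Matrix.toLin'_apply, Matrix.toLin'_toMatrix']
    rfl

/-- Adjusting the determinant along a hyperbolic pair. -/
theorem exists_SU_adjust (g : (Fin n → F) ≃ₗ[F] (Fin n → F))
    (hg : ∀ u v, B (g u) (g v) = B u v) {e f : Fin n → F} (he : B e e = 0) (hf : B f f = 0)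
    (hef : B e f = 1) :
    ∃ A : Cfsg.SU n F q, ∀ x,
      (∀ a : F, g x = a • e → ∃ b : F, A • x = b • e) ∧
      (∀ a : F, g x = a • f → ∃ b : F, A • x = b • f) ∧
      (B e (g x) = 0 → B f (g x) = 0 → A • x = g x) := by
  classical
  have hfe : B f e = 1 := by rw [← herm_symm hF, hef, map_one]
  set δ := LinearMap.det (g : (Fin n → F) →ₗ[F] (Fin n → F)) with hδ
  have hδ0 : δ ≠ 0 := (LinearEquiv.isUnit_det' g).ne_zero
  have hnorm : δ ^ (q + 1) = 1 := by
    set M := LinearMap.toMatrix' (g : (Fin n → F) →ₗ[F] (Fin n → F)) with hM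
    have h1 : Mᵀ * M.map (conjHom hF) = 1 := (preserves_hermForm_iff hF M).mp fun u v => by
      rw [hM, ← Matrix.toLin'_apply, ← Matrix.toLin'_apply, Matrix.toLin'_toMatrix']
      exact hg v u
    have h := congrArg Matrix.det h1
    rw [Matrix.det_mul, Matrix.det_transpose, Matrix.det_one, ← RingHom.mapMatrix_apply,
      ← RingHom.map_det, conjHom_apply, hM, LinearMap.det_toMatrix', ← pow_succ'] at h
    exact h
  -- `δ = λ^q / λ`
  obtain ⟨l, hl0, hl⟩ : ∃ l : F, l ≠ 0 ∧ σ l = δ * l := by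
    obtain ⟨γ, hγ⟩ := IsCyclic.exists_generator (α := Fˣ)
    have hord := orderOf_eq_card_of_forall_mem_zpowers hγ
    rw [natCard_units, hF] at hord
    obtain ⟨k, hk⟩ := hγ (Units.mk0 δ hδ0)
    simp only at hk
    have h1 : γ ^ (k * ((q + 1 : ℕ) : ℤ)) = 1 := by
      rw [zpow_mul, hk, zpow_natCast]
      exact Units.ext (by simpa using hnorm)
    rw [← orderOf_dvd_iff_zpow_eq_one, hord] at h1
    have h2 := two_le_q hF
    have hfac : ((q ^ 2 - 1 : ℕ) : ℤ) = ((q - 1 : ℕ) : ℤ) * ((q + 1 : ℕ) : ℤ) := by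
      rw [← Nat.cast_mul, mul_comm, ← Nat.sq_sub_sq, one_pow]
    rw [hfac] at h1
    obtain ⟨j, hj⟩ := Int.dvd_of_mul_dvd_mul_right (by omega) h1
    refine ⟨((γ ^ j : Fˣ) : F), Units.ne_zero _, ?_⟩
    have h3 : (γ ^ j) ^ q = Units.mk0 δ hδ0 * γ ^ j := by
      rw [← hk, ← zpow_natCast, ← zpow_mul, ← zpow_add, hj]
      congr 1
      rw [Nat.cast_sub (show 1 ≤ q by omega)]
      ring
    have h4 := congrArg Units.val h3
    rw [Units.val_pow_eq_pow_val, Units.val_mul, Units.val_mk0] at h4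
    rw [conjHom_apply]
    exact h4
  have hl' : σ l ≠ 0 := by rw [hl]; exact mul_ne_zero hδ0 hl0
  -- `D e = l e`, `D f = σ(l)⁻¹ f`
  let D₁ : (Fin n → F) →ₗ[F] (Fin n → F) := LinearMap.id + ((l - 1) • B f).smulRight e
  let D₂ : (Fin n → F) →ₗ[F] (Fin n → F) := LinearMap.id + (((σ l)⁻¹ - 1) • B e).smulRight f
  have hD : ∀ x, D₁ (D₂ x) = x + ((l - 1) * B f x) • e + (((σ l)⁻¹ - 1) * B e x) • f := by
    intro x
    simp only [D₁, D₂, LinearMap.add_apply, LinearMap.id_apply, LinearMap.smulRight_apply,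
      LinearMap.smul_apply, map_add, map_smul, hf, smul_eq_mul, mul_zero, add_zero]
    module
  have hdetD : LinearMap.det (D₁ ∘ₗ D₂) = δ⁻¹ := by
    rw [LinearMap.det_comp, det_id_add_smulRight, det_id_add_smulRight, LinearMap.smul_apply,
      LinearMap.smul_apply, hfe, hef, smul_eq_mul, smul_eq_mul, mul_one, mul_one, add_sub_cancel,
      add_sub_cancel, hl]
    field_simp
  have hDiso : ∀ x y, B (D₁ (D₂ x)) (D₁ (D₂ y)) = B x y := by
    intro x y
    rw [hD, hD]
    simp only [map_add, map_smul, map_smulₛₗ, LinearMap.add_apply, LinearMap.smul_apply,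
      smul_eq_mul, he, hf, hef, hfe, map_mul, map_sub, map_one, map_inv₀,
      conjHom_conjHom, ← herm_symm hF x e, ← herm_symm hF x f]
    field_simp
    ring
  let De : (Fin n → F) ≃ₗ[F] (Fin n → F) :=
    (D₁ ∘ₗ D₂).equivOfDetNeZero (by rw [hdetD]; exact inv_ne_zero hδ0)
  have hDe : ∀ x, De x = D₁ (D₂ x) := fun x => rfl
  obtain ⟨A, hA⟩ := exists_SU_of_isometry hF (g.trans De) (fun u v => by
      rw [LinearEquiv.trans_apply, LinearEquiv.trans_apply, hDe, hDe, hDiso, hg])
    (by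
      rw [show ((g.trans De : (Fin n → F) ≃ₗ[F] (Fin n → F)) : (Fin n → F) →ₗ[F] (Fin n → F)) =
        (D₁ ∘ₗ D₂) ∘ₗ (g : (Fin n → F) →ₗ[F] (Fin n → F)) from rfl, LinearMap.det_comp, hdetD,
        ← hδ, inv_mul_cancel₀ hδ0])
  refine ⟨A, fun x => ⟨fun a ha => ?_, fun a ha => ?_, fun h1 h2 => ?_⟩⟩
  · refine ⟨a * l, ?_⟩
    rw [hA, LinearEquiv.trans_apply, hDe, hD, ha, map_smul, map_smul, he, hfe]
    simp only [smul_eq_mul, mul_zero, zero_smul, add_zero, mul_one]
    module
  · refine ⟨a * (σ l)⁻¹, ?_⟩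
    rw [hA, LinearEquiv.trans_apply, hDe, hD, ha, map_smul, map_smul, hf, hef]
    simp only [smul_eq_mul, mul_zero, zero_smul, add_zero, mul_one]
    module
  · rw [hA, LinearEquiv.trans_apply, hDe, hD, h1, h2]
    simp

theorem exists_SU_nonperp {e f e' f' : Fin n → F} (he : B e e = 0) (hf : B f f = 0)
    (hef : B e f = 1) (he' : B e' e' = 0) (hf' : B f' f' = 0) (hef' : B e' f' = 1) :
    ∃ A : Cfsg.SU n F q, (∃ b : F, A • e = b • e') ∧ ∃ b : F, A • f = b • f' := by
  have hfe : B f e = 1 := by rw [← herm_symm hF, hef, map_one]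
  have hfe' : B f' e' = 1 := by rw [← herm_symm hF, hef', map_one]
  let L : (Fin n → F) →ₗ[F] (Fin n → F) := (B f).smulRight e' + (B e).smulRight f'
  let X : Submodule F (Fin n → F) := Submodule.span F {e, f}
  have hX : ∀ x : X, (x : Fin n → F) = B f x • e + B e x • f := by
    intro x
    obtain ⟨a, b, hab⟩ := Submodule.mem_span_pair.mp x.2
    rw [← hab]
    simp [he, hf, hef, hfe]
  obtain ⟨g, hg, hgX⟩ := witt_hermitian B (conjHom_ne_id hF) (conjHom_conjHom hF)
    (hermBilin_isSymm hF n) (hermBilin_nondegenerate hF n) X (L.comp X.subtype)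
    (by
      rw [injective_iff_map_eq_zero]
      intro x hx
      replace hx : L x.1 = 0 := hx
      have h1 := congrArg (B f') hx
      have h2 := congrArg (B e') hx
      simp [L, he', hf', hef', hfe'] at h1 h2
      exact Subtype.ext (by rw [hX x, h1, h2]; simp))
    (by
      intro x y
      show B (L x.1) (L y.1) = B (x.1) (y.1)
      conv_rhs => rw [hX x, hX y]
      simp [L, he', hf', hef', hfe', he, hf, hef, hfe])
  obtain ⟨A, hA⟩ := exists_SU_adjust hF g hg he' hf' hef'
  refine ⟨A, (hA e).1 1 ?_, (hA f).2.1 1 ?_⟩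
  · rw [hgX ⟨e, Submodule.subset_span (by simp)⟩]
    show L e = _
    simp [L, he, hfe]
  · rw [hgX ⟨f, Submodule.subset_span (by simp)⟩]
    show L f = _
    simp [L, hf, hef]

theorem exists_SU_perp {e w e' w' : Fin n → F} (he : B e e = 0) (hw : B w w = 0)
    (hew : B e w = 0) (he' : B e' e' = 0) (hw' : B w' w' = 0) (hew' : B e' w' = 0)
    (hind : ∀ a b : F, a • e + b • w = 0 → a = 0 ∧ b = 0)
    (hind' : ∀ a b : F, a • e' + b • w' = 0 → a = 0 ∧ b = 0) :
    ∃ A : Cfsg.SU n F q, (∃ b : F, A • e = b • e') ∧ ∃ b : F, A • w = b • w' := by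
  have hwe : B w e = 0 := by rw [← herm_symm hF, hew, map_zero]
  have hwe' : B w' e' = 0 := by rw [← herm_symm hF, hew', map_zero]
  have h1 : ∀ a : F, a • w ≠ e := fun a h => one_ne_zero
    (hind 1 (-a) (by rw [one_smul, neg_smul, h, add_neg_cancel])).1
  have h2 : ∀ a : F, a • e ≠ w := fun a h => one_ne_zero
    (hind (-a) 1 (by rw [one_smul, neg_smul, h, neg_add_cancel])).2
  have h1' : ∀ a : F, a • w' ≠ e' := fun a h => one_ne_zero
    (hind' 1 (-a) (by rw [one_smul, neg_smul, h, add_neg_cancel])).1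
  obtain ⟨u, hu1, -, hu2⟩ := exists_partner_perp hF he hew h1
  obtain ⟨v, hv1, -, hv2⟩ := exists_partner_perp hF hw hwe h2
  obtain ⟨f', hf'1, hf', hf'2⟩ := exists_partner_perp hF he' hew' h1'
  have due : B u e = 1 := by rw [← herm_symm hF, hu1, map_one]
  have duw : B u w = 0 := by rw [← herm_symm hF, hu2, map_zero]
  have dve : B v e = 0 := by rw [← herm_symm hF, hv2, map_zero]
  have dvw : B v w = 1 := by rw [← herm_symm hF, hv1, map_one]
  let L : (Fin n → F) →ₗ[F] (Fin n → F) := (B u).smulRight e' + (B v).smulRight w'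
  let X : Submodule F (Fin n → F) := Submodule.span F {e, w}
  have hX : ∀ x : X, (x : Fin n → F) = B u x • e + B v x • w := by
    intro x
    obtain ⟨a, b, hab⟩ := Submodule.mem_span_pair.mp x.2
    rw [← hab]
    simp [due, duw, dve, dvw]
  obtain ⟨g, hg, hgX⟩ := witt_hermitian B (conjHom_ne_id hF) (conjHom_conjHom hF)
    (hermBilin_isSymm hF n) (hermBilin_nondegenerate hF n) X (L.comp X.subtype)
    (by
      rw [injective_iff_map_eq_zero]
      intro x hx
      obtain ⟨ha, hb⟩ := hind' _ _ (show B u (x : Fin n → F) • e' + B v (x : Fin n → F) • w' = 0 from hx)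
      exact Subtype.ext (by rw [hX x, ha, hb]; simp))
    (by
      intro x y
      show B (L x.1) (L y.1) = B (x.1) (y.1)
      conv_rhs => rw [hX x, hX y]
      simp [L, he', hw', hew', hwe', he, hw, hew, hwe])
  obtain ⟨A, hA⟩ := exists_SU_adjust hF g hg he' hf' hf'1
  have hge : g e = e' := by
    rw [hgX ⟨e, Submodule.subset_span (by simp)⟩]
    show L e = _
    simp [L, due, dve]
  have hgw : g w = w' := by
    rw [hgX ⟨w, Submodule.subset_span (by simp)⟩]
    show L w = _
    simp [L, duw, dvw]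
  refine ⟨A, (hA e).1 1 (by rw [hge, one_smul]), 1, ?_⟩
  rw [(hA w).2.2 (by rw [hgw, hew']) (by rw [hgw, ← herm_symm hF, hf'2, map_zero]), hgw, one_smul]

/-- Isotropic points. -/
def isoPts (F : Type*) [Field F] (q n : ℕ) :
    SubMulAction (Cfsg.SU n F q) (Projectivization F (Fin n → F)) where
  carrier := {p | Cfsg.hermForm n F q p.rep p.rep = 0}
  smul_mem' g p (hp : Cfsg.hermForm n F q p.rep p.rep = 0) := by
    show Cfsg.hermForm n F q (g • p).rep (g • p).rep = 0
    have h' : g • p.rep ≠ 0 := (smul_ne_zero_iff_ne g).mpr p.rep_nonzero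
    obtain ⟨a, ha⟩ := Projectivization.exists_smul_eq_mk_rep F (g • p.rep) h'
    have e : g • p = Projectivization.mk F (g • p.rep) h' := by
      conv_lhs => rw [← Projectivization.mk_rep p]
      rfl
    rw [e, ← ha]
    have hg : Cfsg.hermForm n F q (g • p.rep) (g • p.rep) = 0 := (g.2 p.rep p.rep).trans hp
    simp only [Cfsg.hermForm, Pi.smul_apply, Units.smul_def, smul_eq_mul, mul_pow] at hg ⊢
    calc _ = (a : F) * (a : F) ^ q * ∑ i, (g • p.rep) i * (g • p.rep) i ^ q := by
          rw [Finset.mul_sum]; exact Finset.sum_congr rfl fun i _ => by ring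
      _ = 0 := by rw [hg, mul_zero]

/-- The point of an isotropic vector. -/
def ipt (u : Fin n → F) (hu0 : u ≠ 0) (hu : B u u = 0) : isoPts F q n :=
  ⟨Projectivization.mk F u hu0, by
    show Cfsg.hermForm n F q (Projectivization.mk F u hu0).rep (Projectivization.mk F u hu0).rep = 0
    obtain ⟨a, ha⟩ := Projectivization.exists_smul_eq_mk_rep F u hu0
    rw [← hermBilin_apply hF, ← ha, Units.smul_def, map_smul, map_smulₛₗ, LinearMap.smul_apply, hu,
      smul_zero, smul_zero]⟩

theorem exists_ipt (p : isoPts F q n) :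
    ∃ (u : Fin n → F) (hu0 : u ≠ 0) (hu : B u u = 0), p = ipt hF u hu0 hu :=
  ⟨p.1.rep, p.1.rep_nonzero, p.2, Subtype.ext (Projectivization.mk_rep _).symm⟩

theorem ipt_eq_iff {u v : Fin n → F} (hu0 : u ≠ 0) (hu : B u u = 0) (hv0 : v ≠ 0) (hv : B v v = 0) :
    ipt hF u hu0 hu = ipt hF v hv0 hv ↔ ∃ a : F, a • v = u := by
  rw [Subtype.ext_iff]
  exact Projectivization.mk_eq_mk_iff' ..

theorem smul_ipt {g : Cfsg.SU n F q} {u v : Fin n → F} (hu0 : u ≠ 0) (hu : B u u = 0)
    (hv0 : v ≠ 0) (hv : B v v = 0) {b : F} (h : g • u = b • v) :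
    g • ipt hF u hu0 hu = ipt hF v hv0 hv := by
  apply Subtype.ext
  show Projectivization.mk F (g • u) ((smul_ne_zero_iff_ne g).mpr hu0) = Projectivization.mk F v hv0
  rw [Projectivization.mk_eq_mk_iff']
  exact ⟨b, h.symm⟩

theorem ne_zero_of_herm {u v : Fin n → F} (h : B u v = 1) : u ≠ 0 ∧ v ≠ 0 := by
  constructor <;> rintro rfl <;> simp at h

theorem exists_isotropic (hn : 2 ≤ n) : ∃ u : Fin n → F, u ≠ 0 ∧ B u u = 0 := by
  classical
  obtain ⟨c, hc⟩ := Geometry.exists_mul_conj_eq (conjHom_ne_id hF) (conjHom_conjHom hF)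
    (s := (-1 : F)) (by rw [map_neg, map_one])
  let i : Fin n := ⟨0, by omega⟩
  let j : Fin n := ⟨1, by omega⟩
  have hij : i ≠ j := by simp [i, j, Fin.ext_iff]
  refine ⟨Pi.single i 1 + c • Pi.single j 1, fun h => ?_, ?_⟩
  · simpa [hij] using congrFun h i
  · simp only [map_add, map_smul, map_smulₛₗ, LinearMap.add_apply, LinearMap.smul_apply,
      hermBilin_single]
    simp [hij, hij.symm]
    linear_combination hc

include hF in
theorem isoPts_pretransitive : MulAction.IsPretransitive (Cfsg.SU n F q) (isoPts F q n) := by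
  refine ⟨fun p r => ?_⟩
  have hq : Fintype.card F = q ^ 2 := hF
  obtain ⟨u, hu0, hu, rfl⟩ := exists_ipt hF p
  obtain ⟨v, hv0, hv, rfl⟩ := exists_ipt hF r
  obtain ⟨u', hu', hu''⟩ := exists_partner hF hu0 hu
  obtain ⟨v', hv', hv''⟩ := exists_partner hF hv0 hv
  obtain ⟨A, ⟨b, hb⟩, -⟩ := exists_SU_nonperp hF hu hu'' hu' hv hv'' hv'
  exact ⟨A, smul_ipt hF hu0 hu hv0 hv hb⟩

include hF in
theorem isoPts_preprimitive : MulAction.IsPreprimitive (Cfsg.SU n F q) (isoPts F q n) := by
  haveI := isoPts_pretransitive (n := n) hF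
  refine ⟨fun {S} hS => ?_⟩
  rw [MulAction.IsTrivialBlock, or_iff_not_imp_left]
  intro hsub
  obtain ⟨p, hp, r, hr, hpr⟩ := Set.not_subsingleton_iff.mp hsub
  obtain ⟨e, he0, he, rfl⟩ := exists_ipt hF p
  obtain ⟨w, hw0, hw, rfl⟩ := exists_ipt hF r
  have keep : ∀ (g : Cfsg.SU n F q) (x : isoPts F q n), x ∈ S → g • x ∈ S → ∀ y ∈ S, g • y ∈ S := by
    intro g x hx hgx y hy
    rcases hS.smul_eq_or_disjoint g with e' | e'
    · rw [← e']; exact Set.smul_mem_smul_set hy
    · exact absurd hgx (Set.disjoint_left.mp e' (Set.smul_mem_smul_set hx))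
  have hne : ∀ a : F, a • e ≠ w := fun a ha =>
    hpr ((ipt_eq_iff hF hw0 hw he0 he).mpr ⟨a, ha⟩).symm
  by_cases hperp : B e w = 0
  · -- everything orthogonal to a point of the block lies in the block
    have indep : ∀ {x y : Fin n → F}, x ≠ 0 → (∀ a : F, a • x ≠ y) →
        ∀ a b : F, a • x + b • y = 0 → a = 0 ∧ b = 0 := by
      intro x y hx hxy a b hab
      by_cases hb : b = 0
      · subst hb
        rw [zero_smul, add_zero] at hab
        exact ⟨(smul_eq_zero.mp hab).resolve_right hx, rfl⟩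
      · exact absurd (show (-a / b) • x = y by
          rw [neg_div, neg_smul, neg_eq_iff_add_eq_zero, ← smul_right_inj hb, smul_add, smul_smul,
            mul_div_cancel₀ _ hb, smul_zero, hab]) (hxy _)
    have spread : ∀ x (hx0 : x ≠ 0) (hx : B x x = 0), ipt hF x hx0 hx ∈ S →
        ∀ y (hy0 : y ≠ 0) (hy : B y y = 0), B x y = 0 → ipt hF y hy0 hy ∈ S := by
      intro x hx0 hx hxS y hy0 hy hxy
      by_cases hyx : ∃ a : F, a • x = y
      · rw [(ipt_eq_iff hF hy0 hy hx0 hx).mpr hyx]; exact hxS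
      push Not at hyx
      obtain ⟨A, ⟨b, hb⟩, c, hc⟩ := exists_SU_perp hF he hw hperp hx hy hxy
        (indep he0 hne) (indep hx0 hyx)
      have := keep A _ hp (by rw [smul_ipt hF he0 he hx0 hx hb]; exact hxS) _ hr
      rwa [smul_ipt hF hw0 hw hy0 hy hc] at this
    refine Set.eq_univ_of_forall fun x => ?_
    obtain ⟨s, hs0, hs, rfl⟩ := exists_ipt hF x
    by_cases hes : B e s = 0
    · exact spread e he0 he hp s hs0 hs hes
    set f := (B e s)⁻¹ • s with hfdef
    have hef : B e f = 1 := by rw [hfdef, map_smul, smul_eq_mul, inv_mul_cancel₀ hes]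
    have hff : B f f = 0 := by
      rw [hfdef, map_smul, map_smulₛₗ, LinearMap.smul_apply, hs, smul_zero, smul_zero]
    clear_value f
    set y := w + (-B f w) • e with hydef
    clear_value y
    have hfe : B f e = 1 := by rw [← herm_symm hF, hef, map_one]
    have hey : B e y = 0 := by rw [hydef, map_add, map_smul, hperp, he, smul_zero, add_zero]
    have hfy : B f y = 0 := by rw [hydef, map_add, map_smul, hfe, smul_eq_mul, mul_one, add_neg_cancel]
    have hwe : B w e = 0 := by rw [← herm_symm hF, hperp, map_zero]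
    have hyy : B y y = 0 := by simp [hydef, hw, he, hperp, hwe]
    have hy0 : y ≠ 0 := fun h => hne (B f w) (by
      rw [hydef, neg_smul, ← sub_eq_add_neg, sub_eq_zero] at h
      exact h.symm)
    have hyS := spread e he0 he hp y hy0 hyy hey
    refine spread y hy0 hyy hyS s hs0 hs ?_
    have h1 : B f y = 0 := hfy
    rw [hfdef, map_smulₛₗ, LinearMap.smul_apply, smul_eq_mul] at h1
    have h2 := (mul_eq_zero.mp h1).resolve_left
      ((map_ne_zero_iff _ (RingHom.injective _)).mpr (inv_ne_zero hes))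
    rw [← herm_symm hF, h2, map_zero]
  · have spread : ∀ x (hx0 : x ≠ 0) (hx : B x x = 0), ipt hF x hx0 hx ∈ S →
        ∀ y (hy0 : y ≠ 0) (hy : B y y = 0), B x y ≠ 0 → ipt hF y hy0 hy ∈ S := by
      intro x hx0 hx hxS y hy0 hy hxy
      obtain ⟨A, ⟨b, hb⟩, c, hc⟩ := exists_SU_nonperp hF he
        (f := (B e w)⁻¹ • w) (by rw [map_smul, map_smulₛₗ, LinearMap.smul_apply, hw, smul_zero, smul_zero])
        (by rw [map_smul, smul_eq_mul, inv_mul_cancel₀ hperp]) hx
        (f' := (B x y)⁻¹ • y) (by rw [map_smul, map_smulₛₗ, LinearMap.smul_apply, hy, smul_zero, smul_zero])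
        (by rw [map_smul, smul_eq_mul, inv_mul_cancel₀ hxy])
      have := keep A _ hp (by rw [smul_ipt hF he0 he hx0 hx hb]; exact hxS) _ hr
      rw [smul_comm, inv_smul_eq_iff₀ hperp, smul_smul, smul_smul] at hc
      rwa [smul_ipt hF hw0 hw hy0 hy hc] at this
    refine Set.eq_univ_of_forall fun x => ?_
    obtain ⟨s, hs0, hs, rfl⟩ := exists_ipt hF x
    by_cases hes : B e s = 0
    swap
    · exact spread e he0 he hp s hs0 hs hes
    obtain ⟨u, hu, -⟩ := exists_partner hF he0 he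
    obtain ⟨v, hv, -⟩ := exists_partner hF hs0 hs
    obtain ⟨t, ht1, ht2⟩ : ∃ t, B e t ≠ 0 ∧ B s t ≠ 0 := by
      by_cases h1 : B s u = 0
      · by_cases h2 : B e v = 0
        · exact ⟨u + v, by rw [map_add, hu, h2, add_zero]; exact one_ne_zero,
            by rw [map_add, h1, hv, zero_add]; exact one_ne_zero⟩
        · exact ⟨v, h2, by rw [hv]; exact one_ne_zero⟩
      · exact ⟨u, by rw [hu]; exact one_ne_zero, h1⟩
    set t' := (B e t)⁻¹ • t with ht'def
    have het : B e t' = 1 := by rw [ht'def, map_smul, smul_eq_mul, inv_mul_cancel₀ ht1]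
    obtain ⟨c, hc⟩ := exists_shift_isotropic hF he het
    clear_value t'
    set y := t' + c • e with hydef
    clear_value y
    have hey : B e y = 1 := by rw [hydef, map_add, map_smul, he, smul_zero, add_zero, het]
    have hse : B s e = 0 := by rw [← herm_symm hF, hes, map_zero]
    have hsy : B s y ≠ 0 := by
      rw [hydef, map_add, map_smul, hse, smul_zero, add_zero, ht'def, map_smul, smul_eq_mul]
      exact mul_ne_zero (inv_ne_zero ht1) ht2
    have hy0 := (ne_zero_of_herm hF hey).2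
    have hyS := spread e he0 he hp y hy0 hc (by rw [hey]; exact one_ne_zero)
    refine spread y hy0 hc hyS s hs0 hs ?_
    rw [← herm_symm hF]
    exact (map_ne_zero_iff _ (RingHom.injective _)).mpr hsy

theorem mulVec_eq_smul (A : Cfsg.SU n F q) (x : Fin n → F) :
    A • x = (A.1 : Matrix (Fin n) (Fin n) F) *ᵥ x := rfl

/-- The transvections centred at an isotropic point. -/
def tvSub (p : isoPts F q n) : Subgroup (Cfsg.SU n F q) where
  carrier := {A | ∃ c : F, ∀ x, A • x = x + (c * Cfsg.hermForm n F q x p.1.rep) • p.1.rep}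
  one_mem' := ⟨0, fun x => by rw [one_smul, zero_mul, zero_smul, add_zero]⟩
  mul_mem' := by
    rintro A A' ⟨c, hc⟩ ⟨d, hd⟩
    refine ⟨c + d, fun x => ?_⟩
    have hlin : Cfsg.hermForm n F q (x + (d * Cfsg.hermForm n F q x p.1.rep) • p.1.rep) p.1.rep =
        Cfsg.hermForm n F q x p.1.rep := by
      have hp : Cfsg.hermForm n F q p.1.rep p.1.rep = 0 := p.2
      simp only [Cfsg.hermForm, Pi.add_apply, Pi.smul_apply, smul_eq_mul, add_mul,
        Finset.sum_add_distrib, mul_assoc, ← Finset.mul_sum] at hp ⊢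
      rw [hp, mul_zero, mul_zero, add_zero]
    rw [mul_smul, hd, hc, hlin, add_mul, add_smul]
    abel
  inv_mem' := by
    rintro A ⟨c, hc⟩
    refine ⟨-c, fun x => ?_⟩
    have hlin : Cfsg.hermForm n F q (x + (-c * Cfsg.hermForm n F q x p.1.rep) • p.1.rep) p.1.rep =
        Cfsg.hermForm n F q x p.1.rep := by
      have hp : Cfsg.hermForm n F q p.1.rep p.1.rep = 0 := p.2
      simp only [Cfsg.hermForm, Pi.add_apply, Pi.smul_apply, smul_eq_mul, add_mul,
        Finset.sum_add_distrib, mul_assoc, ← Finset.mul_sum] at hp ⊢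
      rw [hp, mul_zero, mul_zero, add_zero]
    rw [inv_smul_eq_iff, hc, hlin, neg_mul, neg_smul, neg_add_cancel_right]

include hF in
/-- `PSU_n(q)` is simple. -/
theorem isSimpleGroup_PSU (hn : 3 ≤ n) (h32 : ¬ (n = 3 ∧ q = 2)) :
    IsSimpleGroup (Cfsg.PSU n F q) := by
  classical
  haveI := isoPts_pretransitive (n := n) hF
  haveI := isoPts_preprimitive (n := n) hF
  have h2 := two_le_q hF
  have hgen := Cfsg.Agent.S0780.result hF n hn h32
  have hn' : 4 ≤ n ∨ (n = 3 ∧ 3 ≤ q) := by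
    rcases hn.eq_or_lt with h | h
    · exact Or.inr ⟨h.symm, by
        have : q ≠ 2 := fun h' => h32 ⟨h.symm, h'⟩
        omega⟩
    · exact Or.inl h
  refine isSimpleGroup_quotient_center_of_iwasawa tvSub ?_ ?_ ?_ ?_ ?_ ?_ ?_
  · rintro p a ⟨c, hc⟩ b ⟨d, hd⟩
    refine Subtype.ext (Subtype.ext (Matrix.ext_iff_mulVec.mpr fun x => ?_))
    rw [← mulVec_eq_smul, ← mulVec_eq_smul, mul_smul, mul_smul, hd, hc, hc, hd]
    have hlin : ∀ t : F, Cfsg.hermForm n F q (x + t • p.1.rep) p.1.rep =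
        Cfsg.hermForm n F q x p.1.rep := fun t => by
      rw [← hermBilin_apply hF, map_add, map_smul, hermBilin_apply, hermBilin_apply,
        show Cfsg.hermForm n F q p.1.rep p.1.rep = 0 from p.2, smul_zero, add_zero]
    rw [hlin, hlin]
    abel
  · rintro g p a ⟨c, hc⟩
    have hne : g • p.1.rep ≠ 0 := (smul_ne_zero_iff_ne g).mpr p.1.rep_nonzero
    obtain ⟨s, hs⟩ := Projectivization.exists_smul_eq_mk_rep F _ hne
    have e1 : (g • p).1.rep = (s : F) • (g • p.1.rep) := by
      rw [← Units.smul_def, hs]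
      congr 1
      show g • p.1 = _
      conv_lhs => rw [← Projectivization.mk_rep p.1]
      rfl
    have hst : (s : F) ^ q * (s : F) ≠ 0 := mul_ne_zero (pow_ne_zero _ s.ne_zero) s.ne_zero
    refine ⟨c / ((s : F) ^ q * (s : F)), fun x => ?_⟩
    obtain ⟨y, rfl⟩ : ∃ y, g • y = x := ⟨g⁻¹ • x, smul_inv_smul g x⟩
    rw [mul_smul, mul_smul, inv_smul_smul, hc, smul_add, smul_comm g, e1,
      ← hermBilin_apply hF, ← hermBilin_apply hF]
    simp only [map_smulₛₗ, LinearMap.smul_apply, conjHom_apply, hermBilin_apply, smul_smul,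
      smul_eq_mul]
    congr 2
    rw [show Cfsg.hermForm n F q (g • y) (g • p.1.rep) = Cfsg.hermForm n F q y p.1.rep from g.2 y p.1.rep]
    field_simp
  · rw [eq_top_iff, ← hgen, Subgroup.closure_le]
    rintro A ⟨v, c, hv, hA⟩
    have hAx : ∀ x, A • x = x + (c * Cfsg.hermForm n F q x v) • v := fun x => by
      rw [mulVec_eq_smul, hA, Cfsg.unitaryTransvection, Matrix.add_mulVec, Matrix.one_mulVec,
        Matrix.smul_mulVec, Matrix.vecMulVec_mulVec, dotProduct_comm, op_smul_eq_smul, smul_smul]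
      rfl
    rcases eq_or_ne v 0 with rfl | hv0
    · have : A = 1 := Subtype.ext (Subtype.ext (Matrix.ext_iff_mulVec.mpr fun x => by
        rw [← mulVec_eq_smul, ← mulVec_eq_smul, hAx, smul_zero, add_zero, one_smul]))
      rw [this]; exact one_mem _
    obtain ⟨s, hs⟩ := Projectivization.exists_smul_eq_mk_rep F v hv0
    refine Subgroup.mem_iSup_of_mem (ipt hF v hv0 hv) ⟨c / ((s : F) ^ q * (s : F)), fun x => ?_⟩
    show A • x = x + (c / _ * Cfsg.hermForm n F q x (Projectivization.mk F v hv0).rep) •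
      (Projectivization.mk F v hv0).rep
    have hst : (s : F) ^ q * (s : F) ≠ 0 := mul_ne_zero (pow_ne_zero _ s.ne_zero) s.ne_zero
    rw [hAx, ← hs, Units.smul_def, ← hermBilin_apply hF, ← hermBilin_apply hF, map_smulₛₗ,
      LinearMap.smul_apply, conjHom_apply, hermBilin_apply, smul_smul, smul_eq_mul]
    congr 2
    field_simp
  · rw [eq_top_iff, ← hgen, Subgroup.closure_le]
    rintro A ⟨v, c, hv, hA⟩
    rw [commutator_eq_closure]
    exact Subgroup.subset_closure (Cfsg.Agent.S0781.result hF n hn' A v c hv hA)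
  · intro z hz p
    have hs := SU_center_scalar hF z hz ⟨0, by omega⟩
    obtain ⟨u, hu0, hu, rfl⟩ := exists_ipt hF p
    refine smul_ipt hF hu0 hu hu0 hu (b := (z.1 : Matrix (Fin n) (Fin n) F) ⟨0, by omega⟩ ⟨0, by omega⟩) ?_
    rw [mulVec_eq_smul]
    conv_lhs => rw [hs]
    rw [Matrix.smul_mulVec, Matrix.one_mulVec]
  · rintro p a ⟨c, hc⟩ hfix
    obtain ⟨f, hf, hff⟩ := exists_partner hF p.1.rep_nonzero p.2
    have hf0 := (ne_zero_of_herm hF hf).2
    have h := congrArg Subtype.val (hfix (ipt hF f hf0 hff))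
    change Projectivization.mk F (a • f) ((smul_ne_zero_iff_ne a).mpr hf0) =
      Projectivization.mk F f hf0 at h
    rw [Projectivization.mk_eq_mk_iff'] at h
    obtain ⟨t, ht⟩ := h
    rw [hc, ← hermBilin_apply hF, hf, mul_one] at ht
    have h1 := congrArg (hermBilin hF n f) ht
    have hfe : hermBilin hF n f p.1.rep = 1 := by rw [← herm_symm hF, hf, map_one]
    rw [map_add, map_smul, map_smul, hff, hfe, smul_zero, zero_add, smul_eq_mul, mul_one] at h1
    refine Subtype.ext (Subtype.ext (Matrix.ext_iff_mulVec.mpr fun x => ?_))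
    rw [← mulVec_eq_smul, ← mulVec_eq_smul, hc, ← h1, zero_mul, zero_smul, add_zero, one_smul]
  · obtain ⟨e, he0, he⟩ := exists_isotropic (n := n) hF (by omega)
    obtain ⟨f, hf, hff⟩ := exists_partner hF he0 he
    have hf0 := (ne_zero_of_herm hF hf).2
    obtain ⟨g, hg⟩ := MulAction.exists_smul_eq (Cfsg.SU n F q) (ipt hF e he0 he) (ipt hF f hf0 hff)
    refine ⟨g, ipt hF e he0 he, fun heq => ?_⟩
    rw [hg, ipt_eq_iff] at heq
    obtain ⟨a, ha⟩ := heq
    have := congrArg (hermBilin hF n e) ha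
    rw [map_smul, he, hf, smul_zero] at this
    exact zero_ne_one this

end Cfsg.Agent.Lib.Classical
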