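import Cfsg.Agent.Lib.Classical.HermForm

/-!
Counting vectors of given Hermitian norm, orders and centres of unitary groups.
-/

set_option autoImplicit false

namespace Cfsg.Agent.Lib.Classical

open scoped Matrix

variable {F : Type*} [Field F] [Fintype F] {q : ℕ}

/-- Number of vectors of Hermitian norm `c`. -/
noncomputable def hermCount (F : Type*) [Field F] (q n : ℕ) (c : F) : ℕ :=
  Nat.card {v : Fin n → F // Cfsg.hermForm n F q v v = c}

theorem hermForm_cons {n : ℕ} (x y : F) (u w : Fin n → F) :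
    Cfsg.hermForm (n + 1) F q (Fin.cons x u : Fin (n + 1) → F) (Fin.cons y w) =
      x * y ^ q + Cfsg.hermForm n F q u w := by
  simp [Cfsg.hermForm, Fin.sum_univ_succ]

theorem hermForm_succ {n : ℕ} (v : Fin (n + 1) → F) :
    Cfsg.hermForm (n + 1) F q v v =
      v 0 ^ (q + 1) + Cfsg.hermForm n F q (Fin.tail v) (Fin.tail v) := by
  conv_lhs => rw [← Fin.cons_self_tail v]
  rw [hermForm_cons, ← pow_succ']

theorem hermCount_succ_add (hF : Fintype.card F = q ^ 2) (n : ℕ) {c : F} (hc : c ^ q = c) :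
    hermCount F q (n + 1) c + q * hermCount F q n c = (q + 1) * q ^ (2 * n) := by
  classical
  let B : F → Type _ := fun d => {w : Fin n → F // Cfsg.hermForm n F q w w = c - d}
  have e1 : {v : Fin (n + 1) → F // Cfsg.hermForm (n + 1) F q v v = c} ≃
      Σ d : F, {x : F // x ^ (q + 1) = d} × B d :=
    { toFun := fun v => ⟨v.1 0 ^ (q + 1), ⟨v.1 0, rfl⟩, ⟨Fin.tail v.1, by
        have h := v.2
        rw [hermForm_succ] at h
        exact eq_sub_of_add_eq' h⟩⟩
      invFun := fun p => ⟨Fin.cons p.2.1.1 p.2.2.1, by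
        rw [hermForm_cons, ← pow_succ', p.2.1.2, p.2.2.2]
        exact add_sub_cancel _ _⟩
      left_inv := fun v => Subtype.ext (Fin.cons_self_tail v.1)
      right_inv := fun p => by
        obtain ⟨d, ⟨x, hx⟩, ⟨w, hw⟩⟩ := p
        subst hx
        rfl }
  have e2 : (Fin n → F) ≃ Σ d : F, B d :=
    (Equiv.sigmaFiberEquiv fun w : Fin n → F => c - Cfsg.hermForm n F q w w).symm.trans
      (Equiv.sigmaCongrRight fun d => Equiv.subtypeEquivRight fun w => by
        constructor
        · intro h; rw [← h, sub_sub_cancel]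
        · intro h; rw [h, sub_sub_cancel])
  have hB0 : Nat.card (B 0) = hermCount F q n c := by
    simp only [B, hermCount, sub_zero]
  have hN : q ^ (2 * n) = ∑ d : F, Nat.card (B d) := by
    rw [← Nat.card_sigma, ← Nat.card_congr e2, Nat.card_fun, Nat.card_fin,
      Nat.card_eq_fintype_card, hF, ← pow_mul]
  rw [hN, Finset.mul_sum]
  conv_lhs => rw [hermCount, Nat.card_congr e1, Nat.card_sigma, ← hB0,
    show q * Nat.card (B 0) = ∑ d : F, if d = 0 then q * Nat.card (B d) else 0 by
      rw [Finset.sum_ite_eq' Finset.univ (0 : F)]; simp,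
    ← Finset.sum_add_distrib]
  refine Finset.sum_congr rfl fun d _ => ?_
  rw [Nat.card_prod]
  by_cases hd : d ^ q = d
  · rw [card_norm_eq hF d hd]
    split_ifs
    · ring
    · ring
  · have hd0 : d ≠ 0 := fun h => hd (by rw [h, zero_pow_q hF])
    have hempty : IsEmpty (B d) := ⟨fun w => hd (by
      have h := hermForm_self_fixed hF w.1
      rw [w.2, ← conjHom_apply hF, map_sub, conjHom_apply, conjHom_apply, hc] at h
      linear_combination -h)⟩
    rw [Nat.card_of_isEmpty (α := B d), if_neg hd0]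
    ring

theorem hermCount_zero [DecidableEq F] (c : F) : hermCount F q 0 c = if c = 0 then 1 else 0 := by
  split_ifs with h
  · subst h
    rw [hermCount, Nat.card_eq_one_iff_exists]
    exact ⟨⟨Fin.elim0, by simp [Cfsg.hermForm]⟩, fun x => Subtype.ext (funext fun i => i.elim0)⟩
  · rw [hermCount]
    haveI : IsEmpty {v : Fin 0 → F // Cfsg.hermForm 0 F q v v = c} :=
      ⟨fun v => h (by simpa [Cfsg.hermForm] using v.2.symm)⟩
    exact Nat.card_of_isEmpty

theorem mul_hermCount_one (hF : Fintype.card F = q ^ 2) (n : ℕ) :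
    (q : ℤ) * hermCount F q n (1 : F) = (q : ℤ) ^ (2 * n) - (-(q : ℤ)) ^ n := by
  induction n with
  | zero => classical simp [hermCount_zero]
  | succ n ih =>
    have h := hermCount_succ_add hF n (c := (1 : F)) (one_pow q)
    have h' : (hermCount F q (n + 1) (1 : F) : ℤ) + q * hermCount F q n (1 : F) =
        ((q : ℤ) + 1) * (q : ℤ) ^ (2 * n) := by exact_mod_cast h
    rw [mul_add 2 n 1, pow_add, pow_succ (-(q : ℤ))]
    linear_combination (q : ℤ) * h' - (q : ℤ) * ih

theorem mul_hermCount_zero (hF : Fintype.card F = q ^ 2) (n : ℕ) :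
    (q : ℤ) * hermCount F q n (0 : F) = (q : ℤ) ^ (2 * n) + (-(q : ℤ)) ^ n * (q - 1) := by
  induction n with
  | zero => classical simp [hermCount_zero]
  | succ n ih =>
    have h := hermCount_succ_add hF n (c := (0 : F)) (zero_pow_q hF)
    have h' : (hermCount F q (n + 1) (0 : F) : ℤ) + q * hermCount F q n (0 : F) =
        ((q : ℤ) + 1) * (q : ℤ) ^ (2 * n) := by exact_mod_cast h
    rw [mul_add 2 n 1, pow_add, pow_succ (-(q : ℤ))]
    linear_combination (q : ℤ) * h' - (q : ℤ) * ih

theorem hermCount_one_eq (hF : Fintype.card F = q ^ 2) (n : ℕ) :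
    hermCount F q n (1 : F) =
      if Even n then q ^ (n - 1) * (q ^ n - 1) else q ^ (n - 1) * (q ^ n + 1) := by
  have h2 := two_le_q hF
  cases n with
  | zero => classical simp [hermCount_zero]
  | succ m =>
    apply Nat.eq_of_mul_eq_mul_left (show 0 < q by omega)
    have h := mul_hermCount_one hF (m + 1)
    have hpos : 1 ≤ q ^ (m + 1) := Nat.one_le_pow _ _ (by omega)
    simp only [Nat.add_sub_cancel]
    split_ifs with he
    · rw [he.neg_pow] at h
      zify [hpos]
      linear_combination h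
    · rw [(Nat.not_even_iff_odd.mp he).neg_pow] at h
      zify
      linear_combination h

theorem hermCount_zero_eq (hF : Fintype.card F = q ^ 2) (n : ℕ) :
    hermCount F q n (0 : F) =
      (if Even n then (q ^ n - 1) * (q ^ (n - 1) + 1) else (q ^ n + 1) * (q ^ (n - 1) - 1)) + 1 := by
  have h2 := two_le_q hF
  cases n with
  | zero => classical simp [hermCount_zero]
  | succ m =>
    apply Nat.eq_of_mul_eq_mul_left (show 0 < q by omega)
    have h := mul_hermCount_zero hF (m + 1)
    have hpos : 1 ≤ q ^ (m + 1) := Nat.one_le_pow _ _ (by omega)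
    have hpos' : 1 ≤ q ^ m := Nat.one_le_pow _ _ (by omega)
    simp only [Nat.add_sub_cancel]
    split_ifs with he
    · rw [he.neg_pow] at h
      zify [hpos]
      linear_combination h
    · rw [(Nat.not_even_iff_odd.mp he).neg_pow] at h
      zify [hpos']
      linear_combination h

/-! ### Orders -/

/-- Orthonormal families. -/
abbrev HermFrame (F : Type*) [Field F] (q n j : ℕ) : Type _ :=
  {e : Fin j → (Fin n → F) // ∀ i k, Cfsg.hermForm n F q (e i) (e k) = if i = k then 1 else 0}

/-- An isometry moving the first basis vector to a given vector of norm one. -/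
theorem exists_isometry_single (hF : Fintype.card F = q ^ 2) {n : ℕ} (v : Fin (n + 1) → F)
    (hv : Cfsg.hermForm (n + 1) F q v v = 1) :
    ∃ g : (Fin (n + 1) → F) ≃ₗ[F] (Fin (n + 1) → F),
      (∀ u w, Cfsg.hermForm (n + 1) F q (g u) (g w) = Cfsg.hermForm (n + 1) F q u w) ∧
      g (Pi.single 0 1) = v := by
  let φ : Submodule.span F ({Pi.single (0 : Fin (n + 1)) (1 : F)} : Set (Fin (n + 1) → F)) →ₗ[F]
      (Fin (n + 1) → F) :=
    (LinearMap.smulRight (LinearMap.proj 0) v).comp (Submodule.subtype _)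
  have hmem : ∀ x : Submodule.span F ({Pi.single (0 : Fin (n + 1)) (1 : F)} : Set (Fin (n + 1) → F)),
      (x : Fin (n + 1) → F) = ((x : Fin (n + 1) → F) 0) • (Pi.single 0 1) := by
    intro x
    obtain ⟨a, ha⟩ := Submodule.mem_span_singleton.mp x.2
    rw [← ha]
    simp
  have hv0 : v ≠ 0 := by
    rintro rfl
    simp [Cfsg.hermForm] at hv
  obtain ⟨g, hg, hgX⟩ := Geometry.witt_hermitian (hermBilin hF (n + 1)) (conjHom_ne_id hF)
    (conjHom_conjHom hF) (hermBilin_isSymm hF _) (hermBilin_nondegenerate hF _) _ φ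
    (by
      intro x y hxy
      have : ((x : Fin (n + 1) → F) 0) = ((y : Fin (n + 1) → F) 0) := smul_left_injective F hv0 hxy
      exact Subtype.ext (by rw [hmem x, hmem y, this]))
    (by
      intro x y
      show hermBilin hF _ (((x : Fin (n + 1) → F) 0) • v) (((y : Fin (n + 1) → F) 0) • v) = _
      conv_rhs => rw [hmem x, hmem y]
      simp only [map_smul, map_smulₛₗ, LinearMap.smul_apply, smul_eq_mul, hermBilin_apply, hv]
      rw [← hermBilin_apply hF, hermBilin_single, Pi.single_eq_same])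
  refine ⟨g, fun u w => hg w u, ?_⟩
  have h := hgX ⟨Pi.single 0 1, Submodule.mem_span_singleton_self _⟩
  rw [h]
  show (Pi.single (0 : Fin (n + 1)) (1 : F) : Fin (n + 1) → F) 0 • v = v
  rw [Pi.single_eq_same, one_smul]

theorem hermForm_single_left {n : ℕ} (hF : Fintype.card F = q ^ 2) (i : Fin n) (v : Fin n → F) :
    Cfsg.hermForm n F q v (Pi.single i 1) = v i := by
  rw [← hermBilin_apply hF, hermBilin_single]

theorem card_hermFrame_succ (hF : Fintype.card F = q ^ 2) (n j : ℕ) :
    Nat.card (HermFrame F q (n + 1) (j + 1)) =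
      hermCount F q (n + 1) (1 : F) * Nat.card (HermFrame F q n j) := by
  classical
  have h1 : HermFrame F q (n + 1) (j + 1) ≃
      Σ v : {v : Fin (n + 1) → F // Cfsg.hermForm (n + 1) F q v v = 1},
        {f : Fin j → (Fin (n + 1) → F) // (∀ i k, Cfsg.hermForm (n + 1) F q (f i) (f k) = if i = k then 1 else 0) ∧
          ∀ i, Cfsg.hermForm (n + 1) F q (f i) v.1 = 0} :=
    { toFun := fun e => ⟨⟨e.1 0, by simpa using e.2 0 0⟩, ⟨Fin.tail e.1,
        fun i k => by simpa [Fin.tail] using e.2 i.succ k.succ,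
        fun i => by simpa [Fin.tail] using e.2 i.succ 0⟩⟩
      invFun := fun p => ⟨Fin.cons p.1.1 p.2.1, by
        intro i k
        refine Fin.cases ?_ (fun i' => ?_) i <;> refine Fin.cases ?_ (fun k' => ?_) k
        · simpa using p.1.2
        · rw [Fin.cons_zero, Fin.cons_succ, if_neg (Fin.succ_ne_zero k').symm,
            ← hermForm_conj hF, p.2.2.2 k', map_zero]
        · rw [Fin.cons_zero, Fin.cons_succ, if_neg (Fin.succ_ne_zero i')]
          exact p.2.2.2 i'
        · simp only [Fin.cons_succ, Fin.succ_inj, p.2.2.1]⟩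
      left_inv := fun e => Subtype.ext (Fin.cons_self_tail e.1)
      right_inv := fun p => by
        obtain ⟨⟨v, hv⟩, ⟨f, hf⟩⟩ := p
        rfl }
  rw [Nat.card_congr h1, Nat.card_sigma]
  have hfib : ∀ v : {v : Fin (n + 1) → F // Cfsg.hermForm (n + 1) F q v v = 1},
      Nat.card {f : Fin j → (Fin (n + 1) → F) // (∀ i k, Cfsg.hermForm (n + 1) F q (f i) (f k) = if i = k then 1 else 0) ∧
          ∀ i, Cfsg.hermForm (n + 1) F q (f i) v.1 = 0} = Nat.card (HermFrame F q n j) := by
    rintro ⟨v, hv⟩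
    obtain ⟨g, hg, hgv⟩ := exists_isometry_single hF v hv
    refine Nat.card_congr (Equiv.symm
      { toFun := fun e => ⟨fun i => g (Fin.cons 0 (e.1 i)),
          fun i k => by rw [hg, hermForm_cons, zero_mul, zero_add, e.2],
          fun i => show Cfsg.hermForm (n + 1) F q (g (Fin.cons 0 (e.1 i))) v = 0 by
            rw [← hgv, hg, hermForm_single_left hF, Fin.cons_zero]⟩
        invFun := fun f => ⟨fun i => Fin.tail (g.symm (f.1 i)), fun i k => ?_⟩
        left_inv := fun e => Subtype.ext (funext fun i => by simp)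
        right_inv := fun f => Subtype.ext (funext fun i => ?_) })
    · have hz : ∀ i, g.symm (f.1 i) 0 = 0 := fun i => by
        have h : Cfsg.hermForm (n + 1) F q (f.1 i) v = 0 := f.2.2 i
        have h' : Cfsg.hermForm (n + 1) F q (g (g.symm (f.1 i))) (g (Pi.single 0 1)) = 0 := by
          rw [g.apply_symm_apply, hgv]; exact h
        rw [hg, hermForm_single_left hF] at h'
        exact h'
      have h := f.2.1 i k
      rw [← g.apply_symm_apply (f.1 i), ← g.apply_symm_apply (f.1 k), hg,
        ← Fin.cons_self_tail (g.symm (f.1 i)), ← Fin.cons_self_tail (g.symm (f.1 k)),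
        hermForm_cons, hz, zero_mul, zero_add] at h
      exact h
    · have h : Cfsg.hermForm (n + 1) F q (f.1 i) v = 0 := f.2.2 i
      have h' : Cfsg.hermForm (n + 1) F q (g (g.symm (f.1 i))) (g (Pi.single 0 1)) = 0 := by
        rw [g.apply_symm_apply, hgv]; exact h
      rw [hg, hermForm_single_left hF] at h'
      show g (Fin.cons 0 (Fin.tail (g.symm (f.1 i)))) = f.1 i
      have e : (Fin.cons 0 (Fin.tail (g.symm (f.1 i))) : Fin (n + 1) → F) = g.symm (f.1 i) := by
        conv_rhs => rw [← Fin.cons_self_tail (g.symm (f.1 i)), h']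
      rw [e, g.apply_symm_apply]
  rw [Finset.sum_congr rfl fun v _ => hfib v, Finset.sum_const, Finset.card_univ, smul_eq_mul,
    hermCount]
  simp only [Nat.card_eq_fintype_card]

theorem card_hermFrame_self (hF : Fintype.card F = q ^ 2) (n : ℕ) :
    Nat.card (HermFrame F q n n) = q ^ (n * (n - 1) / 2) *
      ∏ i ∈ Finset.range n, (if Even i then q ^ (i + 1) + 1 else q ^ (i + 1) - 1) := by
  induction n with
  | zero =>
    simp only [Finset.range_zero, Finset.prod_empty, mul_one, Nat.zero_mul, Nat.zero_div, pow_zero]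
    rw [Nat.card_eq_one_iff_exists]
    exact ⟨⟨Fin.elim0, fun i => i.elim0⟩, fun x => Subtype.ext (funext fun i => i.elim0)⟩
  | succ n ih =>
    rw [card_hermFrame_succ hF, ih, hermCount_one_eq hF, Finset.prod_range_succ, Nat.add_sub_cancel,
      ← Finset.sum_range_id n, ← Nat.add_sub_cancel (n := n) (m := 1)]
    rw [Nat.add_sub_cancel]
    have hexp : (n + 1) * n / 2 = ∑ i ∈ Finset.range n, i + n := by
      have := Finset.sum_range_id (n + 1)
      rw [Finset.sum_range_succ, Nat.add_sub_cancel] at this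
      exact this.symm
    rw [hexp, pow_add]
    by_cases he : Even n
    · rw [if_neg (by simpa [Nat.even_add_one] using he), if_pos he]
      ring
    · rw [if_pos (by simpa [Nat.even_add_one] using he), if_neg he]
      ring

theorem transpose_mul_map_apply {n : ℕ} (hF : Fintype.card F = q ^ 2) (M : Matrix (Fin n) (Fin n) F)
    (i k : Fin n) :
    (Mᵀ * M.map (conjHom hF)) i k = Cfsg.hermForm n F q (fun r => M r i) (fun r => M r k) := by
  simp [Matrix.mul_apply, Cfsg.hermForm, conjHom_apply]

/-- The columns of a unitary matrix form an orthonormal basis. -/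
theorem card_GU (hF : Fintype.card F = q ^ 2) (n : ℕ) :
    Nat.card (Cfsg.GU n F q) = q ^ (n * (n - 1) / 2) *
      ∏ i ∈ Finset.range n, (if Even i then q ^ (i + 1) + 1 else q ^ (i + 1) - 1) := by
  rw [← card_hermFrame_self hF n]
  refine Nat.card_congr
    { toFun := fun g => ⟨fun i r => (g.1 : Matrix (Fin n) (Fin n) F) r i, fun i k => by
        rw [← transpose_mul_map_apply hF, (mem_GU_iff hF g.1).mp g.2, Matrix.one_apply]⟩
      invFun := fun e =>
        have hM : (Matrix.of fun r i => e.1 i r : Matrix (Fin n) (Fin n) F)ᵀ *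
            (Matrix.of fun r i => e.1 i r : Matrix (Fin n) (Fin n) F).map (conjHom hF) = 1 := by
          ext i k
          rw [transpose_mul_map_apply hF, Matrix.one_apply]
          exact e.2 i k
        ⟨Matrix.GeneralLinearGroup.mkOfDetNeZero (Matrix.of fun r i => e.1 i r) (fun h => by
          have h' := congrArg Matrix.det hM
          rw [Matrix.det_mul, Matrix.det_transpose, h, zero_mul, Matrix.det_one] at h'
          exact zero_ne_one h'), (mem_GU_iff hF _).mpr hM⟩
      left_inv := fun g => Subtype.ext (Units.ext rfl)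
      right_inv := fun e => Subtype.ext rfl }

theorem card_SU (hF : Fintype.card F = q ^ 2) {n : ℕ} (hn : 1 ≤ n) :
    (q + 1) * Nat.card (Cfsg.SU n F q) = Nat.card (Cfsg.GU n F q) := by
  classical
  set d : Cfsg.GU n F q →* Fˣ :=
    (Matrix.GeneralLinearGroup.det : GL (Fin n) F →* Fˣ).comp (Cfsg.GU n F q).subtype with hd
  have hrange : d.range = (powMonoidHom (q + 1) : Fˣ →* Fˣ).ker := by
    ext u
    constructor
    · rintro ⟨g, rfl⟩
      rw [MonoidHom.mem_ker, powMonoidHom_apply]
      apply Units.ext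
      have h := congrArg Matrix.det ((mem_GU_iff hF g.1).mp g.2)
      rw [Matrix.det_mul, Matrix.det_transpose, Matrix.det_one, ← RingHom.mapMatrix_apply,
        ← RingHom.map_det, conjHom_apply, ← pow_succ'] at h
      rw [Units.val_pow_eq_pow_val, Units.val_one]
      exact h
    · intro hu
      have hu' : (u : F) ^ (q + 1) = 1 := by
        have := congrArg Units.val (MonoidHom.mem_ker.mp hu)
        simpa using this
      set v : Fin n → F := Function.update (fun _ => 1) ⟨0, hn⟩ (u : F) with hv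
      have hdet : (Matrix.diagonal v).det = (u : F) := by
        rw [Matrix.det_diagonal, hv, Finset.prod_update_of_mem (Finset.mem_univ _)]
        simp
      refine ⟨⟨Matrix.GeneralLinearGroup.mkOfDetNeZero (Matrix.diagonal v)
        (by rw [hdet]; exact u.ne_zero), (mem_GU_iff hF _).mpr (diagonal_preserves hF v fun i => ?_)⟩,
        Units.ext hdet⟩
      rcases eq_or_ne i ⟨0, hn⟩ with rfl | hi
      · simpa [hv] using hu'
      · simp [hv, hi]
  have hk : Nat.card (powMonoidHom (q + 1) : Fˣ →* Fˣ).ker = q + 1 := by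
    rw [IsCyclic.card_powMonoidHom_ker, natCard_units, hF]
    exact Nat.gcd_eq_right ⟨q - 1, by rw [← Nat.sq_sub_sq, one_pow]⟩
  rw [← d.ker.index_mul_card, Subgroup.index_ker, hrange, hk]
  congr 1
  refine Nat.card_congr
    { toFun := fun g => ⟨⟨Matrix.SpecialLinearGroup.toGL g.1, (mem_GU_iff hF _).mpr ((mem_SU_iff hF g.1).mp g.2)⟩,
        Units.ext g.1.2⟩
      invFun := fun g => ⟨⟨(g.1.1 : Matrix (Fin n) (Fin n) F), congrArg Units.val (MonoidHom.mem_ker.mp g.2)⟩,
        (mem_SU_iff hF _).mpr ((mem_GU_iff hF g.1.1).mp g.1.2)⟩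
      left_inv := fun g => Subtype.ext (Subtype.ext rfl)
      right_inv := fun g => Subtype.ext (Subtype.ext (Units.ext rfl)) }

/-! ### The centre of `SU` -/

theorem preserves_mul (hF : Fintype.card F = q ^ 2) {n : ℕ} {A B : Matrix (Fin n) (Fin n) F}
    (hA : Aᵀ * A.map (conjHom hF) = 1) (hB : Bᵀ * B.map (conjHom hF) = 1) :
    (A * B)ᵀ * (A * B).map (conjHom hF) = 1 := by
  rw [Matrix.transpose_mul, Matrix.map_mul, Matrix.mul_assoc, ← Matrix.mul_assoc Aᵀ, hA,
    Matrix.one_mul, hB]

theorem SU_center_scalar (hF : Fintype.card F = q ^ 2) {n : ℕ} (M : Cfsg.SU n F q)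
    (hM : M ∈ Subgroup.center (Cfsg.SU n F q)) (i₀ : Fin n) :
    (M.1 : Matrix (Fin n) (Fin n) F) = ((M.1 : Matrix (Fin n) (Fin n) F) i₀ i₀) • 1 := by
  classical
  have h2 := two_le_q hF
  set A : Matrix (Fin n) (Fin n) F := (M.1 : Matrix (Fin n) (Fin n) F) with hA
  have hcomm : ∀ (B : Matrix (Fin n) (Fin n) F), B.det = 1 → Bᵀ * B.map (conjHom hF) = 1 →
      B * A = A * B := by
    intro B hB1 hB2
    exact congrArg (fun g : Cfsg.SU n F q => (g.1 : Matrix (Fin n) (Fin n) F))
      (Subgroup.mem_center_iff.mp hM ⟨⟨B, hB1⟩, (mem_SU_iff hF _).mpr hB2⟩)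
  obtain ⟨a, ha⟩ : ∃ a : F, a ^ (q + 1) = 1 ∧ a * a ≠ 1 := by
    obtain ⟨g, hg⟩ := IsCyclic.exists_ofOrder_eq_natCard (α := Fˣ)
    have hq1 : q + 1 ∣ q ^ 2 - 1 := ⟨q - 1, by rw [← Nat.sq_sub_sq, one_pow]⟩
    rw [natCard_units, hF] at hg
    refine ⟨((g ^ (q - 1) : Fˣ) : F), ?_, ?_⟩
    · rw [← Units.val_pow_eq_pow_val, ← pow_mul, Units.val_eq_one]
      refine orderOf_dvd_iff_pow_eq_one.mp (dvd_of_eq ?_)
      rw [hg, mul_comm, ← Nat.sq_sub_sq, one_pow]
    · intro h
      rw [← Units.val_mul, ← pow_add, Units.val_eq_one] at h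
      have h' := Nat.le_of_dvd (by omega) (hg ▸ orderOf_dvd_of_pow_eq_one h)
      have : 3 * (q - 1) ≤ (q + 1) * (q - 1) := Nat.mul_le_mul_right _ (by omega)
      rw [← Nat.sq_sub_sq, one_pow] at this
      omega
  have ha0 : a ≠ 0 := fun h => by simp [h] at ha
  have hoff : ∀ i j, i ≠ j → A i j = 0 := by
    intro i j hij
    set d : Fin n → F := Function.update (Function.update (fun _ => 1) i a) j a⁻¹ with hd
    have hdet : (Matrix.diagonal d).det = 1 := by
      rw [Matrix.det_diagonal, hd, Finset.prod_update_of_mem (Finset.mem_univ _),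
        Finset.prod_update_of_mem (by simp [hij])]
      simp [ha0]
    have hn : ∀ k, d k ^ (q + 1) = 1 := by
      intro k
      rcases eq_or_ne k j with rfl | hk
      · simp [hd, ha.1]
      rcases eq_or_ne k i with rfl | hk'
      · simp [hd, hk, ha.1]
      · simp [hd, hk, hk']
    have h := congrFun (congrFun (hcomm _ hdet (diagonal_preserves hF d hn)) i) j
    rw [Matrix.diagonal_mul, Matrix.mul_diagonal] at h
    simp only [hd, Function.update_self, Function.update_of_ne hij] at h
    have h' : (a - a⁻¹) * A i j = 0 := by linear_combination h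
    refine (mul_eq_zero.mp h').resolve_left fun h0 => ha.2 ?_
    rw [sub_eq_zero] at h0
    nth_rewrite 2 [h0]
    exact mul_inv_cancel₀ ha0
  ext r c
  rw [Matrix.smul_apply, smul_eq_mul, Matrix.one_apply]
  rcases eq_or_ne r c with rfl | hrc
  · rw [if_pos rfl, mul_one]
    rcases eq_or_ne r i₀ with rfl | hr
    · rfl
    set d : Fin n → F := Function.update (fun _ => 1) r (-1) with hd
    set W : Matrix (Fin n) (Fin n) F :=
      (Equiv.swap r i₀).permMatrix F * Matrix.diagonal d with hW
    have hP : ((Equiv.swap r i₀).permMatrix F)ᵀ * ((Equiv.swap r i₀).permMatrix F).map (conjHom hF) = 1 := by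
      have e : ((Equiv.swap r i₀).permMatrix F).map (conjHom hF) = (Equiv.swap r i₀).permMatrix F := by
        ext x y
        simp only [Matrix.map_apply, Equiv.Perm.permMatrix, PEquiv.toMatrix_apply]
        split_ifs <;> simp
      rw [e, Matrix.transpose_permMatrix, ← Matrix.permMatrix_mul]
      simp
    have hdn : ∀ k, d k ^ (q + 1) = 1 := by
      intro k
      rcases eq_or_ne k r with rfl | hk
      · simp only [hd, Function.update_self]
        rw [pow_succ, neg_one_pow_q hF]; ring
      · simp [hd, hk]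
    have hWdet : W.det = 1 := by
      rw [hW, Matrix.det_mul, Matrix.det_permutation, Matrix.det_diagonal, hd,
        Finset.prod_update_of_mem (Finset.mem_univ _), Equiv.Perm.sign_swap hr]
      simp
    have h := congrFun (congrFun (hcomm W hWdet (preserves_mul hF hP (diagonal_preserves hF d hdn))) r) i₀
    have hAd : A = Matrix.diagonal fun k => A k k := by
      ext x y
      rcases eq_or_ne x y with rfl | hxy
      · simp
      · simp [hxy, hoff x y hxy]
    rw [hAd, Matrix.diagonal_mul, Matrix.mul_diagonal] at h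
    have hWv : W r i₀ = 1 := by
      rw [hW, Matrix.mul_diagonal, hd, Function.update_of_ne hr.symm, mul_one]
      simp [Equiv.Perm.permMatrix, PEquiv.toMatrix_apply]
    rw [hWv, one_mul, mul_one] at h
    rw [h]
  · rw [if_neg hrc, mul_zero, hoff r c hrc]

theorem card_center_SU (hF : Fintype.card F = q ^ 2) {n : ℕ} (hn : 1 ≤ n) :
    Nat.card (Subgroup.center (Cfsg.SU n F q)) = Nat.gcd n (q + 1) := by
  classical
  have h2 := two_le_q hF
  let i₀ : Fin n := ⟨0, hn⟩
  have hq1 : q + 1 ∣ q ^ 2 - 1 := ⟨q - 1, by rw [← Nat.sq_sub_sq, one_pow]⟩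
  have hk : Nat.card (powMonoidHom (Nat.gcd n (q + 1)) : Fˣ →* Fˣ).ker = Nat.gcd n (q + 1) := by
    rw [IsCyclic.card_powMonoidHom_ker, natCard_units, hF]
    exact Nat.gcd_eq_right ((Nat.gcd_dvd_right _ _).trans hq1)
  refine (Nat.card_congr (Equiv.symm ?_)).trans hk
  have hsc : ∀ c : (powMonoidHom (Nat.gcd n (q + 1)) : Fˣ →* Fˣ).ker,
      ((c.1 : Fˣ) : F) ^ n = 1 ∧ ((c.1 : Fˣ) : F) ^ (q + 1) = 1 := by
    intro c
    have h := MonoidHom.mem_ker.mp c.2
    rw [powMonoidHom_apply] at h
    have hd := orderOf_dvd_of_pow_eq_one h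
    constructor
    · rw [← Units.val_pow_eq_pow_val, Units.val_eq_one]
      exact orderOf_dvd_iff_pow_eq_one.mp (hd.trans (Nat.gcd_dvd_left _ _))
    · rw [← Units.val_pow_eq_pow_val, Units.val_eq_one]
      exact orderOf_dvd_iff_pow_eq_one.mp (hd.trans (Nat.gcd_dvd_right _ _))
  have hsp : ∀ M : Subgroup.center (Cfsg.SU n F q),
      ((M.1.1 : Matrix (Fin n) (Fin n) F) i₀ i₀) ^ n = 1 ∧
      ((M.1.1 : Matrix (Fin n) (Fin n) F) i₀ i₀) ^ (q + 1) = 1 := by
    intro M
    have hs := SU_center_scalar hF M.1 M.2 i₀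
    have h1 := M.1.1.2
    have h3 := congrFun (congrFun ((mem_SU_iff hF _).mp M.1.2) i₀) i₀
    constructor
    · change (M.1.1 : Matrix (Fin n) (Fin n) F).det = 1 at h1
      rw [hs, Matrix.det_smul, Matrix.det_one, Fintype.card_fin, mul_one] at h1
      exact h1
    · rw [hs] at h3
      simp only [Matrix.transpose_smul, Matrix.transpose_one, Matrix.smul_mul, Matrix.one_mul,
        Matrix.smul_apply, Matrix.map_apply, Matrix.one_apply_eq, smul_eq_mul, mul_one,
        conjHom_apply, ← pow_succ'] at h3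
      exact h3
  refine
    { toFun := fun c => ⟨⟨⟨((c.1 : Fˣ) : F) • 1, ?_⟩, ?_⟩, ?_⟩
      invFun := fun M => ⟨Units.mk0 ((M.1.1 : Matrix (Fin n) (Fin n) F) i₀ i₀) ?_, ?_⟩
      left_inv := fun c => Subtype.ext (Units.ext (by simp))
      right_inv := fun M => Subtype.ext (Subtype.ext (Subtype.ext (SU_center_scalar hF M.1 M.2 i₀).symm)) }
  · rw [Matrix.det_smul, Matrix.det_one, Fintype.card_fin, mul_one, (hsc c).1]
  · refine (mem_SU_iff hF _).mpr ?_
    show (((c.1 : Fˣ) : F) • (1 : Matrix (Fin n) (Fin n) F))ᵀ *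
      (((c.1 : Fˣ) : F) • (1 : Matrix (Fin n) (Fin n) F)).map (conjHom hF) = 1
    rw [Matrix.smul_one_eq_diagonal]
    exact diagonal_preserves hF _ fun _ => (hsc c).2
  · rw [Subgroup.mem_center_iff]
    intro g
    apply Subtype.ext
    apply Subtype.ext
    show (g.1 : Matrix (Fin n) (Fin n) F) * (((c.1 : Fˣ) : F) • 1) =
      (((c.1 : Fˣ) : F) • 1) * (g.1 : Matrix (Fin n) (Fin n) F)
    simp
  · intro h
    have := (hsp M).1
    rw [h, zero_pow (by omega)] at this
    exact zero_ne_one this
  · rw [MonoidHom.mem_ker, powMonoidHom_apply]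
    exact pow_gcd_eq_one.mpr ⟨Units.ext (by simpa using (hsp M).1), Units.ext (by simpa using (hsp M).2)⟩

theorem card_center_mul_card_PSU (hF : Fintype.card F = q ^ 2) {n : ℕ} (hn : 1 ≤ n) :
    Nat.gcd n (q + 1) * ((q + 1) * Nat.card (Cfsg.PSU n F q)) = Nat.card (Cfsg.GU n F q) := by
  rw [← card_SU hF hn, Subgroup.card_eq_card_quotient_mul_card_subgroup
    (Subgroup.center (Cfsg.SU n F q)), card_center_SU hF hn]
  ring

end Cfsg.Agent.Lib.Classical
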