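import Cfsg.Agent.Lib.Classical.SympCard

/-!
`Sp_4(2) ≅ S_6`: the action of `S_6` on even subsets modulo the full set.
-/

set_option autoImplicit false

namespace Cfsg.Agent.Lib.Classical

open scoped Matrix

/-- The chosen symplectic basis, as indicator vectors of pairs. -/
def sixBase : Fin 2 ⊕ Fin 2 → Fin 6 → ZMod 2
  | .inl i => if i = 0 then ![1, 1, 0, 0, 0, 0] else ![0, 0, 0, 1, 1, 0]
  | .inr i => if i = 0 then ![0, 1, 1, 0, 0, 0] else ![0, 0, 0, 0, 1, 1]

/-- Coordinates of an even vector modulo the all-one vector. -/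
def sixCoord (x : Fin 6 → ZMod 2) : Fin 2 ⊕ Fin 2 → ZMod 2
  | .inl i => ∑ k, x k * sixBase (.inr i) k
  | .inr i => ∑ k, x k * sixBase (.inl i) k

/-- Sum of the coordinates. -/
def sixParity (x : Fin 6 → ZMod 2) : ZMod 2 := ∑ k, x k

/-- Reconstruction from coordinates. -/
def sixLift (c : Fin 2 ⊕ Fin 2 → ZMod 2) (k : Fin 6) : ZMod 2 := ∑ j, c j * sixBase j k

/-- The matrix of a permutation. -/
def sixMat (π : Equiv.Perm (Fin 6)) : Matrix (Fin 2 ⊕ Fin 2) (Fin 2 ⊕ Fin 2) (ZMod 2) :=
  Matrix.of fun i j => sixCoord (fun k => sixBase j (π.symm k)) i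

theorem six_lift_coord : ∀ x : Fin 6 → ZMod 2, sixParity x = 0 →
    (∀ k, sixLift (sixCoord x) k = x k + (sixLift (sixCoord x) 0 + x 0)) := by decide +kernel

theorem six_base_even : ∀ j, sixParity (sixBase j) = 0 := by decide +kernel

theorem six_base_weight : ∀ x : Fin 6 → ZMod 2, (Finset.univ.filter fun k => x k = 1).card = 2 →
    ∀ j, (∀ i, sixCoord x i = if i = j then 1 else 0) → x = sixBase j := by decide +kernel

theorem six_base_card : ∀ j, (Finset.univ.filter fun k => sixBase j k = 1).card = 2 := by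
  decide +kernel

theorem six_base_separates : ∀ k k' : Fin 6, (∀ j, sixBase j k' = sixBase j k) → k' = k := by
  decide +kernel

/-- The standard form, entrywise. -/
def sixJ : Fin 2 ⊕ Fin 2 → Fin 2 ⊕ Fin 2 → ZMod 2
  | .inl i, .inr j => if i = j then 1 else 0
  | .inr i, .inl j => if i = j then 1 else 0
  | _, _ => 0

theorem sixJ_eq (i j : Fin 2 ⊕ Fin 2) : Matrix.J (Fin 2) (ZMod 2) i j = sixJ i j := by
  rcases i with i | i <;> rcases j with j | j <;>
    simp [Matrix.J, sixJ, Matrix.one_apply, CharTwo.neg_eq]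

theorem six_form : ∀ i j, (∑ k, sixBase i k * sixBase j k) = sixJ i j := by
  decide +kernel

theorem six_pairing : ∀ x : Fin 6 → ZMod 2, sixParity x = 0 → ∀ y : Fin 6 → ZMod 2, sixParity y = 0 →
    (∑ k, x k * y k) = ∑ i, ∑ j, sixCoord x i * sixJ i j * sixCoord y j := by
  decide +kernel

theorem sixCoord_add (x y : Fin 6 → ZMod 2) (i : Fin 2 ⊕ Fin 2) :
    sixCoord (fun k => x k + y k) i = sixCoord x i + sixCoord y i := by
  rcases i with i | i <;> simp [sixCoord, add_mul, Finset.sum_add_distrib]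

theorem sixCoord_const (e : ZMod 2) (i : Fin 2 ⊕ Fin 2) : sixCoord (fun _ => e) i = 0 := by
  revert e i; decide +kernel

theorem sixCoord_sum (c : Fin 2 ⊕ Fin 2 → ZMod 2) (π : Equiv.Perm (Fin 6)) (i : Fin 2 ⊕ Fin 2) :
    sixCoord (fun k => sixLift c (π.symm k)) i = ∑ j, c j * sixCoord (fun k => sixBase j (π.symm k)) i := by
  rcases i with i | i <;>
    (simp only [sixCoord, sixLift, Finset.sum_mul, Finset.mul_sum]
     rw [Finset.sum_comm]
     exact Finset.sum_congr rfl fun _ _ => Finset.sum_congr rfl fun _ _ => by ring)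

theorem sixMat_mul (π τ : Equiv.Perm (Fin 6)) : sixMat (π * τ) = sixMat π * sixMat τ := by
  ext i j
  rw [Matrix.mul_apply]
  set x : Fin 6 → ZMod 2 := fun k => sixBase j (τ.symm k) with hx
  have hp : sixParity x = 0 := by
    rw [sixParity, hx, Equiv.sum_comp τ.symm (sixBase j)]
    exact six_base_even j
  set e := sixLift (sixCoord x) 0 + x 0
  have h := six_lift_coord x hp
  have h1 : (fun k => x (π.symm k)) = fun k => sixLift (sixCoord x) (π.symm k) + e := by
    funext k
    rw [h (π.symm k), add_assoc, CharTwo.add_self_eq_zero, add_zero]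
  show sixCoord (fun k => x (π.symm k)) i = _
  rw [h1, sixCoord_add (fun k => sixLift (sixCoord x) (π.symm k)) (fun _ => e), sixCoord_const,
    add_zero, sixCoord_sum]
  exact Finset.sum_congr rfl fun k _ => mul_comm _ _

theorem sixMat_injective {π : Equiv.Perm (Fin 6)} (h : sixMat π = 1) : π = 1 := by
  have key : ∀ j k, sixBase j (π.symm k) = sixBase j k := by
    intro j k
    refine congrFun (six_base_weight (fun k => sixBase j (π.symm k)) ?_ j fun i => ?_) k
    · refine Eq.trans ?_ (six_base_card j)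
      refine Finset.card_bij (fun k _ => π.symm k) (fun k hk => by simpa using hk)
        (fun _ _ _ _ h => π.symm.injective h) (fun k hk => ⟨π k, by simpa using hk, by simp⟩)
    · exact (congrFun (congrFun h i) j).trans Matrix.one_apply
  apply Equiv.ext
  intro k
  refine six_base_separates k (π k) fun j => ?_
  rw [← key j (π k), Equiv.symm_apply_apply]

theorem sixMat_form (π : Equiv.Perm (Fin 6)) :
    (sixMat π)ᵀ * Matrix.J (Fin 2) (ZMod 2) * sixMat π = Matrix.J (Fin 2) (ZMod 2) := by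
  ext i j
  rw [sixJ_eq, ← six_form i j, ← Equiv.sum_comp π.symm (fun k => sixBase i k * sixBase j k),
    six_pairing _ (by rw [sixParity, Equiv.sum_comp π.symm (sixBase i)]; exact six_base_even i) _
      (by rw [sixParity, Equiv.sum_comp π.symm (sixBase j)]; exact six_base_even j)]
  simp only [Matrix.mul_apply, Matrix.transpose_apply, Finset.sum_mul, sixJ_eq]
  rw [Finset.sum_comm]
  rfl

theorem nonempty_Sp4_two {F : Type*} [Field F] [Fintype F] (hF : Fintype.card F = 2) :
    Nonempty (Matrix.symplecticGroup (Fin 2) F ≃* Equiv.Perm (Fin 6)) := by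
  haveI : Fact (Nat.Prime 2) := ⟨Nat.prime_two⟩
  haveI : CharP F 2 := charP_of_card_eq_prime hF
  let ι : ZMod 2 →+* F := ZMod.castHom (dvd_refl 2) F
  let M : Equiv.Perm (Fin 6) → Matrix (Fin 2 ⊕ Fin 2) (Fin 2 ⊕ Fin 2) F := fun π => (sixMat π).map ι
  have hJ : (Matrix.J (Fin 2) (ZMod 2)).map ι = Matrix.J (Fin 2) F := by
    rw [Matrix.J, Matrix.fromBlocks_map, Matrix.map_zero _ (map_zero ι), Matrix.map_one _ (map_zero ι) (map_one ι)]
    congr 1
    ext i j
    simp [Matrix.one_apply, CharTwo.neg_eq, apply_ite ι]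
  have hmem : ∀ π, M π ∈ Matrix.symplecticGroup (Fin 2) F := by
    intro π
    rw [SymplecticGroup.mem_iff']
    show ((sixMat π).map ι)ᵀ * _ * (sixMat π).map ι = _
    rw [← hJ, ← Matrix.transpose_map, ← Matrix.map_mul, ← Matrix.map_mul, sixMat_form]
  let Φ : Equiv.Perm (Fin 6) →* Matrix.symplecticGroup (Fin 2) F :=
    MonoidHom.mk' (fun π => ⟨M π, hmem π⟩) fun π τ => Subtype.ext (by
      show (sixMat (π * τ)).map ι = (sixMat π).map ι * (sixMat τ).map ι
      rw [sixMat_mul, Matrix.map_mul])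
  refine ⟨(MulEquiv.ofBijective Φ ((Nat.bijective_iff_injective_and_card Φ).mpr ⟨?_, ?_⟩)).symm⟩
  · rw [injective_iff_map_eq_one]
    intro π h
    have h' : (sixMat π).map ι = (1 : Matrix (Fin 2 ⊕ Fin 2) (Fin 2 ⊕ Fin 2) F) :=
      congrArg Subtype.val h
    refine sixMat_injective (Matrix.map_injective (RingHom.injective ι) ?_)
    show (sixMat π).map ι = (1 : Matrix (Fin 2 ⊕ Fin 2) (Fin 2 ⊕ Fin 2) (ZMod 2)).map ι
    rw [h', Matrix.map_one _ (map_zero ι) (map_one ι)]
  · rw [Nat.card_perm, Nat.card_fin, card_sp, hF]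
    simp [Finset.prod_range_succ, Nat.factorial]

end Cfsg.Agent.Lib.Classical
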