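import Mathlib
import Cfsg.Agent.Lib.Classical.SympGroup

/-!
The order of `Sp_{2m}(q)`: symplectic frames are counted pair by pair.
-/

set_option autoImplicit false

namespace Cfsg.Agent.Lib.Classical

open Cfsg.Agent.Lib.Geometry

section Frames

variable {F V : Type*} [Field F] [AddCommGroup V] [Module F V] (B : LinearMap.BilinForm F V)

/-- A partial symplectic frame. -/
def IsSympFrame {j : ℕ} (p : Fin j → V × V) : Prop :=
  ∀ a b, B (p a).1 (p b).1 = 0 ∧ B (p a).2 (p b).2 = 0 ∧
    B (p a).1 (p b).2 = if a = b then 1 else 0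

variable {B}

/-- The values of `B` on the vectors of a partial frame. -/
def frameVal {j : ℕ} (p : Fin j → V × V) : V →ₗ[F] ((Fin j → F) × (Fin j → F)) :=
  LinearMap.prod (LinearMap.pi fun a => B (p a).1) (LinearMap.pi fun a => B (p a).2)

theorem frameVal_apply {j : ℕ} (p : Fin j → V × V) (x : V) :
    frameVal (B := B) p x = (fun a => B (p a).1 x, fun a => B (p a).2 x) := rfl

/-- The combination of frame vectors with prescribed values. -/
def frameSolve {j : ℕ} (p : Fin j → V × V) (st : (Fin j → F) × (Fin j → F)) : V :=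
  ∑ a, st.1 a • (p a).2 - ∑ a, st.2 a • (p a).1

theorem frameVal_frameSolve (hA : B.IsAlt) {j : ℕ} {p : Fin j → V × V} (hp : IsSympFrame B p)
    (st : (Fin j → F) × (Fin j → F)) : frameVal (B := B) p (frameSolve p st) = st := by
  have h21 : ∀ b a, B (p b).2 (p a).1 = if a = b then -1 else 0 := by
    intro b a
    rw [← hA.neg_eq, (hp a b).2.2]
    split_ifs <;> simp
  refine Prod.ext (funext fun b => ?_) (funext fun b => ?_)
  · show B (p b).1 (frameSolve p st) = st.1 b
    rw [frameSolve, map_sub, map_sum, map_sum]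
    simp only [map_smul, smul_eq_mul, (hp b _).1, (hp b _).2.2, mul_zero, Finset.sum_const_zero,
      sub_zero, mul_ite, mul_one, Finset.sum_ite_eq, Finset.mem_univ, if_true]
  · show B (p b).2 (frameSolve p st) = st.2 b
    rw [frameSolve, map_sub, map_sum, map_sum]
    simp only [map_smul, smul_eq_mul, (hp b _).2.1, h21, mul_zero, Finset.sum_const_zero,
      mul_ite, mul_neg, mul_one, Finset.sum_ite_eq', Finset.mem_univ, if_true, zero_sub, neg_neg]

theorem frameSolve_perp {j : ℕ} {p : Fin j → V × V} {u : V}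
    (hu : frameVal (B := B) p u = 0) (hA : B.IsAlt) (st : (Fin j → F) × (Fin j → F)) :
    B u (frameSolve p st) = 0 := by
  have h1 : ∀ a, B u (p a).1 = 0 := fun a => by
    rw [← hA.neg_eq, show B (p a).1 u = 0 from congrFun (congrArg Prod.fst hu) a, neg_zero]
  have h2 : ∀ a, B u (p a).2 = 0 := fun a => by
    rw [← hA.neg_eq, show B (p a).2 u = 0 from congrFun (congrArg Prod.snd hu) a, neg_zero]
  rw [frameSolve, map_sub, map_sum, map_sum]
  simp [h1, h2]

variable [Fintype F] [Finite V]

theorem card_ker_mul_card_range {W : Type*} [AddCommGroup W] [Module F W] (f : V →ₗ[F] W)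
    (hf : Function.Surjective f) : Nat.card (LinearMap.ker f) * Nat.card W = Nat.card V := by
  have h := (f.toAddMonoidHom.ker).card_mul_index
  rw [AddSubgroup.index_ker, AddMonoidHom.range_eq_top.mpr hf, AddSubgroup.card_top] at h
  exact h

theorem card_perp (hA : B.IsAlt) {j : ℕ} {p : Fin j → V × V} (hp : IsSympFrame B p) :
    Nat.card (LinearMap.ker (frameVal (B := B) p)) * Fintype.card F ^ (2 * j) = Nat.card V := by
  rw [← card_ker_mul_card_range (frameVal (B := B) p) fun st => ⟨_, frameVal_frameSolve hA hp st⟩,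
    Nat.card_prod, Nat.card_fun, Nat.card_fin, Nat.card_eq_fintype_card (α := F), two_mul, pow_add]

theorem card_pairs (hA : B.IsAlt) (hB : B.Nondegenerate) {j : ℕ} {p : Fin j → V × V}
    (hp : IsSympFrame B p) :
    Fintype.card F * Nat.card {uv : V × V // frameVal (B := B) p uv.1 = 0 ∧
      frameVal (B := B) p uv.2 = 0 ∧ B uv.1 uv.2 = 1} =
      (Nat.card (LinearMap.ker (frameVal (B := B) p)) - 1) *
        Nat.card (LinearMap.ker (frameVal (B := B) p)) := by
  classical
  set W := LinearMap.ker (frameVal (B := B) p) with hW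
  haveI := Fintype.ofFinite W
  have e : {uv : V × V // frameVal (B := B) p uv.1 = 0 ∧
      frameVal (B := B) p uv.2 = 0 ∧ B uv.1 uv.2 = 1} ≃ Σ u : {u : W // u ≠ 0}, {v : W // B u.1.1 v.1 = 1} :=
    { toFun := fun x => ⟨⟨⟨x.1.1, x.2.1⟩, fun h => by
          have h1 : x.1.1 = 0 := congrArg Subtype.val h
          have h3 := x.2.2.2
          rw [h1, map_zero, LinearMap.zero_apply] at h3
          exact zero_ne_one h3⟩, ⟨⟨x.1.2, x.2.2.1⟩, x.2.2.2⟩⟩
      invFun := fun y => ⟨(y.1.1.1, y.2.1.1), y.1.1.2, y.2.1.2, y.2.2⟩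
      left_inv := fun x => rfl
      right_inv := fun y => rfl }
  rw [Nat.card_congr e, Nat.card_sigma, Finset.mul_sum]
  have key : ∀ u : {u : W // u ≠ 0},
      Fintype.card F * Nat.card {v : W // B u.1.1 v.1 = 1} = Nat.card W := by
    intro u
    let φ : W →ₗ[F] F := (B u.1.1).comp W.subtype
    obtain ⟨v₁, hv₁⟩ : ∃ v : W, φ v = 1 := by
      obtain ⟨v₀, hv₀⟩ : ∃ v, B u.1.1 v ≠ 0 := by
        by_contra hcon
        push Not at hcon
        exact u.2 (Subtype.ext (hB.1 _ hcon))
      refine ⟨⟨(B u.1.1 v₀)⁻¹ • (v₀ - frameSolve p (frameVal (B := B) p v₀)), ?_⟩, ?_⟩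
      · rw [LinearMap.mem_ker, map_smul, map_sub, frameVal_frameSolve hA hp, sub_self, smul_zero]
      · show B u.1.1 ((B u.1.1 v₀)⁻¹ • (v₀ - frameSolve p (frameVal (B := B) p v₀))) = 1
        rw [map_smul, map_sub, frameSolve_perp u.1.2 hA, sub_zero, smul_eq_mul, inv_mul_cancel₀ hv₀]
    have hsurj : Function.Surjective φ := fun c => ⟨c • v₁, by rw [map_smul, hv₁, smul_eq_mul, mul_one]⟩
    rw [← card_ker_mul_card_range φ hsurj, Nat.card_eq_fintype_card (α := F), mul_comm]
    congr 1
    exact Nat.card_congr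
      { toFun := fun v => ⟨v.1 - v₁, by rw [LinearMap.mem_ker, map_sub, hv₁, sub_eq_zero]; exact v.2⟩
        invFun := fun w => ⟨w.1 + v₁, by
          show φ (w.1 + v₁) = 1
          rw [map_add, hv₁, LinearMap.mem_ker.mp w.2, zero_add]⟩
        left_inv := fun v => Subtype.ext (by simp)
        right_inv := fun w => Subtype.ext (by simp) }
  rw [Finset.sum_congr rfl fun u _ => key u, Finset.sum_const, Finset.card_univ, smul_eq_mul,
    Fintype.card_subtype_compl, Fintype.card_subtype_eq, Nat.card_eq_fintype_card (α := W)]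

theorem isSympFrame_snoc (hA : B.IsAlt) {j : ℕ} (p : Fin j → V × V) (x : V × V) :
    IsSympFrame B (Fin.snoc p x : Fin (j + 1) → V × V) ↔
      IsSympFrame B p ∧ frameVal (B := B) p x.1 = 0 ∧ frameVal (B := B) p x.2 = 0 ∧ B x.1 x.2 = 1 := by
  constructor
  · intro h
    refine ⟨fun a b => ?_, ?_, ?_, ?_⟩
    · simpa using h a.castSucc b.castSucc
    · refine Prod.ext (funext fun a => ?_) (funext fun a => ?_)
      · simpa [frameVal_apply] using (h a.castSucc (Fin.last j)).1
      · have := (h (Fin.last j) a.castSucc).2.2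
        rw [if_neg (Fin.castSucc_lt_last a).ne', Fin.snoc_last, Fin.snoc_castSucc] at this
        show B (p a).2 x.1 = 0
        rw [← hA.neg_eq, this, neg_zero]
    · refine Prod.ext (funext fun a => ?_) (funext fun a => ?_)
      · have := (h a.castSucc (Fin.last j)).2.2
        rw [if_neg (Fin.castSucc_lt_last a).ne, Fin.snoc_last, Fin.snoc_castSucc] at this
        exact this
      · simpa [frameVal_apply] using (h a.castSucc (Fin.last j)).2.1
    · simpa using (h (Fin.last j) (Fin.last j)).2.2
  · rintro ⟨hp, h1, h2, h12⟩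
    have h11 : ∀ a, B (p a).1 x.1 = 0 := fun a => congrFun (congrArg Prod.fst h1) a
    have h21 : ∀ a, B (p a).2 x.1 = 0 := fun a => congrFun (congrArg Prod.snd h1) a
    have h1' : ∀ a, B (p a).1 x.2 = 0 := fun a => congrFun (congrArg Prod.fst h2) a
    have h22 : ∀ a, B (p a).2 x.2 = 0 := fun a => congrFun (congrArg Prod.snd h2) a
    intro a b
    induction a using Fin.lastCases with
    | last =>
      induction b using Fin.lastCases with
      | last => simp [hA x.1, hA x.2, h12]
      | cast b =>
        simp only [Fin.snoc_last, Fin.snoc_castSucc, if_neg (Fin.castSucc_lt_last b).ne']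
        refine ⟨?_, ?_, ?_⟩
        · rw [← hA.neg_eq, h11, neg_zero]
        · rw [← hA.neg_eq, h22, neg_zero]
        · rw [← hA.neg_eq, h21, neg_zero]
    | cast a =>
      induction b using Fin.lastCases with
      | last =>
        simp only [Fin.snoc_last, Fin.snoc_castSucc, if_neg (Fin.castSucc_lt_last a).ne]
        exact ⟨h11 a, h22 a, h1' a⟩
      | cast b => simpa using hp a b

/-- The number of partial frames. -/
theorem card_frames (hA : B.IsAlt) (hB : B.Nondegenerate) {m : ℕ}
    (hV : Nat.card V = Fintype.card F ^ (2 * m)) : ∀ j ≤ m,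
    Nat.card {p : Fin j → V × V // IsSympFrame B p} =
      ∏ i ∈ Finset.range j,
        ((Fintype.card F ^ (2 * (m - i)) - 1) * Fintype.card F ^ (2 * (m - i) - 1)) := by
  intro j
  induction j with
  | zero =>
    intro _
    rw [Finset.range_zero, Finset.prod_empty, Nat.card_eq_one_iff_exists]
    exact ⟨⟨Fin.elim0, fun a => a.elim0⟩, fun p => Subtype.ext (funext fun a => a.elim0)⟩
  | succ j ih =>
    intro hj
    classical
    haveI := Fintype.ofFinite {p : Fin j → V × V // IsSympFrame B p}
    have e : {p : Fin (j + 1) → V × V // IsSympFrame B p} ≃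
        Σ p : {p : Fin j → V × V // IsSympFrame B p}, {uv : V × V // frameVal (B := B) p.1 uv.1 = 0 ∧
          frameVal (B := B) p.1 uv.2 = 0 ∧ B uv.1 uv.2 = 1} :=
      { toFun := fun p => ⟨⟨Fin.init p.1, ((isSympFrame_snoc hA _ (p.1 (Fin.last j))).mp
            (by rw [Fin.snoc_init_self]; exact p.2)).1⟩,
          ⟨p.1 (Fin.last j), ((isSympFrame_snoc hA _ (p.1 (Fin.last j))).mp
            (by rw [Fin.snoc_init_self]; exact p.2)).2⟩⟩
        invFun := fun y => ⟨Fin.snoc y.1.1 y.2.1, (isSympFrame_snoc hA _ _).mpr ⟨y.1.2, y.2.2⟩⟩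
        left_inv := fun p => Subtype.ext (Fin.snoc_init_self _)
        right_inv := fun ⟨⟨q, hq⟩, ⟨u, hu⟩⟩ => by
          refine Sigma.subtype_ext (Subtype.ext ?_) ?_
          · exact Fin.init_snoc (α := fun _ => V × V) _ _
          · exact Fin.snoc_last (α := fun _ => V × V) _ _ }
    rw [Nat.card_congr e, Nat.card_sigma, Finset.prod_range_succ, ← ih (by omega),
      Nat.card_eq_fintype_card (α := {p : Fin j → V × V // IsSympFrame B p}), ← Finset.card_univ,
      ← smul_eq_mul, ← Finset.sum_const]
    refine Finset.sum_congr rfl fun p _ => ?_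
    have hq : 0 < Fintype.card F := Fintype.card_pos
    have hW : Nat.card (LinearMap.ker (frameVal (B := B) p.1)) =
        Fintype.card F ^ (2 * (m - j)) := by
      have h := card_perp hA p.2
      rw [hV, show 2 * m = 2 * (m - j) + 2 * j by omega, pow_add] at h
      exact Nat.eq_of_mul_eq_mul_right (pow_pos hq _) h
    have h := card_pairs hA hB p.2
    rw [hW] at h
    refine Nat.eq_of_mul_eq_mul_left hq (h.trans ?_)
    rw [show Fintype.card F * ((Fintype.card F ^ (2 * (m - j)) - 1) *
      Fintype.card F ^ (2 * (m - j) - 1)) = (Fintype.card F ^ (2 * (m - j)) - 1) *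
      Fintype.card F ^ (2 * (m - j) - 1 + 1) by rw [pow_succ]; ring,
      show 2 * (m - j) - 1 + 1 = 2 * (m - j) by omega]

end Frames

open scoped Matrix

/-- The order of `Sp_{2m}(q)`. -/
theorem card_sp {F : Type*} [Field F] [Fintype F] (m : ℕ) :
    Nat.card (Matrix.symplecticGroup (Fin m) F) = Fintype.card F ^ (m ^ 2) *
      ∏ i ∈ Finset.range m, (Fintype.card F ^ (2 * (i + 1)) - 1) := by
  have hmem : ∀ A : Matrix (Fin m ⊕ Fin m) (Fin m ⊕ Fin m) F, A ∈ Matrix.symplecticGroup (Fin m) F ↔
      ∀ k l, Cfsg.sympForm m F (fun r => A r k) (fun r => A r l) = Matrix.J (Fin m) F k l := by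
    intro A
    rw [SymplecticGroup.mem_iff', ← Matrix.ext_iff]
    refine forall_congr' fun k => forall_congr' fun l => ?_
    rw [Cfsg.sympForm, Matrix.dotProduct_mulVec, Matrix.mul_apply]
    rfl
  have e : Matrix.symplecticGroup (Fin m) F ≃
      {p : Fin m → (Fin m ⊕ Fin m → F) × (Fin m ⊕ Fin m → F) // IsSympFrame (sympBilin m F) p} :=
    { toFun := fun A => ⟨fun a => (fun r => A.1 r (Sum.inr a), fun r => A.1 r (Sum.inl a)), fun a b => by
        simp only [sympBilin_apply]
        refine ⟨?_, ?_, ?_⟩ <;> rw [(hmem A.1).mp A.2] <;> simp [Matrix.J, Matrix.one_apply]⟩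
      invFun := fun p => ⟨Matrix.of fun r k => k.elim (fun a => (p.1 a).2 r) (fun a => (p.1 a).1 r), by
        rw [hmem]
        rintro (a | a) (b | b)
        · exact (by simpa [sympBilin_apply, Matrix.J] using (p.2 a b).2.1)
        · have h := (p.2 b a).2.2
          rw [sympBilin_apply, sympForm_swap] at h
          show Cfsg.sympForm m F (p.1 a).2 (p.1 b).1 = _
          rw [neg_eq_iff_eq_neg.mp h]
          simp [Matrix.J, Matrix.one_apply, eq_comm]
        · have h := (p.2 a b).2.2
          rw [sympBilin_apply] at h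
          show Cfsg.sympForm m F (p.1 a).1 (p.1 b).2 = _
          rw [h]
          simp [Matrix.J, Matrix.one_apply]
        · exact (by simpa [sympBilin_apply, Matrix.J] using (p.2 a b).1)⟩
      left_inv := fun A => Subtype.ext (Matrix.ext fun r k => by cases k <;> rfl)
      right_inv := fun p => Subtype.ext rfl }
  rw [Nat.card_congr e, card_frames sympBilin_isAlt (sympBilin_nondegenerate F m) (m := m) (by
      rw [Nat.card_fun, Nat.card_sum, Nat.card_fin, two_mul, Nat.card_eq_fintype_card (α := F)]) m le_rfl,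
    ← Finset.prod_range_reflect]
  have : ∀ i ∈ Finset.range m,
      (Fintype.card F ^ (2 * (m - (m - 1 - i))) - 1) * Fintype.card F ^ (2 * (m - (m - 1 - i)) - 1) =
      (Fintype.card F ^ (2 * (i + 1)) - 1) * Fintype.card F ^ (2 * i + 1) := by
    intro i hi
    have := Finset.mem_range.mp hi
    rw [show m - (m - 1 - i) = i + 1 by omega, show 2 * (i + 1) - 1 = 2 * i + 1 by omega]
  rw [Finset.prod_congr rfl this, Finset.prod_mul_distrib, Finset.prod_pow_eq_pow_sum, mul_comm]
  congr 2
  clear e hmem this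
  induction m with
  | zero => rfl
  | succ k ih => rw [Finset.sum_range_succ, ih]; ring

/-- The order of `PSp_{2m}(q)`. -/
theorem card_psp_mul {F : Type*} [Field F] [Fintype F] {m : ℕ} (hm : 1 ≤ m) :
    Nat.gcd 2 (Fintype.card F - 1) * Nat.card (Cfsg.PSp m F) = Fintype.card F ^ (m ^ 2) *
      ∏ i ∈ Finset.range m, (Fintype.card F ^ (2 * (i + 1)) - 1) := by
  rw [← card_sp, ← card_center_sp hm, mul_comm]
  exact (Subgroup.card_eq_card_quotient_mul_card_subgroup _).symm

end Cfsg.Agent.Lib.Classical
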