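import Mathlib
import Cfsg.Prelude.Def_Classical
import Cfsg.Agent.Lib.Geometry.WittQuadratic
import Cfsg.Agent.Lib.Classical.OrthTwo

/-!
Orders of orthogonal groups over finite fields.
-/

set_option autoImplicit false

namespace Cfsg.Agent.Lib.Classical

open QuadraticMap (polarBilin)
open scoped Matrix
open Cfsg.Agent.Lib.Geometry (quadIsometries mem_quadIsometries quad_add quad_smul quad_polar_self quad_polar_comm quad_polar_map)

variable {F : Type*} [Field F] {W : Type*} [AddCommGroup W] [Module F W]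

/-- A hyperbolic plane added to a quadratic form. -/
noncomputable def hyp (Q₀ : QuadraticForm F W) : QuadraticForm F (F × F × W) :=
  QuadraticMap.linMulLin (LinearMap.fst F F (F × W))
      ((LinearMap.fst F F W).comp (LinearMap.snd F F (F × W))) +
    Q₀.comp ((LinearMap.snd F F W).comp (LinearMap.snd F F (F × W)))

theorem hyp_apply (Q₀ : QuadraticForm F W) (p : F × F × W) :
    hyp Q₀ p = p.1 * p.2.1 + Q₀ p.2.2 := rfl

theorem polarBilin_hyp (Q₀ : QuadraticForm F W) (p r : F × F × W) :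
    polarBilin (hyp Q₀) p r = p.1 * r.2.1 + p.2.1 * r.1 + polarBilin Q₀ p.2.2 r.2.2 := by
  simp only [QuadraticMap.polarBilin_apply_apply, QuadraticMap.polar, hyp_apply, Prod.fst_add,
    Prod.snd_add]
  ring

theorem hyp_nondegenerate (Q₀ : QuadraticForm F W) (h : (polarBilin Q₀).Nondegenerate) :
    (polarBilin (hyp Q₀)).Nondegenerate := by
  have key : ∀ p, (∀ r, polarBilin (hyp Q₀) p r = 0) → p = 0 := by
    intro p hp
    refine Prod.ext ?_ (Prod.ext ?_ ?_)
    · have h' := hp (0, 1, 0)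
      rw [polarBilin_hyp] at h'
      simpa using h'
    · have h' := hp (1, 0, 0)
      rw [polarBilin_hyp] at h'
      simpa using h'
    · refine h.1 p.2.2 fun y => ?_
      have h' := hp (0, 0, y)
      rw [polarBilin_hyp] at h'
      simpa using h'
  exact ⟨key, fun y hy => key y fun r => by rw [quad_polar_comm]; exact hy r⟩

theorem card_mul_eq (F : Type*) [Field F] [Fintype F] [DecidableEq F] (c : F) :
    Nat.card {p : F × F // p.1 * p.2 = c} =
      (if c = 0 then Fintype.card F else 0) + (Fintype.card F - 1) := by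
  have e1 : {p : {p : F × F // p.1 * p.2 = c} // p.1.1 ≠ 0} ≃ Fˣ :=
    { toFun := fun p => Units.mk0 p.1.1.1 p.2
      invFun := fun u => ⟨⟨((u : F), (u⁻¹ : Fˣ) * c), Units.mul_inv_cancel_left u c⟩, u.ne_zero⟩
      left_inv := fun p => by
        obtain ⟨⟨⟨a, b⟩, hab⟩, ha⟩ := p
        simp only at hab ha
        refine Subtype.ext (Subtype.ext (Prod.ext rfl ?_))
        show (↑(Units.mk0 a ha)⁻¹ : F) * c = b
        rw [← hab]
        exact Units.inv_mul_cancel_left (Units.mk0 a ha) b
      right_inv := fun u => Units.ext rfl }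
  have e2 : Nat.card {p : {p : F × F // p.1 * p.2 = c} // ¬ p.1.1 ≠ 0} =
      if c = 0 then Fintype.card F else 0 := by
    split_ifs with hc
    · rw [← Nat.card_eq_fintype_card]
      exact Nat.card_congr
        { toFun := fun p => p.1.1.2
          invFun := fun b => ⟨⟨(0, b), by simp [hc]⟩, by simp⟩
          left_inv := fun p => by
            obtain ⟨⟨⟨a, b⟩, hab⟩, ha⟩ := p
            simp only [not_not] at ha
            subst ha
            rfl
          right_inv := fun b => rfl }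
    · haveI : IsEmpty {p : {p : F × F // p.1 * p.2 = c} // ¬ p.1.1 ≠ 0} := ⟨fun p => hc (by
        have h := p.1.2
        rw [not_not.mp p.2, zero_mul] at h
        exact h.symm)⟩
      exact Nat.card_of_isEmpty
  rw [← Nat.card_congr (Equiv.sumCompl fun p : {p : F × F // p.1 * p.2 = c} => p.1.1 ≠ 0),
    Nat.card_sum, Nat.card_congr e1, e2, natCard_units, add_comm]

section Fintype

variable [Fintype F] [Finite W]

/-- Number of zeros. -/
noncomputable def zeroCount (Q : QuadraticForm F W) : ℕ := Nat.card {w : W // Q w = 0}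

theorem zeroCount_hyp (Q₀ : QuadraticForm F W) :
    zeroCount (hyp Q₀) = Fintype.card F * zeroCount Q₀ + (Fintype.card F - 1) * Nat.card W := by
  classical
  haveI : Fintype W := Fintype.ofFinite W
  have e : {p : F × F × W // hyp Q₀ p = 0} ≃ Σ w : W, {x : F × F // x.1 * x.2 = -Q₀ w} :=
    { toFun := fun p => ⟨p.1.2.2, ⟨(p.1.1, p.1.2.1), eq_neg_of_add_eq_zero_left p.2⟩⟩
      invFun := fun x => ⟨(x.2.1.1, x.2.1.2, x.1), by
        rw [hyp_apply]; show x.2.1.1 * x.2.1.2 + Q₀ x.1 = 0; rw [x.2.2, neg_add_cancel]⟩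
      left_inv := fun p => rfl
      right_inv := fun x => rfl }
  rw [zeroCount, Nat.card_congr e, Nat.card_sigma, Finset.sum_congr rfl fun w _ => card_mul_eq F _,
    Finset.sum_add_distrib, Finset.sum_const, Finset.card_univ, smul_eq_mul, zeroCount]
  simp only [neg_eq_zero, Nat.card_eq_fintype_card, Fintype.card_subtype, Finset.sum_ite,
    Finset.sum_const, smul_eq_mul, mul_zero, add_zero]
  ring

/-- Singular vectors paired to `1` with a given singular vector. -/
theorem card_partner (Q₀ : QuadraticForm F W) (h₀ : (polarBilin Q₀).Nondegenerate)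
    (u : F × F × W) (hu : hyp Q₀ u = 0) (hu0 : u ≠ 0) :
    Nat.card {v : F × F × W // hyp Q₀ v = 0 ∧ polarBilin (hyp Q₀) u v = 1} = Nat.card W := by
  classical
  set Q := hyp Q₀ with hQdef
  obtain ⟨r, hr⟩ : ∃ r, polarBilin Q u r ≠ 0 := by
    by_contra h
    push Not at h
    exact hu0 ((hyp_nondegenerate Q₀ h₀).1 u h)
  set v₀ := (polarBilin Q u r)⁻¹ • r with hv₀def
  have hv₀ : polarBilin Q u v₀ = 1 := by
    rw [hv₀def, map_smul, smul_eq_mul, inv_mul_cancel₀ hr]
  have huu : polarBilin Q u u = 0 := by rw [quad_polar_self, hu, mul_zero]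
  have hshift : ∀ v t, polarBilin Q u v = 1 →
      Q (v + t • u) = Q v + t ∧ polarBilin Q u (v + t • u) = 1 := by
    intro v t hv
    constructor
    · rw [quad_add, quad_smul, hu, map_smul, quad_polar_comm Q v u, hv, smul_eq_mul]; ring
    · rw [map_add, map_smul, huu, hv, smul_zero, add_zero]
  let e1 : {v : F × F × W // Q v = 0 ∧ polarBilin Q u v = 1} × F ≃
      {v : F × F × W // polarBilin Q u v = 1} :=
    { toFun := fun x => ⟨x.1.1 + x.2 • u, (hshift _ _ x.1.2.2).2⟩
      invFun := fun v => ⟨⟨v.1 + (-Q v.1) • u,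
        by rw [(hshift _ _ v.2).1, add_neg_cancel], (hshift _ _ v.2).2⟩, Q v.1⟩
      left_inv := fun x => by
        obtain ⟨⟨v, hv1, hv2⟩, t⟩ := x
        have ht : Q (v + t • u) = t := by rw [(hshift v t hv2).1, hv1, zero_add]
        refine Prod.ext (Subtype.ext ?_) ht
        show v + t • u + (-Q (v + t • u)) • u = v
        rw [ht, neg_smul, add_neg_cancel_right]
      right_inv := fun v => Subtype.ext (by
        show v.1 + (-Q v.1) • u + Q v.1 • u = v.1
        rw [neg_smul, neg_add_cancel_right]) }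
  let e2 : {v : F × F × W // polarBilin Q u v = 1} × F ≃ F × F × W :=
    { toFun := fun x => x.1.1 + (x.2 - 1) • v₀
      invFun := fun v => (⟨v + (1 - polarBilin Q u v) • v₀, by
        rw [map_add, map_smul, hv₀, smul_eq_mul, mul_one, add_sub_cancel]⟩, polarBilin Q u v)
      left_inv := fun x => by
        obtain ⟨⟨v, hv⟩, t⟩ := x
        have ht : polarBilin Q u (v + (t - 1) • v₀) = t := by
          rw [map_add, map_smul, hv₀, hv, smul_eq_mul, mul_one, add_sub_cancel]
        refine Prod.ext (Subtype.ext ?_) ht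
        show v + (t - 1) • v₀ + (1 - polarBilin Q u (v + (t - 1) • v₀)) • v₀ = v
        rw [ht]
        module
      right_inv := fun v => by
        show v + (1 - polarBilin Q u v) • v₀ + (polarBilin Q u v - 1) • v₀ = v
        module }
  have h := Nat.card_congr ((e1.prodCongr (Equiv.refl F)).trans e2)
  rw [Nat.card_prod, Nat.card_prod, Nat.card_prod, Nat.card_prod] at h
  have hq : 0 < Nat.card F * Nat.card F := Nat.mul_pos Nat.card_pos Nat.card_pos
  exact Nat.eq_of_mul_eq_mul_right hq (by linarith)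

/-- The stabiliser of the standard hyperbolic pair. -/
theorem card_pairStab (Q₀ : QuadraticForm F W) :
    Nat.card {g : quadIsometries (hyp Q₀) //
      g.1 (1, 0, 0) = (1, 0, 0) ∧ g.1 (0, 1, 0) = (0, 1, 0)} = Nat.card (quadIsometries Q₀) := by
  have hperp : ∀ g : {g : quadIsometries (hyp Q₀) //
      g.1 (1, 0, 0) = (1, 0, 0) ∧ g.1 (0, 1, 0) = (0, 1, 0)},
      ∀ w, g.1.1 (0, 0, w) = (0, 0, (g.1.1 (0, 0, w)).2.2) := by
    intro g w
    have hb := fun x => quad_polar_map (hyp Q₀) (T := g.1.1.toLinearMap) g.1.2 x (0, 0, w)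
    have h1 := hb (1, 0, 0)
    have h2 := hb (0, 1, 0)
    simp only [LinearEquiv.coe_coe, g.2.1, g.2.2, polarBilin_hyp] at h1 h2
    simp at h1 h2
    exact Prod.ext h2 (Prod.ext h1 rfl)
  have hdec : ∀ p : F × F × W,
      p = p.1 • (1, 0, 0) + p.2.1 • (0, 1, 0) + (0, 0, p.2.2) := fun p => by
    ext <;> simp
  have happ : ∀ (g : {g : quadIsometries (hyp Q₀) //
      g.1 (1, 0, 0) = (1, 0, 0) ∧ g.1 (0, 1, 0) = (0, 1, 0)}) (p : F × F × W),
      g.1.1 p = (p.1, p.2.1, (g.1.1 (0, 0, p.2.2)).2.2) := by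
    intro g p
    conv_lhs => rw [hdec p, map_add, map_add, map_smul, map_smul, g.2.1, g.2.2, hperp g]
    ext <;> simp
  let sym : ∀ g : {g : quadIsometries (hyp Q₀) //
      g.1 (1, 0, 0) = (1, 0, 0) ∧ g.1 (0, 1, 0) = (0, 1, 0)},
      {g : quadIsometries (hyp Q₀) //
      g.1 (1, 0, 0) = (1, 0, 0) ∧ g.1 (0, 1, 0) = (0, 1, 0)} := fun g =>
    ⟨g.1⁻¹, g.1.1.symm_apply_eq.mpr g.2.1.symm, g.1.1.symm_apply_eq.mpr g.2.2.symm⟩
  have hcancel : ∀ g w, ((sym g).1.1 (0, 0, (g.1.1 (0, 0, w)).2.2)).2.2 = w := fun g w => by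
    rw [← hperp g w]
    show (g.1.1.symm (g.1.1 (0, 0, w))).2.2 = w
    rw [LinearEquiv.symm_apply_apply]
  have hsymsym : ∀ g, sym (sym g) = g := fun g => Subtype.ext (inv_inv g.1)
  refine Nat.card_congr
    { toFun := fun g => ⟨
        { toFun := fun w => (g.1.1 (0, 0, w)).2.2
          map_add' := fun x y => by
            rw [← Prod.snd_add, ← Prod.snd_add, ← map_add]; simp
          map_smul' := fun c x => by
            rw [RingHom.id_apply, ← Prod.smul_snd, ← Prod.smul_snd, ← map_smul]; simp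
          invFun := fun w => ((sym g).1.1 (0, 0, w)).2.2
          left_inv := hcancel g
          right_inv := fun w => by
            have h := hcancel (sym g) w
            rwa [hsymsym] at h }, fun w => ?_⟩
      invFun := fun h => ⟨⟨(LinearEquiv.refl F F).prodCongr ((LinearEquiv.refl F F).prodCongr h.1),
        fun p => ?_⟩, ?_, ?_⟩
      left_inv := fun g => Subtype.ext (Subtype.ext (LinearEquiv.ext fun p => (happ g p).symm))
      right_inv := fun h => Subtype.ext (LinearEquiv.ext fun w => rfl) }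
  · have h : hyp Q₀ (g.1.1 (0, 0, w)) = hyp Q₀ (0, 0, w) := g.1.2 (0, 0, w)
    rw [hperp g w, hyp_apply, hyp_apply] at h
    simpa using h
  · show hyp Q₀ (p.1, p.2.1, h.1 p.2.2) = hyp Q₀ p
    rw [hyp_apply, hyp_apply, mem_quadIsometries.mp h.2]
  · show ((1 : F), (0 : F), h.1 0) = _
    rw [map_zero]
  · show ((0 : F), (1 : F), h.1 0) = _
    rw [map_zero]

/-- The recursion for the orders. -/
theorem card_quadIsometries_hyp [FiniteDimensional F W] (Q₀ : QuadraticForm F W)
    (h₀ : (polarBilin Q₀).Nondegenerate) :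
    Nat.card (quadIsometries (hyp Q₀)) =
      (zeroCount (hyp Q₀) - 1) * Nat.card W * Nat.card (quadIsometries Q₀) := by
  classical
  set Q := hyp Q₀ with hQdef
  let Pairs := Σ u : {u : F × F × W // Q u = 0 ∧ u ≠ 0},
    {v : F × F × W // Q v = 0 ∧ polarBilin Q u.1 v = 1}
  have hpair : Nat.card Pairs = (zeroCount Q - 1) * Nat.card W := by
    haveI : Fintype W := Fintype.ofFinite W
    rw [Nat.card_sigma, Finset.sum_congr rfl fun u _ => card_partner Q₀ h₀ u.1 u.2.1 u.2.2,
      Finset.sum_const, Finset.card_univ, smul_eq_mul]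
    congr 1
    rw [← Fintype.card_congr (Equiv.subtypeSubtypeEquivSubtypeInter (fun u => Q u = 0) fun u => u ≠ 0),
      Fintype.card_subtype_compl (fun u : {u // Q u = 0} => (u : F × F × W) = 0), zeroCount,
      Nat.card_eq_fintype_card]
    congr 1
    rw [Fintype.card_eq_one_iff]
    exact ⟨⟨⟨0, map_zero Q⟩, rfl⟩, fun x => Subtype.ext (Subtype.ext x.2)⟩
  have hext : ∀ p : Pairs, ∃ g : quadIsometries Q,
      g.1 (1, 0, 0) = p.1.1 ∧ g.1 (0, 1, 0) = p.2.1 := by
    rintro ⟨⟨u, hu, hu0⟩, ⟨v, hv, huv⟩⟩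
    let X : Submodule F (F × F × W) := Submodule.span F {(1, 0, 0), (0, 1, 0)}
    let L : (F × F × W) →ₗ[F] (F × F × W) :=
      (LinearMap.fst F F (F × W)).smulRight u +
        ((LinearMap.fst F F W).comp (LinearMap.snd F F (F × W))).smulRight v
    have hL : ∀ p, L p = p.1 • u + p.2.1 • v := fun p => rfl
    have hX : ∀ x : X, (x : F × F × W).2.2 = 0 := by
      intro x
      obtain ⟨s, t, hst⟩ := Submodule.mem_span_pair.mp x.2
      rw [← hst]; simp
    obtain ⟨g, hg, hgX⟩ := Geometry.witt_quadratic Q (hyp_nondegenerate Q₀ h₀) X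
      (L.comp X.subtype)
      (by
        rw [injective_iff_map_eq_zero]
        intro x hx
        replace hx : L x.1 = 0 := hx
        rw [hL] at hx
        have h1 := congrArg (polarBilin Q u) hx
        have h2 := congrArg (polarBilin Q v) hx
        rw [map_add, map_smul, map_smul, quad_polar_self, hu, huv, map_zero] at h1
        rw [map_add, map_smul, map_smul, quad_polar_self, hv, quad_polar_comm Q v u, huv,
          map_zero] at h2
        simp at h1 h2
        exact Subtype.ext (Prod.ext h2 (Prod.ext h1 (hX x))))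
      (by
        intro x
        show Q (L x.1) = Q x.1
        rw [hL, quad_add, quad_smul, quad_smul, hu, hv, map_smul, map_smul, LinearMap.smul_apply,
          huv, hyp_apply, hX x, map_zero]
        simp only [smul_eq_mul]
        ring)
    refine ⟨⟨g, hg⟩, ?_, ?_⟩
    · rw [show g (1, 0, 0) = L (1, 0, 0) from hgX ⟨_, Submodule.subset_span (by simp)⟩, hL]
      simp
    · rw [show g (0, 1, 0) = L (0, 1, 0) from hgX ⟨_, Submodule.subset_span (by simp)⟩, hL]
      simp
  choose gp hgp1 hgp2 using hext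
  let pairOf : quadIsometries Q → Pairs := fun g =>
    ⟨⟨g.1 (1, 0, 0), by rw [mem_quadIsometries.mp g.2, hyp_apply]; simp,
      fun h => by simpa using congrArg (fun x : F × F × W => x.1) ((map_eq_zero_iff _ g.1.injective).mp h)⟩,
     ⟨g.1 (0, 1, 0), by rw [mem_quadIsometries.mp g.2, hyp_apply]; simp, by
      show polarBilin Q (g.1 (1, 0, 0)) (g.1 (0, 1, 0)) = 1
      rw [← LinearEquiv.coe_coe g.1, quad_polar_map Q g.2, polarBilin_hyp]; simp⟩⟩
  have hpairOf : ∀ (p : Pairs) (s : quadIsometries Q), s.1 (1, 0, 0) = (1, 0, 0) →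
      s.1 (0, 1, 0) = (0, 1, 0) → pairOf (gp p * s) = p := by
    intro p s h1 h2
    have e1 : (gp p * s).1 (1, 0, 0) = p.1.1 := by
      show (gp p).1 (s.1 (1, 0, 0)) = _
      rw [h1, hgp1]
    have e2 : (gp p * s).1 (0, 1, 0) = p.2.1 := by
      show (gp p).1 (s.1 (0, 1, 0)) = _
      rw [h2, hgp2]
    exact Sigma.subtype_ext (Subtype.ext e1) e2
  have e : quadIsometries Q ≃ Pairs × {g : quadIsometries Q //
      g.1 (1, 0, 0) = (1, 0, 0) ∧ g.1 (0, 1, 0) = (0, 1, 0)} :=
    { toFun := fun g => (pairOf g, ⟨(gp (pairOf g))⁻¹ * g, by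
        constructor
        · show (gp (pairOf g)).1.symm (g.1 (1, 0, 0)) = _
          rw [LinearEquiv.symm_apply_eq, hgp1]
        · show (gp (pairOf g)).1.symm (g.1 (0, 1, 0)) = _
          rw [LinearEquiv.symm_apply_eq, hgp2]⟩)
      invFun := fun x => gp x.1 * x.2.1
      left_inv := fun g => mul_inv_cancel_left _ _
      right_inv := fun x => by
        obtain ⟨p, s, hs1, hs2⟩ := x
        refine Prod.ext (hpairOf p s hs1 hs2) (Subtype.ext ?_)
        show (gp (pairOf (gp p * s)))⁻¹ * (gp p * s) = s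
        rw [hpairOf p s hs1 hs2, inv_mul_cancel_left] }
  rw [Nat.card_congr e, Nat.card_prod, hpair, card_pairStab]

end Fintype

/-- `m` hyperbolic planes added to a quadratic form. -/
noncomputable def hyperForm (m : ℕ) (Q₀ : QuadraticForm F W) :
    QuadraticForm F ((Fin m → F) × (Fin m → F) × W) :=
  (∑ i, QuadraticMap.linMulLin
      ((LinearMap.proj i).comp (LinearMap.fst F (Fin m → F) ((Fin m → F) × W)))
      ((LinearMap.proj i).comp ((LinearMap.fst F (Fin m → F) W).comp
        (LinearMap.snd F (Fin m → F) ((Fin m → F) × W))))) +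
    Q₀.comp ((LinearMap.snd F (Fin m → F) W).comp (LinearMap.snd F (Fin m → F) ((Fin m → F) × W)))

theorem hyperForm_apply (m : ℕ) (Q₀ : QuadraticForm F W) (p : (Fin m → F) × (Fin m → F) × W) :
    hyperForm m Q₀ p = (∑ i, p.1 i * p.2.1 i) + Q₀ p.2.2 := by
  simp [hyperForm, QuadraticMap.sum_apply]

variable {V V' : Type*} [AddCommGroup V] [Module F V] [AddCommGroup V'] [Module F V']

theorem nondegenerate_of_equiv (Q : QuadraticForm F V) (Q' : QuadraticForm F V') (e : V ≃ₗ[F] V')
    (he : ∀ v, Q' (e v) = Q v) (h : (polarBilin Q').Nondegenerate) :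
    (polarBilin Q).Nondegenerate := by
  have hp : ∀ x y, polarBilin Q x y = polarBilin Q' (e x) (e y) := fun x y => by
    simp only [QuadraticMap.polarBilin_apply_apply, QuadraticMap.polar, ← map_add e, he]
  refine ⟨fun x hx => e.map_eq_zero_iff.mp (h.1 (e x) fun y => ?_),
    fun x hx => e.map_eq_zero_iff.mp (h.2 (e x) fun y => ?_)⟩
  · obtain ⟨z, rfl⟩ := e.surjective y; rw [← hp]; exact hx z
  · obtain ⟨z, rfl⟩ := e.surjective y; rw [← hp]; exact hx z

theorem card_quadIsometries_congr (Q : QuadraticForm F V) (Q' : QuadraticForm F V') (e : V ≃ₗ[F] V')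
    (he : ∀ v, Q' (e v) = Q v) :
    Nat.card (quadIsometries Q) = Nat.card (quadIsometries Q') := by
  refine Nat.card_congr
    { toFun := fun g => ⟨(e.symm.trans g.1).trans e, fun v => ?_⟩
      invFun := fun g => ⟨(e.trans g.1).trans e.symm, fun v => ?_⟩
      left_inv := fun g => Subtype.ext (LinearEquiv.ext fun v => by simp)
      right_inv := fun g => Subtype.ext (LinearEquiv.ext fun v => by simp) }
  · show Q' (e (g.1 (e.symm v))) = Q' v
    rw [he, mem_quadIsometries.mp g.2, ← he, e.apply_symm_apply]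
  · show Q (e.symm (g.1 (e v))) = Q v
    rw [← he, e.apply_symm_apply, mem_quadIsometries.mp g.2, he]

theorem zeroCount_congr (Q : QuadraticForm F V) (Q' : QuadraticForm F V') (e : V ≃ₗ[F] V')
    (he : ∀ v, Q' (e v) = Q v) : zeroCount Q = zeroCount Q' :=
  Nat.card_congr (e.toEquiv.subtypeEquiv fun v => by simp [he])

theorem card_isometryGroup_eq {ι : Type} [Fintype ι] [DecidableEq ι] (e : (ι → F) ≃ₗ[F] V)
    (Q : (ι → F) → F) (R : QuadraticForm F V) (h : ∀ v, Q v = R (e v)) :
    Nat.card (Cfsg.isometryGroup F Q) = Nat.card (quadIsometries R) := by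
  symm
  refine Nat.card_eq_of_bijective
    (fun g => (⟨autToGL e g.1, fun u _ => ?_⟩ : Cfsg.isometryGroup F Q)) ⟨?_, ?_⟩
  · show Q ((autToGL e g.1 : Matrix ι ι F) *ᵥ u) = Q u
    rw [autToGL_mulVec, h, h, e.apply_symm_apply, mem_quadIsometries.mp g.2]
  · intro g g' hgg
    exact Subtype.ext (autToGL_injective e (congrArg Subtype.val hgg))
  · intro g
    let f := (e.symm.trans ((LinearMap.GeneralLinearGroup.generalLinearEquiv F (ι → F))
      (Matrix.GeneralLinearGroup.toLin g.1))).trans e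
    have hf : ∀ v, f v = e ((g.1 : Matrix ι ι F) *ᵥ e.symm v) := fun v => rfl
    refine ⟨⟨f, fun v => ?_⟩, Subtype.ext (gl_ext_mulVec fun v => ?_)⟩
    · have h' : Q ((g.1 : Matrix ι ι F) *ᵥ e.symm v) = Q (e.symm v) := g.2 (e.symm v) (e.symm v)
      rw [h, h, e.apply_symm_apply] at h'
      rw [hf, h']
    · show (autToGL e f : Matrix ι ι F) *ᵥ v = _
      rw [autToGL_mulVec, hf, e.symm_apply_apply, e.symm_apply_apply]

/-- Splitting off the first hyperbolic plane. -/
noncomputable def hyperSplit (F : Type*) [Field F] (W : Type*) [AddCommGroup W] [Module F W] (m : ℕ) :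
    ((Fin (m + 1) → F) × (Fin (m + 1) → F) × W) ≃ₗ[F] F × F × ((Fin m → F) × (Fin m → F) × W) where
  toFun p := (p.1 0, p.2.1 0, (Fin.tail p.1, Fin.tail p.2.1, p.2.2))
  map_add' p r := rfl
  map_smul' c p := rfl
  invFun x := (Fin.cons x.1 x.2.2.1, Fin.cons x.2.1 x.2.2.2.1, x.2.2.2.2)
  left_inv p := Prod.ext (Fin.cons_self_tail p.1) (Prod.ext (Fin.cons_self_tail p.2.1) rfl)
  right_inv x := by simp

theorem hyperSplit_spec (m : ℕ) (Q₀ : QuadraticForm F W) (p : (Fin (m + 1) → F) × (Fin (m + 1) → F) × W) :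
    hyp (hyperForm m Q₀) (hyperSplit F W m p) = hyperForm (m + 1) Q₀ p := by
  rw [hyp_apply, hyperForm_apply, hyperForm_apply, Fin.sum_univ_succ, add_assoc]
  rfl

/-- The zero-plane equivalence. -/
noncomputable def hyperBase (F : Type*) [Field F] (W : Type*) [AddCommGroup W] [Module F W] :
    ((Fin 0 → F) × (Fin 0 → F) × W) ≃ₗ[F] W where
  toFun p := p.2.2
  map_add' _ _ := rfl
  map_smul' _ _ := rfl
  invFun w := (Fin.elim0, Fin.elim0, w)
  left_inv p := Prod.ext (funext fun i => i.elim0) (Prod.ext (funext fun i => i.elim0) rfl)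
  right_inv _ := rfl

theorem hyperBase_spec (Q₀ : QuadraticForm F W) (p : (Fin 0 → F) × (Fin 0 → F) × W) :
    Q₀ (hyperBase F W p) = hyperForm 0 Q₀ p := by
  simp [hyperForm_apply, hyperBase]

variable [Fintype F] [Finite W] [FiniteDimensional F W] {q d : ℕ}

theorem hyperForm_nondegenerate (m : ℕ) (Q₀ : QuadraticForm F W) (h₀ : (polarBilin Q₀).Nondegenerate) :
    (polarBilin (hyperForm m Q₀)).Nondegenerate := by
  induction m with
  | zero => exact nondegenerate_of_equiv _ _ (hyperBase F W) (hyperBase_spec Q₀) h₀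
  | succ m ih =>
    exact nondegenerate_of_equiv _ _ (hyperSplit F W m) (hyperSplit_spec m Q₀) (hyp_nondegenerate _ ih)

theorem card_hyperSpace (hq : Fintype.card F = q) (hd : Nat.card W = q ^ d) (m : ℕ) :
    Nat.card ((Fin m → F) × (Fin m → F) × W) = q ^ (d + 2 * m) := by
  rw [Nat.card_prod, Nat.card_prod, Nat.card_fun, Nat.card_fin, Nat.card_eq_fintype_card (α := F),
    hq, hd, ← pow_add, ← pow_add]
  congr 1; ring

theorem zeroCount_hyperForm (hq : Fintype.card F = q) (hd : Nat.card W = q ^ d)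
    (Q₀ : QuadraticForm F W) (m : ℕ) :
    q * zeroCount (hyperForm m Q₀) + q ^ (d + m) = q ^ (m + 1) * zeroCount Q₀ + q ^ (d + 2 * m) := by
  induction m with
  | zero => simp [zeroCount_congr _ _ (hyperBase F W) (hyperBase_spec Q₀)]
  | succ m ih =>
    rw [zeroCount_congr _ _ (hyperSplit F W m) (hyperSplit_spec m Q₀), zeroCount_hyp,
      card_hyperSpace hq hd, hq]
    obtain ⟨k, rfl⟩ : ∃ k, q = k + 1 := ⟨q - 1, by have := Fintype.card_pos (α := F); omega⟩
    rw [Nat.add_sub_cancel, show d + 2 * (m + 1) = d + 2 * m + 1 + 1 by ring, ← add_assoc d m 1]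
    simp only [pow_succ] at ih ⊢
    linear_combination (k + 1) * ih

theorem card_hyperForm_succ (hq : Fintype.card F = q) (hd : Nat.card W = q ^ d)
    (Q₀ : QuadraticForm F W) (h₀ : (polarBilin Q₀).Nondegenerate) (m : ℕ) :
    Nat.card (quadIsometries (hyperForm (m + 1) Q₀)) =
      (zeroCount (hyperForm (m + 1) Q₀) - 1) * q ^ (d + 2 * m) *
        Nat.card (quadIsometries (hyperForm m Q₀)) := by
  rw [card_quadIsometries_congr _ _ (hyperSplit F W m) (hyperSplit_spec m Q₀),
    card_quadIsometries_hyp _ (hyperForm_nondegenerate m Q₀ h₀), card_hyperSpace hq hd,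
    zeroCount_congr (hyperForm (m + 1) Q₀) _ (hyperSplit F W m) (hyperSplit_spec m Q₀)]

/-! ### The three types -/

theorem card_orth_odd (hq : Fintype.card F = q) (hodd : Odd q) (m : ℕ) :
    Nat.card (Cfsg.isometryGroup F (Cfsg.quadFormOdd m F)) =
      2 * q ^ (m ^ 2) * ∏ i ∈ Finset.range m, (q ^ (2 * (i + 1)) - 1) := by
  classical
  set Q₀ : QuadraticForm F F := QuadraticMap.sq with hQ₀
  have h2 : (2 : F) ≠ 0 := Ring.two_ne_zero (fun h => by
    have := FiniteField.even_card_of_char_two h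
    rw [hq] at this
    exact Nat.not_even_iff_odd.mpr hodd (Nat.even_iff.mpr this))
  have hsq : ∀ x : F, Q₀ x = x * x := fun x => rfl
  have h₀ : (polarBilin Q₀).Nondegenerate := by
    have key : ∀ x : F, (∀ y, polarBilin Q₀ x y = 0) → x = 0 := fun x hx => by
      have := hx 1
      simp only [QuadraticMap.polarBilin_apply_apply, QuadraticMap.polar, hsq] at this
      exact (mul_eq_zero.mp (show (2 : F) * x = 0 by linear_combination this)).resolve_left h2
    exact ⟨key, fun y hy => key y fun r => by rw [quad_polar_comm]; exact hy r⟩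
  have hd : Nat.card F = q ^ 1 := by rw [pow_one, Nat.card_eq_fintype_card, hq]
  have hz0 : zeroCount Q₀ = 1 := by
    rw [zeroCount, Nat.card_eq_one_iff_exists]
    exact ⟨⟨0, map_zero _⟩, fun x => Subtype.ext (by simpa [hsq] using x.2)⟩
  let e : (Unit ⊕ (Fin m ⊕ Fin m) → F) ≃ₗ[F] ((Fin m → F) × (Fin m → F) × F) :=
    { toFun := fun v => (fun i => v (.inr (.inl i)), fun i => v (.inr (.inr i)), v (.inl ()))
      map_add' := fun x y => rfl
      map_smul' := fun c x => rfl
      invFun := fun p => Sum.elim (fun _ => p.2.2) (Sum.elim p.1 p.2.1)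
      left_inv := fun v => by funext i; rcases i with _ | i | i <;> rfl
      right_inv := fun p => rfl }
  rw [card_isometryGroup_eq e _ (hyperForm m Q₀) (fun v => by
    rw [hyperForm_apply]
    show v (.inl ()) ^ 2 + ∑ i, v (.inr (.inl i)) * v (.inr (.inr i)) =
      (∑ i, v (.inr (.inl i)) * v (.inr (.inr i))) + v (.inl ()) * v (.inl ())
    rw [pow_two, add_comm])]
  clear e
  induction m with
  | zero =>
    rw [card_quadIsometries_congr _ _ (hyperBase F F) (hyperBase_spec Q₀)]
    have hmul : ∀ (g : F ≃ₗ[F] F) (x : F), g x = x * g 1 := fun g x => by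
      rw [← smul_eq_mul, ← map_smul, smul_eq_mul, mul_one]
    have e : quadIsometries Q₀ ≃ ({1, -1} : Finset F) :=
      { toFun := fun g => ⟨g.1 1, by
          have h := mem_quadIsometries.mp g.2 1
          rw [hsq, hsq, mul_one] at h
          simpa using mul_self_eq_one_iff.mp h⟩
        invFun := fun c => ⟨LinearEquiv.smulOfUnit (Units.mkOfMulEqOne (c : F) c (by
            have := c.2
            simp only [Finset.mem_insert, Finset.mem_singleton] at this
            rcases this with h | h <;> simp [h])), fun x => by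
          have h1 : (c : F) * c = 1 := by
            have := c.2
            simp only [Finset.mem_insert, Finset.mem_singleton] at this
            rcases this with h | h <;> simp [h]
          show ((c : F) * x) * ((c : F) * x) = x * x
          rw [mul_mul_mul_comm, h1, one_mul]⟩
        left_inv := fun g => Subtype.ext (LinearEquiv.ext fun x => by
          show g.1 1 * x = g.1 x
          rw [hmul g.1 x, mul_comm])
        right_inv := fun c => Subtype.ext (mul_one _) }
    have hne : (1 : F) ≠ -1 := fun h => h2 (by linear_combination h)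
    rw [Nat.card_congr e, Nat.card_eq_fintype_card, Fintype.card_coe, Finset.card_pair hne]
    simp
  | succ m ih =>
    rw [card_hyperForm_succ hq hd Q₀ h₀, ih, Finset.prod_range_succ]
    have hz : zeroCount (hyperForm (m + 1) Q₀) = q ^ (2 * (m + 1)) := by
      have h := zeroCount_hyperForm hq hd Q₀ (m + 1)
      rw [hz0, mul_one, show 1 + (m + 1) = m + 1 + 1 by ring, add_comm (q ^ (m + 1 + 1)),
        Nat.add_right_cancel_iff, show 1 + 2 * (m + 1) = 2 * (m + 1) + 1 by ring, pow_succ'] at h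
      exact Nat.eq_of_mul_eq_mul_left (by rw [← hq]; exact Fintype.card_pos) h
    rw [hz, show (m + 1) ^ 2 = m ^ 2 + (1 + 2 * m) by ring, pow_add q (m ^ 2)]
    ring

theorem card_orth_plus (hq : Fintype.card F = q) (m : ℕ) (hm : 1 ≤ m) :
    Nat.card (Cfsg.isometryGroup F (Cfsg.quadFormPlus m F)) =
      2 * q ^ (m * (m - 1)) * (q ^ m - 1) * ∏ i ∈ Finset.range (m - 1), (q ^ (2 * (i + 1)) - 1) := by
  classical
  let e : ∀ m, (Fin m ⊕ Fin m → F) ≃ₗ[F] ((Fin m → F) × (Fin m → F) × (Fin 0 → F)) := fun m =>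
    { toFun := fun v => (fun i => v (.inl i), fun i => v (.inr i), 0)
      map_add' := fun x y => Prod.ext rfl (Prod.ext rfl (add_zero _).symm)
      map_smul' := fun c x => Prod.ext rfl (Prod.ext rfl (smul_zero _).symm)
      invFun := fun p => Sum.elim p.1 p.2.1
      left_inv := fun v => by funext i; rcases i with i | i <;> rfl
      right_inv := fun p => Prod.ext rfl (Prod.ext rfl (funext fun i => i.elim0)) }
  set Q₀ : QuadraticForm F (Fin 0 → F) := 0 with hQ₀
  have h₀ : (polarBilin Q₀).Nondegenerate :=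
    ⟨fun x _ => Subsingleton.elim _ _, fun x _ => Subsingleton.elim _ _⟩
  have hd : Nat.card (Fin 0 → F) = q ^ 0 := by simp
  have hz0 : zeroCount Q₀ = 1 := by
    rw [zeroCount, Nat.card_eq_one_iff_exists]
    exact ⟨⟨0, map_zero _⟩, fun x => Subsingleton.elim _ _⟩
  have h0card : Nat.card (quadIsometries (hyperForm 0 Q₀)) = 1 := by
    rw [card_quadIsometries_congr _ _ (hyperBase F _) (hyperBase_spec Q₀), Nat.card_eq_one_iff_exists]
    exact ⟨1, fun g => Subtype.ext (LinearEquiv.ext fun x => Subsingleton.elim _ _)⟩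
  rw [card_isometryGroup_eq (e m) _ (hyperForm m Q₀) (fun v => by
    simp [Cfsg.quadFormPlus, hyperForm_apply, e, hQ₀])]
  obtain ⟨k, rfl⟩ : ∃ k, m = k + 1 := ⟨m - 1, by omega⟩
  have hpos : 0 < q := by rw [← hq]; exact Fintype.card_pos
  have hz : ∀ k, zeroCount (hyperForm (k + 1) Q₀) - 1 = (q ^ (k + 1) - 1) * (q ^ k + 1) := by
    intro k
    have h := zeroCount_hyperForm hq hd Q₀ (k + 1)
    rw [hz0, mul_one, zero_add, zero_add] at h
    obtain ⟨A, hA⟩ : ∃ A, q ^ (k + 1) = A + 1 :=
      ⟨q ^ (k + 1) - 1, (Nat.sub_add_cancel (Nat.one_le_pow _ _ hpos)).symm⟩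
    rw [hA, Nat.add_sub_cancel]
    suffices hs : zeroCount (hyperForm (k + 1) Q₀) = A * (q ^ k + 1) + 1 by rw [hs, Nat.add_sub_cancel]
    apply Nat.eq_of_mul_eq_mul_left hpos
    rw [show q ^ (k + 1 + 1) = q ^ k * q * q by ring,
      show q ^ (2 * (k + 1)) = q ^ k * q * (q ^ k * q) by ring,
      show q ^ (k + 1) = q ^ k * q by ring] at h
    rw [pow_succ] at hA
    zify at hA h ⊢
    linear_combination h + ((q : ℤ) * ((q : ℤ) ^ k + 1)) * hA
  simp only [Nat.add_sub_cancel]
  clear hm
  induction k with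
  | zero =>
    rw [card_hyperForm_succ hq hd Q₀ h₀, hz, h0card]
    simp
    ring
  | succ k ih =>
    rw [card_hyperForm_succ hq hd Q₀ h₀, hz, ih, Finset.prod_range_succ]
    have e1 : q ^ (2 * (k + 1)) - 1 = (q ^ (k + 1) - 1) * (q ^ (k + 1) + 1) := by
      rw [mul_comm (_ - 1), ← Nat.sq_sub_sq, one_pow, ← pow_mul, mul_comm 2]
    rw [e1, show (k + 1 + 1) * (k + 1) = (k + 1) * k + (0 + 2 * (k + 1)) by ring, pow_add q ((k + 1) * k)]
    ring

theorem card_orth_minus (hq : Fintype.card F = q) (m : ℕ) (hm : 1 ≤ m) (a b : F)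
    (hab : ∀ z₁ z₂ : F, z₁ ^ 2 + a * z₁ * z₂ + b * z₂ ^ 2 = 0 → z₁ = 0 ∧ z₂ = 0) :
    Nat.card (Cfsg.isometryGroup F (Cfsg.quadFormMinus (m - 1) F a b)) =
      2 * q ^ (m * (m - 1)) * (q ^ m + 1) * ∏ i ∈ Finset.range (m - 1), (q ^ (2 * (i + 1)) - 1) := by
  classical
  let p0 : (F × F) →ₗ[F] F := LinearMap.fst F F F
  let p1 : (F × F) →ₗ[F] F := LinearMap.snd F F F
  set Q₀ : QuadraticForm F (F × F) := QuadraticMap.linMulLin p0 p0 +
    a • QuadraticMap.linMulLin p0 p1 + b • QuadraticMap.linMulLin p1 p1 with hQ₀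
  have hQ : ∀ z : F × F, Q₀ z = z.1 ^ 2 + a * z.1 * z.2 + b * z.2 ^ 2 := fun z => by
    simp [hQ₀, p0, p1, pow_two, mul_assoc]
  have h₀ : (polarBilin Q₀).Nondegenerate := by
    have key : ∀ x : F × F, (∀ y, polarBilin Q₀ x y = 0) → x = 0 := fun x hx => by
      have h1 := hx (1, 0)
      have h2 := hx (0, 1)
      simp only [QuadraticMap.polarBilin_apply_apply, QuadraticMap.polar, hQ, Prod.fst_add,
        Prod.snd_add, mul_zero, add_zero, mul_one] at h1 h2
      by_cases h : (2 : F) = 0
      · have hc : ringChar F = 2 := by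
          have h' : ((2 : ℕ) : F) = 0 := by simpa using h
          exact ((Nat.prime_dvd_prime_iff_eq (CharP.char_is_prime F (ringChar F)) Nat.prime_two).mp
            (ringChar.dvd h'))
        have ha : a ≠ 0 := by
          intro ha
          obtain ⟨s, hs⟩ := FiniteField.isSquare_of_char_two hc (-b)
          exact one_ne_zero (hab s 1 (by rw [ha]; linear_combination -hs)).2
        have e1 : a * x.2 = 0 := by linear_combination h1 - x.1 * h
        have e2 : a * x.1 = 0 := by linear_combination h2 - b * x.2 * h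
        exact Prod.ext ((mul_eq_zero.mp e2).resolve_left ha) ((mul_eq_zero.mp e1).resolve_left ha)
      · have hQx : x.1 ^ 2 + a * x.1 * x.2 + b * x.2 ^ 2 = 0 :=
          (mul_eq_zero.mp (show (2 : F) * (x.1 ^ 2 + a * x.1 * x.2 + b * x.2 ^ 2) = 0 by
            linear_combination x.1 * h1 + x.2 * h2)).resolve_left h
        exact Prod.ext (hab _ _ hQx).1 (hab _ _ hQx).2
    exact ⟨key, fun y hy => key y fun r => by rw [quad_polar_comm]; exact hy r⟩
  have hd : Nat.card (F × F) = q ^ 2 := by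
    rw [Nat.card_prod, Nat.card_eq_fintype_card, hq, pow_two]
  have hz0 : zeroCount Q₀ = 1 := by
    rw [zeroCount, Nat.card_eq_one_iff_exists]
    exact ⟨⟨0, map_zero _⟩, fun x => Subtype.ext
      (Prod.ext (hab _ _ ((hQ x.1).symm.trans x.2)).1 (hab _ _ ((hQ x.1).symm.trans x.2)).2)⟩
  let e : ∀ m, ((Fin m ⊕ Fin m) ⊕ Fin 2 → F) ≃ₗ[F] ((Fin m → F) × (Fin m → F) × (F × F)) := fun m =>
    { toFun := fun v => (fun i => v (.inl (.inl i)), fun i => v (.inl (.inr i)),
        (v (.inr 0), v (.inr 1)))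
      map_add' := fun x y => rfl
      map_smul' := fun c x => rfl
      invFun := fun p => Sum.elim (Sum.elim p.1 p.2.1) ![p.2.2.1, p.2.2.2]
      left_inv := fun v => by
        funext i
        rcases i with (i | i) | i
        · rfl
        · rfl
        · fin_cases i <;> rfl
      right_inv := fun p => rfl }
  have heq : ∀ m, Nat.card (Cfsg.isometryGroup F (Cfsg.quadFormMinus m F a b)) =
      Nat.card (quadIsometries (hyperForm m Q₀)) := fun m =>
    card_isometryGroup_eq (e m) _ _ fun v => by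
      rw [hyperForm_apply, hQ]
      rfl
  obtain ⟨k, rfl⟩ : ∃ k, m = k + 1 := ⟨m - 1, by omega⟩
  simp only [Nat.add_sub_cancel]
  rw [heq]
  have hpos : 0 < q := by rw [← hq]; exact Fintype.card_pos
  have hz : ∀ k, zeroCount (hyperForm (k + 1) Q₀) - 1 = (q ^ (k + 1 + 1) + 1) * (q ^ (k + 1) - 1) := by
    intro k
    have h := zeroCount_hyperForm hq hd Q₀ (k + 1)
    obtain ⟨A, hA⟩ : ∃ A, q ^ (k + 1) = A + 1 :=
      ⟨q ^ (k + 1) - 1, (Nat.sub_add_cancel (Nat.one_le_pow _ _ hpos)).symm⟩
    rw [hA, Nat.add_sub_cancel, pow_succ, hA]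
    suffices hs : zeroCount (hyperForm (k + 1) Q₀) = ((A + 1) * q + 1) * A + 1 by
      rw [hs, Nat.add_sub_cancel]
    apply Nat.eq_of_mul_eq_mul_left hpos
    rw [hz0, mul_one, show q ^ (k + 1 + 1) = q ^ (k + 1) * q by ring,
      show q ^ (2 + (k + 1)) = q ^ (k + 1) * q * q by ring,
      show q ^ (2 + 2 * (k + 1)) = q ^ (k + 1) * q ^ (k + 1) * q * q by ring, hA] at h
    zify at h ⊢
    linear_combination h
  clear hm
  induction k with
  | zero =>
    rw [← heq]
    obtain ⟨φ⟩ := nonempty_orthMinusTwo hq a b hab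
    rw [Nat.card_congr φ.toEquiv, DihedralGroup.nat_card]
    simp
  | succ k ih =>
    rw [Nat.add_sub_cancel] at ih
    rw [Nat.add_sub_cancel, card_hyperForm_succ hq hd Q₀ h₀, hz, ih, Finset.prod_range_succ]
    have e1 : q ^ (2 * (k + 1)) - 1 = (q ^ (k + 1) + 1) * (q ^ (k + 1) - 1) := by
      rw [← Nat.sq_sub_sq, one_pow, ← pow_mul, mul_comm 2]
    rw [e1, show (k + 1 + 1) * (k + 1) = (k + 1) * k + (2 + 2 * k) by ring, pow_add q ((k + 1) * k)]
    ring

end Cfsg.Agent.Lib.Classical
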