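import Mathlib
import Cfsg.Agent.Lib.Geometry.Reflection
import Cfsg.Agent.Lib.Classical.Iwasawa

/-!
Eichler transformations: perfectness and simplicity of `Ω(V)` when `V` contains three hyperbolic
planes (any characteristic, non-degenerate polar form).
-/

set_option autoImplicit false

namespace Cfsg.Agent.Lib.Classical

open QuadraticMap (polarBilin)
open Cfsg.Agent.Lib.Geometry (quadIsometries mem_quadIsometries quad_add quad_smul quad_polar_self
  quad_polar_comm quad_polar_map refl refl_conj)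
open scoped commutatorElement Pointwise

attribute [-simp] QuadraticMap.polarBilin_apply_apply

variable {F V : Type*} [Field F] [AddCommGroup V] [Module F V] (Q : QuadraticForm F V)

/-- The map underlying an Eichler transformation. -/
def eichLin (u x : V) : V →ₗ[F] V :=
  LinearMap.id + ((polarBilin Q).flip u).smulRight x -
    ((polarBilin Q).flip x + Q x • (polarBilin Q).flip u).smulRight u

theorem eichLin_apply (u x y : V) :
    eichLin Q u x y = y + polarBilin Q y u • x -
      (polarBilin Q y x + Q x * polarBilin Q y u) • u := rfl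

theorem eichLin_comp {u : V} (hu : Q u = 0) {x x' : V} (hx : polarBilin Q u x = 0)
    (hx' : polarBilin Q u x' = 0) :
    eichLin Q u x ∘ₗ eichLin Q u x' = eichLin Q u (x + x') := by
  refine LinearMap.ext fun y => ?_
  simp only [LinearMap.comp_apply, eichLin_apply, map_sub, map_add, map_smul, LinearMap.sub_apply,
    LinearMap.add_apply, LinearMap.smul_apply, smul_eq_mul, quad_add, quad_polar_self,
    quad_polar_comm Q x' u, quad_polar_comm Q x' x, hu, hx, hx']
  module

theorem eichLin_zero (u : V) : eichLin Q u 0 = LinearMap.id := by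
  refine LinearMap.ext fun y => ?_
  simp [eichLin_apply]

theorem eichLin_isometry {u x : V} (hu : Q u = 0) (hx : polarBilin Q u x = 0) (y : V) :
    Q (eichLin Q u x y) = Q y := by
  rw [eichLin_apply, sub_eq_add_neg, ← neg_smul, quad_add, quad_add, quad_smul, quad_smul]
  simp only [map_add, map_smul, LinearMap.add_apply, LinearMap.smul_apply, smul_eq_mul, hu,
    quad_polar_comm Q x u, hx]
  ring

/-- The Eichler transformation, as an isometry. -/
def eich (u x : V) (hu : Q u = 0) (hx : polarBilin Q u x = 0) : quadIsometries Q :=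
  ⟨LinearEquiv.ofLinearMap (eichLin Q u x) (eichLin Q u (-x))
      (by rw [eichLin_comp Q hu hx (by rw [map_neg, hx, neg_zero]), add_neg_cancel, eichLin_zero])
      (by rw [eichLin_comp Q hu (by rw [map_neg, hx, neg_zero]) hx, neg_add_cancel, eichLin_zero]),
    eichLin_isometry Q hu hx⟩

theorem eich_apply {u x : V} (hu : Q u = 0) (hx : polarBilin Q u x = 0) (y : V) :
    (eich Q u x hu hx).1 y = y + polarBilin Q y u • x -
      (polarBilin Q y x + Q x * polarBilin Q y u) • u := rfl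

theorem eich_mul {u x x' : V} (hu : Q u = 0) (hx : polarBilin Q u x = 0)
    (hx' : polarBilin Q u x' = 0) :
    eich Q u x hu hx * eich Q u x' hu hx' =
      eich Q u (x + x') hu (by rw [map_add, hx, hx', add_zero]) :=
  Subtype.ext (LinearEquiv.ext fun y => LinearMap.congr_fun (eichLin_comp Q hu hx hx') y)

theorem eich_inv {u x : V} (hu : Q u = 0) (hx : polarBilin Q u x = 0) :
    (eich Q u x hu hx)⁻¹ = eich Q u (-x) hu (by rw [map_neg, hx, neg_zero]) :=
  Subtype.ext (LinearEquiv.ext fun _ => rfl)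

theorem eich_congr {u u' x x' : V} (hu : Q u = 0) (hx : polarBilin Q u x = 0) (hu' : Q u' = 0)
    (hx' : polarBilin Q u' x' = 0) (h : ∀ y, eichLin Q u x y = eichLin Q u' x' y) :
    eich Q u x hu hx = eich Q u' x' hu' hx' :=
  Subtype.ext (LinearEquiv.ext h)

theorem iso_polarBilin (g : quadIsometries Q) (x y : V) :
    polarBilin Q (g.1 x) (g.1 y) = polarBilin Q x y :=
  quad_polar_map Q (T := g.1.toLinearMap) g.2 x y

theorem eich_conj (g : quadIsometries Q) {u x : V} (hu : Q u = 0) (hx : polarBilin Q u x = 0) :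
    g * eich Q u x hu hx * g⁻¹ = eich Q (g.1 u) (g.1 x) (by rw [mem_quadIsometries.mp g.2, hu])
      (by rw [iso_polarBilin, hx]) := by
  refine Subtype.ext (LinearEquiv.ext fun y => ?_)
  show g.1 ((eich Q u x hu hx).1 (g.1.symm y)) = eichLin Q (g.1 u) (g.1 x) y
  obtain ⟨z, rfl⟩ := g.1.surjective y
  rw [g.1.symm_apply_apply, eich_apply, eichLin_apply, iso_polarBilin, iso_polarBilin,
    mem_quadIsometries.mp g.2, map_sub, map_add, map_smul, map_smul]

/-- The group generated by the Eichler transformations with data in `U`. -/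
def eichGroup (U : Submodule F V) : Subgroup (quadIsometries Q) :=
  Subgroup.closure {g | ∃ (u x : V) (hu : Q u = 0) (hx : polarBilin Q u x = 0),
    u ∈ U ∧ x ∈ U ∧ g = eich Q u x hu hx}

theorem eich_mem {U : Submodule F V} {u x : V} (hu : Q u = 0) (hx : polarBilin Q u x = 0)
    (huU : u ∈ U) (hxU : x ∈ U) : eich Q u x hu hx ∈ eichGroup Q U :=
  Subgroup.subset_closure ⟨u, x, hu, hx, huU, hxU, rfl⟩

theorem eichGroup_le_top (U : Submodule F V) : eichGroup Q U ≤ eichGroup Q ⊤ := by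
  refine Subgroup.closure_mono ?_
  rintro g ⟨u, x, hu, hx, -, -, rfl⟩
  exact ⟨u, x, hu, hx, trivial, trivial, rfl⟩

theorem eichGroup_fix {U : Submodule F V} {g : quadIsometries Q} (hg : g ∈ eichGroup Q U) {y : V}
    (hy : ∀ z ∈ U, polarBilin Q y z = 0) : g.1 y = y := by
  unfold eichGroup at hg
  induction hg using Subgroup.closure_induction with
  | mem g h =>
    obtain ⟨u, x, hu, hx, huU, hxU, rfl⟩ := h
    rw [eich_apply, hy u huU, hy x hxU]
    simp
  | one => rfl
  | mul a b _ _ iha ihb =>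
    show a.1 (b.1 y) = y
    rw [ihb, iha]
  | inv a _ iha =>
    show a.1.symm y = y
    rw [LinearEquiv.symm_apply_eq, iha]

theorem eichGroup_normal : (eichGroup Q ⊤).Normal := by
  refine ⟨fun n hn g => ?_⟩
  unfold eichGroup at hn ⊢
  induction hn using Subgroup.closure_induction with
  | mem n h =>
    obtain ⟨u, x, hu, hx, -, -, rfl⟩ := h
    rw [eich_conj]
    exact eich_mem Q _ _ trivial trivial
  | one => simp
  | mul a b _ _ iha ihb => simpa [mul_assoc] using mul_mem iha ihb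
  | inv a _ iha => simpa [mul_assoc] using inv_mem iha

/-- Two hyperbolic pairs, orthogonal to each other. -/
structure HypTwo (U : Submodule F V) (e f e₂ f₂ : V) : Prop where
  he : e ∈ U
  hf : f ∈ U
  he₂ : e₂ ∈ U
  hf₂ : f₂ ∈ U
  qe : Q e = 0
  qf : Q f = 0
  qe₂ : Q e₂ = 0
  qf₂ : Q f₂ = 0
  ef : polarBilin Q e f = 1
  ef₂ : polarBilin Q e₂ f₂ = 1
  ee₂ : polarBilin Q e e₂ = 0
  ef' : polarBilin Q e f₂ = 0
  fe₂ : polarBilin Q f e₂ = 0
  ff₂ : polarBilin Q f f₂ = 0
  sep : ∀ z ∈ U, z ≠ 0 → ∃ y ∈ U, polarBilin Q z y ≠ 0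

variable {Q} {U : Submodule F V} {e f e₂ f₂ : V}

theorem HypTwo.swap (h : HypTwo Q U e f e₂ f₂) : HypTwo Q U f e e₂ f₂ :=
  ⟨h.hf, h.he, h.he₂, h.hf₂, h.qf, h.qe, h.qe₂, h.qf₂, by rw [quad_polar_comm, h.ef], h.ef₂,
    h.fe₂, h.ff₂, h.ee₂, h.ef', h.sep⟩

theorem HypTwo.swapPairs (h : HypTwo Q U e f e₂ f₂) : HypTwo Q U e₂ f₂ e f :=
  ⟨h.he₂, h.hf₂, h.he, h.hf, h.qe₂, h.qf₂, h.qe, h.qf, h.ef₂, h.ef,
    by rw [quad_polar_comm, h.ee₂], by rw [quad_polar_comm, h.fe₂],
    by rw [quad_polar_comm, h.ef'], by rw [quad_polar_comm, h.ff₂], h.sep⟩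

theorem exists_clear (h : HypTwo Q U e f e₂ f₂) {v : V} (hv : v ∈ U)
    (ha : polarBilin Q v f ≠ 0) :
    ∃ g ∈ eichGroup Q U, g.1 v = polarBilin Q v f • e + (Q v / polarBilin Q v f) • f := by
  set a := polarBilin Q v f with hadef
  set b := polarBilin Q v e with hbdef
  set z := v - a • e - b • f with hzdef
  have hfe : polarBilin Q f e = 1 := by rw [quad_polar_comm, h.ef]
  have hff : polarBilin Q f f = 0 := by rw [quad_polar_self, h.qf, mul_zero]
  have hee : polarBilin Q e e = 0 := by rw [quad_polar_self, h.qe, mul_zero]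
  have hzf : polarBilin Q z f = 0 := by
    simp [hzdef, h.ef, hff, hadef]
  have hze : polarBilin Q z e = 0 := by
    simp [hzdef, hfe, hee, hbdef]
  have hx : polarBilin Q f (-a⁻¹ • z) = 0 := by
    rw [map_smul, quad_polar_comm, hzf, smul_zero]
  have hzU : z ∈ U := U.sub_mem (U.sub_mem hv (U.smul_mem _ h.he)) (U.smul_mem _ h.hf)
  set g := eich Q f (-a⁻¹ • z) h.qf hx with hg
  refine ⟨g, eich_mem Q _ _ h.hf (U.smul_mem _ hzU), ?_⟩
  obtain ⟨β, hβ⟩ : ∃ β, g.1 v = a • e + β • f := by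
    refine ⟨b - (polarBilin Q v (-a⁻¹ • z) + Q (-a⁻¹ • z) * a), ?_⟩
    rw [hg, eich_apply, ← hadef, smul_smul, mul_neg, mul_inv_cancel₀ ha, sub_smul b,
      show v = a • e + b • f + z by rw [hzdef]; abel]
    module
  have hq := mem_quadIsometries.mp g.2 v
  rw [hβ, quad_add, quad_smul, quad_smul, h.qe, h.qf, map_smul, map_smul, LinearMap.smul_apply,
    h.ef] at hq
  simp only [smul_eq_mul, mul_zero, zero_add, mul_one] at hq
  rw [hβ, ← hq]
  congr 2
  field_simp

theorem exists_normalize (h : HypTwo Q U e f e₂ f₂) {v : V} (hv : v ∈ U)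
    (ha : polarBilin Q v f ≠ 0) : ∃ g ∈ eichGroup Q U, g.1 v = e + Q v • f := by
  obtain ⟨g₁, hg₁, h1⟩ := exists_clear h hv ha
  set a := polarBilin Q v f
  set c := Q v
  have hfe : polarBilin Q f e = 1 := by rw [quad_polar_comm, h.ef]
  have hff : polarBilin Q f f = 0 := by rw [quad_polar_self, h.qf, mul_zero]
  have hee : polarBilin Q e e = 0 := by rw [quad_polar_self, h.qe, mul_zero]
  have h22 : polarBilin Q e₂ e₂ = 0 := by rw [quad_polar_self, h.qe₂, mul_zero]
  -- add a multiple of `e₂`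
  set g₂ := eich Q f e₂ h.qf h.fe₂ with hg₂
  have h2 : g₂.1 (a • e + (c / a) • f) = a • e + (c / a) • f + a • e₂ := by
    rw [hg₂, eich_apply]
    simp [h.ef, hff, h.ee₂, h.fe₂, h.qe₂]
  -- change the coefficient of `e`
  set t := (a - 1) / a
  have hx : polarBilin Q e (t • f₂) = 0 := by rw [map_smul, h.ef', smul_zero]
  set g₃ := eich Q e (t • f₂) h.qe hx with hg₃
  have h3 : polarBilin Q (g₃.1 (a • e + (c / a) • f + a • e₂)) f = 1 := by
    rw [hg₃, eich_apply]
    simp [hfe, hee, h.ef, hff, h.ef', h.ff₂, h.ef₂, h.qf₂, quad_smul, quad_polar_comm Q e₂ e,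
      quad_polar_comm Q e₂ f, quad_polar_comm Q f₂ f, h.ee₂, h.fe₂, t]
    field_simp
    ring
  set v' := g₃.1 (g₂.1 (g₁.1 v))
  have hgE : g₃ * g₂ * g₁ ∈ eichGroup Q U := mul_mem (mul_mem
    (eich_mem Q _ _ h.he (U.smul_mem _ h.hf₂)) (eich_mem Q _ _ h.hf h.he₂)) hg₁
  have hv'f : polarBilin Q v' f = 1 := by rw [show v' = g₃.1 (g₂.1 (g₁.1 v)) from rfl, h1, h2, h3]
  have hv'U : v' ∈ U := by
    have hfixU : ∀ (u x : V) (hu : Q u = 0) (hx : polarBilin Q u x = 0), u ∈ U → x ∈ U →
        ∀ y ∈ U, (eich Q u x hu hx).1 y ∈ U := fun u x hu hx huU hxU y hy => by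
      rw [eich_apply]
      exact U.sub_mem (U.add_mem hy (U.smul_mem _ hxU)) (U.smul_mem _ huU)
    refine hfixU _ _ _ _ h.he (U.smul_mem _ h.hf₂) _ (hfixU _ _ _ _ h.hf h.he₂ _ ?_)
    rw [h1]
    exact U.add_mem (U.smul_mem _ h.he) (U.smul_mem _ h.hf)
  obtain ⟨g₄, hg₄, h4⟩ := exists_clear h hv'U (by rw [hv'f]; exact one_ne_zero)
  refine ⟨g₄ * (g₃ * g₂ * g₁), mul_mem hg₄ hgE, ?_⟩
  show g₄.1 v' = _
  have hq : Q v' = c := by
    rw [show v' = g₃.1 (g₂.1 (g₁.1 v)) from rfl, mem_quadIsometries.mp g₃.2,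
      mem_quadIsometries.mp g₂.2, mem_quadIsometries.mp g₁.2]
  rw [h4, hv'f, hq, one_smul, div_one]

/-- The Eichler group is transitive on non-zero vectors of given value. -/
theorem exists_eich_apply (h : HypTwo Q U e f e₂ f₂) {v : V} (hv : v ∈ U) (hv0 : v ≠ 0) :
    ∃ g ∈ eichGroup Q U, g.1 v = e + Q v • f := by
  by_cases ha : polarBilin Q v f = 0
  swap
  · exact exists_normalize h hv ha
  -- reach a vector pairing non-trivially with `f`
  suffices H : ∃ g ∈ eichGroup Q U, polarBilin Q (g.1 v) f ≠ 0 ∧ g.1 v ∈ U by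
    obtain ⟨g, hg, hgf, hgU⟩ := H
    obtain ⟨g', hg', h'⟩ := exists_normalize h hgU hgf
    exact ⟨g' * g, mul_mem hg' hg, by
      show g'.1 (g.1 v) = _
      rw [h', mem_quadIsometries.mp g.2]⟩
  have hfe : polarBilin Q f e = 1 := by rw [quad_polar_comm, h.ef]
  have hff : polarBilin Q f f = 0 := by rw [quad_polar_self, h.qf, mul_zero]
  have hee : polarBilin Q e e = 0 := by rw [quad_polar_self, h.qe, mul_zero]
  have hmemU : ∀ (x : V) (hx : polarBilin Q e x = 0), x ∈ U → ∀ y ∈ U,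
      (eich Q e x h.qe hx).1 y ∈ U := fun x hx hxU y hy => by
    rw [eich_apply]
    exact U.sub_mem (U.add_mem hy (U.smul_mem _ hxU)) (U.smul_mem _ h.he)
  by_cases hb : polarBilin Q v e = 0
  · obtain ⟨y, hyU, hy⟩ := h.sep v hv hv0
    set x := y - polarBilin Q y f • e - polarBilin Q y e • f with hxdef
    have hxU : x ∈ U := U.sub_mem (U.sub_mem hyU (U.smul_mem _ h.he)) (U.smul_mem _ h.hf)
    have hx : polarBilin Q e x = 0 := by
      simp [hxdef, hee, h.ef, quad_polar_comm Q e y]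
    refine ⟨eich Q e x h.qe hx, eich_mem Q _ _ h.he hxU, ?_, hmemU x hx hxU v hv⟩
    rw [eich_apply, hb]
    have hvx : polarBilin Q v x = polarBilin Q v y := by simp [hxdef, ha, hb]
    simp [ha, hvx, h.ef, hy]
  · obtain ⟨g₁, hg₁, h1⟩ := exists_clear h.swap hv hb
    set b := polarBilin Q v e
    have hg₁U : g₁.1 v ∈ U := by
      rw [h1]; exact U.add_mem (U.smul_mem _ h.hf) (U.smul_mem _ h.he)
    by_cases hc : Q v = 0
    · have hx : polarBilin Q e (e₂ + f₂) = 0 := by rw [map_add, h.ee₂, h.ef', add_zero]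
      refine ⟨eich Q e (e₂ + f₂) h.qe hx * g₁,
        mul_mem (eich_mem Q _ _ h.he (U.add_mem h.he₂ h.hf₂)) hg₁, ?_,
        hmemU _ hx (U.add_mem h.he₂ h.hf₂) _ hg₁U⟩
      show polarBilin Q ((eich Q e (e₂ + f₂) h.qe hx).1 (g₁.1 v)) f ≠ 0
      rw [h1, hc, zero_div, zero_smul, add_zero, eich_apply]
      simp [hfe, hff, h.fe₂, h.ff₂, h.ef, quad_add, h.qe₂, h.qf₂, h.ef₂, quad_polar_comm Q e₂ f,
        quad_polar_comm Q f₂ f]
      exact hb
    · refine ⟨g₁, hg₁, ?_, hg₁U⟩
      rw [h1]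
      simp [hff, h.ef, hc, hb]

theorem exists_eich_map (h : HypTwo Q U e f e₂ f₂) {v w : V} (hv : v ∈ U) (hv0 : v ≠ 0)
    (hw : w ∈ U) (hw0 : w ≠ 0) (hvw : Q v = Q w) : ∃ g ∈ eichGroup Q U, g.1 v = w := by
  obtain ⟨g, hg, h1⟩ := exists_eich_apply h hv hv0
  obtain ⟨g', hg', h2⟩ := exists_eich_apply h hw hw0
  refine ⟨g'⁻¹ * g, mul_mem (inv_mem hg') hg, ?_⟩
  show g'.1.symm (g.1 v) = w
  rw [LinearEquiv.symm_apply_eq, h1, h2, hvw]

theorem eich_shift {u x : V} (hu : Q u = 0) (hx : polarBilin Q u x = 0) (c : F)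
    (hx' : polarBilin Q u (x + c • u) = 0) :
    eich Q u (x + c • u) hu hx' = eich Q u x hu hx := by
  refine eich_congr Q _ _ _ _ fun y => ?_
  rw [eichLin_apply, eichLin_apply, quad_add, quad_smul, hu, map_smul, map_add, map_smul,
    quad_polar_comm Q x u, hx]
  simp only [smul_eq_mul, mul_zero, add_zero]
  module

/-- The space orthogonal to `e` and `f`. -/
def perpPair (Q : QuadraticForm F V) (e f : V) : Submodule F V :=
  LinearMap.ker (polarBilin Q e) ⊓ LinearMap.ker (polarBilin Q f)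

theorem mem_perpPair {z : V} :
    z ∈ perpPair Q e f ↔ polarBilin Q e z = 0 ∧ polarBilin Q f z = 0 := Iff.rfl

variable (Q) in
/-- Three hyperbolic pairs. -/
structure HypThree (e f e₂ f₂ e₃ f₃ : V) : Prop where
  two : HypTwo Q ⊤ e f e₂ f₂
  two' : HypTwo Q ⊤ e f e₃ f₃
  two'' : HypTwo Q ⊤ e₂ f₂ e₃ f₃

variable {e₃ f₃ : V}

theorem HypThree.perp (h : HypThree Q e f e₂ f₂ e₃ f₃) :
    HypTwo Q (perpPair Q e f) e₂ f₂ e₃ f₃ := by
  have h1 := h.two
  have h2 := h.two'
  refine ⟨⟨h1.ee₂, h1.fe₂⟩, ⟨h1.ef', h1.ff₂⟩, ⟨h2.ee₂, h2.fe₂⟩, ⟨h2.ef', h2.ff₂⟩,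
    h1.qe₂, h1.qf₂, h2.qe₂, h2.qf₂, h1.ef₂, h2.ef₂, h.two''.ee₂, h.two''.ef', h.two''.fe₂,
    h.two''.ff₂, fun z hz hz0 => ?_⟩
  obtain ⟨y, -, hy⟩ := h1.sep z trivial hz0
  obtain ⟨hze, hzf⟩ := mem_perpPair.mp hz
  refine ⟨y - polarBilin Q y f • e - polarBilin Q y e • f, mem_perpPair.mpr ⟨?_, ?_⟩, ?_⟩
  · simp [h1.ef, quad_polar_self, h1.qe, quad_polar_comm Q e y]
  · simp [quad_polar_comm Q f e, h1.ef, quad_polar_self, h1.qf, quad_polar_comm Q f y]
  · simpa [quad_polar_comm Q z e, quad_polar_comm Q z f, hze, hzf] using hy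

theorem exists_eich_of_data (h : HypThree Q e f e₂ f₂ e₃ f₃) {u x : V} (hu0 : u ≠ 0)
    (hu : Q u = 0) (hx : polarBilin Q u x = 0) :
    ∃ g ∈ eichGroup Q ⊤, g.1 u = e ∧ ∃ (z : V) (hz : z ∈ perpPair Q e f),
      g * eich Q u x hu hx * g⁻¹ = eich Q e z h.two.qe (mem_perpPair.mp hz).1 := by
  obtain ⟨g, hg, hgu⟩ := exists_eich_apply h.two (v := u) trivial hu0
  rw [hu, zero_smul, add_zero] at hgu
  set y := g.1 x
  have hye : polarBilin Q e y = 0 := by rw [← hgu, iso_polarBilin, hx]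
  set z := y + (-polarBilin Q f y) • e with hzdef
  have hz : z ∈ perpPair Q e f := mem_perpPair.mpr
    ⟨by simp [hzdef, hye, quad_polar_self, h.two.qe],
     by simp [hzdef, quad_polar_comm Q f e, h.two.ef]⟩
  refine ⟨g, hg, hgu, z, hz, ?_⟩
  rw [eich_conj, eich_shift h.two.qe hye (-polarBilin Q f y) (mem_perpPair.mp hz).1]
  exact eich_congr Q _ _ _ _ fun t => by rw [hgu]

/-- The Eichler group is perfect. -/
theorem eichGroup_le_commutator (h : HypThree Q e f e₂ f₂ e₃ f₃) :
    eichGroup Q ⊤ ≤ ⁅eichGroup Q ⊤, eichGroup Q ⊤⁆ := by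
  set E := eichGroup Q (⊤ : Submodule F V)
  let S : Set V := {x | ∀ hx : polarBilin Q e x = 0, eich Q e x h.two.qe hx ∈ ⁅E, E⁆}
  have hadd : ∀ x y : V, polarBilin Q e x = 0 → polarBilin Q e y = 0 → x ∈ S → y ∈ S →
      x + y ∈ S := by
    intro x y hx hy hxS hyS _
    have := mul_mem (hxS hx) (hyS hy)
    rwa [eich_mul] at this
  have hdiff : ∀ g ∈ eichGroup Q (perpPair Q e f), ∀ x : V, polarBilin Q e x = 0 →
      g.1 x - x ∈ S := by
    intro g hg x hx hx'
    have hge : g.1 e = e := eichGroup_fix Q hg fun z hz => (mem_perpPair.mp hz).1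
    have hgx : polarBilin Q e (g.1 x) = 0 := by
      rw [← hge, iso_polarBilin, hx]
    have hnx : polarBilin Q e (-x) = 0 := by rw [map_neg, hx, neg_zero]
    have key : eich Q e (g.1 x - x) h.two.qe hx' = ⁅g, eich Q e x h.two.qe hx⁆ := by
      rw [commutatorElement_def, eich_conj, eich_inv]
      have e1 : eich Q (g.1 e) (g.1 x) (by rw [hge, h.two.qe]) (by rw [hge, hgx]) =
          eich Q e (g.1 x) h.two.qe hgx := eich_congr Q _ _ _ _ fun t => by rw [hge]
      rw [e1, eich_mul]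
      exact eich_congr Q _ _ _ _ fun t => by rw [sub_eq_add_neg]
    rw [key]
    exact Subgroup.commutator_mem_commutator (eichGroup_le_top Q _ hg)
      (eich_mem Q _ _ trivial trivial)
  have hz0 : ∀ (e₂ f₂ e₃ f₃ : V), HypTwo Q (perpPair Q e f) e₂ f₂ e₃ f₃ →
      ∀ c : F, c • e₃ ∈ S := by
    intro e₂ f₂ e₃ f₃ h2 c
    have hp : polarBilin Q e₂ (c • e₃) = 0 := by rw [map_smul, h2.ee₂, smul_zero]
    have := hdiff _ (eich_mem Q h2.qe hp h2.he (Submodule.smul_mem _ c h2.he₂)) f₂ (mem_perpPair.mp h2.hf).1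
    rw [eich_apply] at this
    simpa [quad_polar_comm Q f₂ e₂, h2.ef, h2.fe₂, quad_smul, h2.qe₂] using this
  have h2 := h.perp
  have he2 : ∀ c : F, c • e₂ ∈ S := hz0 e₃ f₃ e₂ f₂ h2.swapPairs
  have hf2 : ∀ c : F, c • f₂ ∈ S := hz0 e₃ f₃ f₂ e₂ h2.swap.swapPairs
  have hS : ∀ z ∈ perpPair Q e f, z ∈ S := by
    intro z hz
    set a := polarBilin Q z f₂
    set b := polarBilin Q z e₂
    set w := z - a • e₂ - b • f₂ with hwdef
    have hwU : w ∈ perpPair Q e f :=
      Submodule.sub_mem _ (Submodule.sub_mem _ hz (Submodule.smul_mem _ _ h2.he)) (Submodule.smul_mem _ _ h2.hf)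
    have hw1 : polarBilin Q e₂ w = 0 := by
      simp [hwdef, quad_polar_self, h2.qe, h2.ef, quad_polar_comm Q e₂ z, b]
    have hw2 : polarBilin Q f₂ w = 0 := by
      simp [hwdef, quad_polar_self, h2.qf, h2.ef, quad_polar_comm Q f₂ e₂, quad_polar_comm Q f₂ z, a]
    have hd := hdiff _ (eich_mem Q h2.qe hw1 h2.he hwU) f₂ (mem_perpPair.mp h2.hf).1
    rw [eich_apply] at hd
    simp [quad_polar_comm Q f₂ e₂, h2.ef, hw2] at hd
    have h3 : w ∈ S := by
      have := hadd _ _ (by simp [(mem_perpPair.mp hwU).1, (mem_perpPair.mp h2.he).1]) (by simp [(mem_perpPair.mp h2.he).1]) hd (he2 (Q w))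
      have e : w - Q w • e₂ + Q w • e₂ = w := sub_add_cancel _ _
      simpa [e, add_sub_assoc] using this
    have h4 := hadd _ _ (by simp [(mem_perpPair.mp hwU).1, (mem_perpPair.mp h2.he).1]) (by simp [(mem_perpPair.mp h2.hf).1])
      (hadd _ _ (mem_perpPair.mp hwU).1 (by simp [(mem_perpPair.mp h2.he).1]) h3 (he2 a)) (hf2 b)
    rwa [show w + a • e₂ + b • f₂ = z by rw [hwdef]; abel] at h4
  refine (Subgroup.closure_le _).mpr ?_
  rintro _ ⟨u, x, hu, hx, -, -, rfl⟩
  rcases eq_or_ne u 0 with rfl | hu0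
  · have : eich Q 0 x hu hx = 1 := Subtype.ext (LinearEquiv.ext fun y => by simp [eich_apply])
    rw [this]; exact one_mem _
  obtain ⟨g, hg, -, z, hz, hgz⟩ := exists_eich_of_data h hu0 hu hx
  have hN : (⁅E, E⁆).Normal := by
    haveI := eichGroup_normal Q
    infer_instance
  have := hN.conj_mem _ (hS z hz (mem_perpPair.mp hz).1) g⁻¹
  rw [← hgz] at this
  simpa [mul_assoc] using this

variable [FiniteDimensional F V]

/-- The Eichler group is the commutator subgroup. -/
theorem eichGroup_eq_commutator (h : HypThree Q e f e₂ f₂ e₃ f₃)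
    (hQ : (polarBilin Q).Nondegenerate)
    (hexc : (∃ a : F, a ≠ 0 ∧ a ≠ 1) ∨ Module.finrank F V ≠ 4) :
    eichGroup Q ⊤ = commutator (quadIsometries Q) := by
  refine le_antisymm ((eichGroup_le_commutator h).trans
    (by rw [commutator_def]; exact Subgroup.commutator_mono le_top le_top)) ?_
  set E := eichGroup Q (⊤ : Submodule F V)
  haveI : E.Normal := eichGroup_normal Q
  let π := QuotientGroup.mk' E
  have hconj : ∀ v w : V, Q v ≠ 0 → Q w = Q v → π (refl Q v) = π (refl Q w) := by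
    intro v w hv hw
    obtain ⟨g, hg, hgv⟩ := exists_eich_map h.two (v := v) (w := w) trivial
      (fun h0 => hv (by rw [h0, map_zero])) trivial (fun h0 => hv (by rw [← hw, h0, map_zero]))
      hw.symm
    have h1 : π g = 1 := (QuotientGroup.eq_one_iff g).mpr hg
    rw [← hgv, ← refl_conj, map_mul, map_mul, map_inv, h1, one_mul, inv_one, mul_one]
  have hrep : ∀ (a b : V) (c : F), Q a = 0 → Q b = 0 → polarBilin Q a b = 1 →
      Q (a + c • b) = c := by
    intro a b c ha hb hab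
    rw [quad_add, quad_smul, ha, hb, map_smul, hab]
    simp
  have hcomm : ∀ v w : V, Q v ≠ 0 → Q w ≠ 0 →
      π (refl Q v) * π (refl Q w) = π (refl Q w) * π (refl Q v) := by
    intro v w hv hw
    rw [hconj v (e + Q v • f) hv (hrep e f _ h.two.qe h.two.qf h.two.ef),
      hconj w (e₂ + Q w • f₂) hw (hrep e₂ f₂ _ h.two.qe₂ h.two.qf₂ h.two.ef₂),
      ← map_mul, ← map_mul]
    congr 1
    have hperp : polarBilin Q (e + Q v • f) (e₂ + Q w • f₂) = 0 := by
      simp [h.two.ee₂, h.two.ef', h.two.fe₂, h.two.ff₂]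
    refine Subtype.ext (LinearEquiv.ext fun x => ?_)
    show (refl Q _).1 ((refl Q _).1 x) = (refl Q _).1 ((refl Q _).1 x)
    simp only [Geometry.refl_apply, map_sub, map_smul, smul_eq_mul,
      quad_polar_comm Q (e₂ + Q w • f₂) (e + Q v • f), hperp, mul_zero, sub_zero, zero_smul]
    abel
  have hab : ∀ a b : quadIsometries Q, π a * π b = π b * π a := by
    have htop := Geometry.closure_refl_eq_top Q hQ hexc
    intro a b
    have ha : a ∈ (⊤ : Subgroup (quadIsometries Q)) := Subgroup.mem_top a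
    have hb : b ∈ (⊤ : Subgroup (quadIsometries Q)) := Subgroup.mem_top b
    rw [← htop] at ha hb
    induction ha, hb using Subgroup.closure_induction₂ with
    | mem x y hx hy =>
      obtain ⟨v, hv, rfl⟩ := hx
      obtain ⟨w, hw, rfl⟩ := hy
      exact hcomm v w hv hw
    | one_left => simp
    | one_right => simp
    | mul_left x y z _ _ _ h1 h2 =>
      simp only [map_mul]
      rw [mul_assoc, h2, ← mul_assoc, h1, mul_assoc]
    | mul_right x y z _ _ _ h1 h2 =>
      simp only [map_mul]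
      rw [← mul_assoc, h1, mul_assoc, h2, mul_assoc]
    | inv_left x y _ _ h1 =>
      simp only [map_inv]
      exact ((show Commute (π x) (π y) from h1).inv_left).eq
    | inv_right x y _ _ h1 =>
      simp only [map_inv]
      exact ((show Commute (π x) (π y) from h1).inv_right).eq
  rw [commutator_eq_closure]
  refine (Subgroup.closure_le _).mpr ?_
  rintro _ ⟨a, b, rfl⟩
  show ⁅a, b⁆ ∈ E
  rw [← QuotientGroup.eq_one_iff (N := E)]
  show π ⁅a, b⁆ = 1
  rw [map_commutatorElement, commutatorElement_eq_one_iff_mul_comm, hab]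

/-! ### The action on singular points -/

variable (Q)

/-- Singular points. -/
def singPts : SubMulAction (eichGroup Q (⊤ : Submodule F V)) (Projectivization F V) where
  carrier := {p | Q p.rep = 0}
  smul_mem' g p (hp : Q p.rep = 0) := by
    show Q (g • p).rep = 0
    have h' : g • p.rep ≠ 0 := (smul_ne_zero_iff_ne g).mpr p.rep_nonzero
    obtain ⟨a, ha⟩ := Projectivization.exists_smul_eq_mk_rep F (g • p.rep) h'
    have e : g • p = Projectivization.mk F (g • p.rep) h' := by
      conv_lhs => rw [← Projectivization.mk_rep p]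
      rfl
    rw [e, ← ha, Units.smul_def, quad_smul, show g • p.rep = g.1.1 p.rep from rfl,
      mem_quadIsometries.mp g.1.2, hp, mul_zero]

variable {Q}

/-- The point of a singular vector. -/
def sp (u : V) (hu0 : u ≠ 0) (hu : Q u = 0) : singPts Q :=
  ⟨Projectivization.mk F u hu0, by
    show Q (Projectivization.mk F u hu0).rep = 0
    obtain ⟨a, ha⟩ := Projectivization.exists_smul_eq_mk_rep F u hu0
    rw [← ha, Units.smul_def, quad_smul, hu, mul_zero]⟩

theorem sing (p : singPts Q) : Q p.1.rep = 0 := p.2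

theorem exists_sp (p : singPts Q) : ∃ (u : V) (hu0 : u ≠ 0) (hu : Q u = 0), p = sp u hu0 hu :=
  ⟨p.1.rep, p.1.rep_nonzero, p.2, Subtype.ext (Projectivization.mk_rep _).symm⟩

theorem sp_eq_iff {u v : V} (hu0 : u ≠ 0) (hu : Q u = 0) (hv0 : v ≠ 0) (hv : Q v = 0) :
    sp u hu0 hu = sp v hv0 hv ↔ ∃ a : F, a • v = u := by
  rw [Subtype.ext_iff]
  exact Projectivization.mk_eq_mk_iff' ..

theorem smul_sp (g : eichGroup Q (⊤ : Submodule F V)) {u : V} (hu0 : u ≠ 0) (hu : Q u = 0) :
    g • sp u hu0 hu = sp (g.1.1 u) (fun h => hu0 ((map_eq_zero_iff _ g.1.1.injective).mp h))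
      (by rw [mem_quadIsometries.mp g.1.2, hu]) := rfl

theorem sp_congr {u v : V} (hu0 : u ≠ 0) (hu : Q u = 0) (h : u = v) :
    sp u hu0 hu = sp v (h ▸ hu0) (h ▸ hu) := by subst h; rfl

theorem ne_zero_of_pair {u v : V} (h : polarBilin Q u v = 1) : u ≠ 0 := by
  rintro rfl; simp at h

theorem singPts_pretransitive (h : HypThree Q e f e₂ f₂ e₃ f₃) :
    MulAction.IsPretransitive (eichGroup Q (⊤ : Submodule F V)) (singPts Q) := by
  refine ⟨fun p r => ?_⟩
  obtain ⟨u, hu0, hu, rfl⟩ := exists_sp p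
  obtain ⟨v, hv0, hv, rfl⟩ := exists_sp r
  obtain ⟨g, hg, hgu⟩ := exists_eich_map h.two (v := u) (w := v) trivial hu0 trivial hv0 (by rw [hu, hv])
  exact ⟨⟨g, hg⟩, by rw [smul_sp, sp_congr _ _ hgu]⟩

theorem singPts_preprimitive (h : HypThree Q e f e₂ f₂ e₃ f₃) :
    MulAction.IsPreprimitive (eichGroup Q (⊤ : Submodule F V)) (singPts Q) := by
  haveI := singPts_pretransitive h
  have he0 := ne_zero_of_pair h.two.ef
  have hp0 := h.perp
  -- points not perpendicular to `e`
  have fnon : ∀ w, Q w = 0 → polarBilin Q e w ≠ 0 →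
      ∃ g ∈ eichGroup Q (⊤ : Submodule F V), g.1 e = e ∧ ∃ a : F, a • w = g.1 f := by
    intro w hw hw'
    set w' := (polarBilin Q e w)⁻¹ • w with hw'def
    have h1 : polarBilin Q e w' = 1 := by rw [hw'def, map_smul, smul_eq_mul, inv_mul_cancel₀ hw']
    have hq : Q w' = 0 := by rw [hw'def, quad_smul, hw, mul_zero]
    clear_value w'
    set z := w' - f - polarBilin Q w' f • e with hzdef
    have hze : polarBilin Q e z = 0 := by
      simp [hzdef, h1, h.two.ef, quad_polar_self, h.two.qe]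
    have hzf : polarBilin Q f z = 0 := by
      simp [hzdef, quad_polar_self, h.two.qf, quad_polar_comm Q f e, h.two.ef,
        quad_polar_comm Q f w']
    refine ⟨eich Q e z h.two.qe hze, eich_mem Q _ _ trivial trivial, ?_, (polarBilin Q e w)⁻¹, ?_⟩
    · rw [eich_apply]; simp [quad_polar_self, h.two.qe, hze]
    · rw [← hw'def, eich_apply, quad_polar_comm Q f e, h.two.ef, one_smul, hzf, zero_add, mul_one]
      have hQz : Q z = -polarBilin Q w' f := by
        have hd : w' = f + z + polarBilin Q w' f • e := by rw [hzdef]; abel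
        have := congrArg Q hd
        rw [hq, quad_add, quad_add, quad_smul, h.two.qf, h.two.qe, hzf, map_smul, map_add,
          LinearMap.add_apply, quad_polar_comm Q f e, h.two.ef, quad_polar_comm Q z e, hze] at this
        simp only [smul_eq_mul] at this
        linear_combination -this
      rw [hQz, hzdef]
      module
  -- points perpendicular to `e`
  have fperp : ∀ w, Q w = 0 → polarBilin Q e w = 0 → (∀ a : F, a • e ≠ w) →
      ∃ g ∈ eichGroup Q (⊤ : Submodule F V), g.1 e = e ∧ g.1 w = e₂ := by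
    intro w hw hew hne
    set a := polarBilin Q w f with hadef
    set z := w - a • e with hzdef
    have hz : z ∈ perpPair Q e f := mem_perpPair.mpr
      ⟨by simp [hzdef, hew, quad_polar_self, h.two.qe],
       by simp [hzdef, hadef, quad_polar_comm Q f e, h.two.ef, quad_polar_comm Q f w]⟩
    have hz0 : z ≠ 0 := fun h0 => hne a (sub_eq_zero.mp h0).symm
    have hqz : Q z = 0 := by
      rw [hzdef, sub_eq_add_neg, ← neg_smul, quad_add, quad_smul, hw, h.two.qe, map_smul,
        quad_polar_comm Q w e, hew, smul_zero]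
      ring
    obtain ⟨g, hg, hgz⟩ := exists_eich_apply hp0 hz hz0
    rw [hqz, zero_smul, add_zero] at hgz
    have hge : g.1 e = e := eichGroup_fix Q hg fun x hx => hx.1
    have hx : polarBilin Q e (a • f₂) = 0 := by rw [map_smul, h.two.ef', smul_zero]
    refine ⟨eich Q e (a • f₂) h.two.qe hx * g,
      mul_mem (eich_mem Q _ _ trivial trivial) (eichGroup_le_top Q _ hg), ?_, ?_⟩
    · show (eich Q e (a • f₂) h.two.qe hx).1 (g.1 e) = e
      rw [hge, eich_apply]
      simp [quad_polar_self, h.two.qe, h.two.ef']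
    · show (eich Q e (a • f₂) h.two.qe hx).1 (g.1 w) = e₂
      rw [show g.1 w = e₂ + a • e by rw [← hgz, hzdef, map_sub, map_smul, hge, sub_add_cancel]]
      rw [eich_apply]
      simp [quad_polar_self, h.two.qe, h.two.ef₂, quad_polar_comm Q e₂ e, h.two.ee₂, h.two.ef',
        quad_smul, h.two.qf₂]
  refine ⟨fun {B} hB => ?_⟩
  rw [MulAction.IsTrivialBlock, or_iff_not_imp_left]
  intro hsub
  obtain ⟨p, hp, r, hr, hpr⟩ := Set.not_subsingleton_iff.mp hsub
  obtain ⟨g₀, hg₀⟩ := MulAction.exists_smul_eq (eichGroup Q (⊤ : Submodule F V)) p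
    (sp e he0 h.two.qe)
  suffices hC : g₀ • B = Set.univ by
    have h1 := congrArg (g₀⁻¹ • ·) hC
    simpa [inv_smul_smul] using h1
  set C := g₀ • B with hCdef
  have hC : MulAction.IsBlock (eichGroup Q (⊤ : Submodule F V)) C := hB.translate g₀
  have hpC : sp e he0 h.two.qe ∈ C := hg₀ ▸ Set.smul_mem_smul_set hp
  have hrC : g₀ • r ∈ C := Set.smul_mem_smul_set hr
  have hne : g₀ • r ≠ sp e he0 h.two.qe := fun he => hpr (by
    rw [← hg₀] at he; exact (MulAction.injective g₀ he).symm)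
  -- the relation of being collinear spreads inside the block
  have keep : ∀ (g : eichGroup Q (⊤ : Submodule F V)) (x : singPts Q), x ∈ C → g • x ∈ C →
      ∀ y ∈ C, g • y ∈ C := by
    intro g x hx hgx y hy
    rcases hC.smul_eq_or_disjoint g with e' | e'
    · rw [← e']; exact Set.smul_mem_smul_set hy
    · exact absurd hgx (Set.disjoint_left.mp e' (Set.smul_mem_smul_set hx))
  obtain ⟨w, hw0, hw, hweq⟩ := exists_sp (g₀ • r)
  rw [hweq] at hrC hne
  have hwne : ∀ a : F, a • e ≠ w := fun a ha => hne ((sp_eq_iff hw0 hw he0 h.two.qe).mpr ⟨a, ha⟩)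
  -- all points on one side of `e`, then of every point of the block
  by_cases hperp : polarBilin Q e w = 0
  · obtain ⟨g₁, hg₁, hg₁e, hg₁w⟩ := fperp w hw hperp hwne
    have side : ∀ s (hs0 : s ≠ 0) (hs : Q s = 0), polarBilin Q e s = 0 → sp s hs0 hs ∈ C := by
      intro s hs0 hs hes
      by_cases hse : ∃ a : F, a • e = s
      · rw [(sp_eq_iff hs0 hs he0 h.two.qe).mpr hse]; exact hpC
      push Not at hse
      obtain ⟨g₂, hg₂, hg₂e, hg₂s⟩ := fperp s hs hes hse
      set g : eichGroup Q (⊤ : Submodule F V) := ⟨g₂⁻¹ * g₁, mul_mem (inv_mem hg₂) hg₁⟩ with hg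
      have hge : g.1.1 e = e := by
        show g₂.1.symm (g₁.1 e) = e
        rw [hg₁e, LinearEquiv.symm_apply_eq, hg₂e]
      have hgw : g.1.1 w = s := by
        show g₂.1.symm (g₁.1 w) = s
        rw [hg₁w, LinearEquiv.symm_apply_eq, hg₂s]
      have := keep g _ hpC (by rw [smul_sp, sp_congr _ _ hge]; exact hpC) _ hrC
      rwa [smul_sp, sp_congr _ _ hgw] at this
    refine Set.eq_univ_of_forall fun x => ?_
    obtain ⟨s, hs0, hs, rfl⟩ := exists_sp x
    by_cases hes : polarBilin Q e s = 0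
    · exact side s hs0 hs hes
    obtain ⟨g, hg, hge, a, ha⟩ := fnon s hs hes
    have he20 := ne_zero_of_pair h.two.ef₂
    set y := g.1 e₂ with hy
    have hy0 : y ≠ 0 := fun h0 => he20 ((map_eq_zero_iff _ g.1.injective).mp h0)
    have hqy : Q y = 0 := by rw [hy, mem_quadIsometries.mp g.2, h.two.qe₂]
    have hyC : sp y hy0 hqy ∈ C := side y hy0 hqy (by rw [hy, ← hge, iso_polarBilin, h.two.ee₂])
    -- move `e` to `y`; perpendicular points of `y` lie in the block
    obtain ⟨k, hk, hky⟩ := exists_eich_map h.two (v := e) (w := y) trivial he0 trivial hy0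
      (by rw [hqy, h.two.qe])
    have hys : polarBilin Q y s = 0 := by
      have h1 : polarBilin Q y (a • s) = 0 := by rw [hy, ha, iso_polarBilin, quad_polar_comm, h.two.fe₂]
      rw [map_smul, smul_eq_mul] at h1
      exact (mul_eq_zero.mp h1).resolve_left (fun h0 => by
        rw [h0, zero_smul, eq_comm, map_eq_zero_iff _ g.1.injective] at ha
        exact ne_zero_of_pair (show polarBilin Q f e = 1 by rw [quad_polar_comm, h.two.ef]) ha)
    have hs'0 : k.1.symm s ≠ 0 := fun h0 => hs0 ((map_eq_zero_iff _ k.1.symm.injective).mp h0)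
    have hks : Q (k.1.symm s) = 0 := by
      rw [← mem_quadIsometries.mp k.2, k.1.apply_symm_apply, hs]
    have hmem : sp (k.1.symm s) hs'0 hks ∈ C := by
      refine side _ _ _ ?_
      rw [← iso_polarBilin Q k, hky, k.1.apply_symm_apply, hys]
    have := keep ⟨k, hk⟩ _ hpC (by rw [smul_sp, sp_congr _ _ hky]; exact hyC) _ hmem
    rwa [smul_sp, sp_congr _ _ (k.1.apply_symm_apply s)] at this
  · obtain ⟨g₁, hg₁, hg₁e, a₁, hg₁w⟩ := fnon w hw hperp
    have hf0 := ne_zero_of_pair (show polarBilin Q f e = 1 by rw [quad_polar_comm, h.two.ef])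
    have side : ∀ s (hs0 : s ≠ 0) (hs : Q s = 0), polarBilin Q e s ≠ 0 → sp s hs0 hs ∈ C := by
      intro s hs0 hs hes
      obtain ⟨g₂, hg₂, hg₂e, a₂, hg₂s⟩ := fnon s hs hes
      set g : eichGroup Q (⊤ : Submodule F V) := ⟨g₂ * g₁⁻¹, mul_mem hg₂ (inv_mem hg₁)⟩ with hg
      have hge : g.1.1 e = e := by
        show g₂.1 (g₁.1.symm e) = e
        rw [(LinearEquiv.symm_apply_eq _).mpr hg₁e.symm, hg₂e]
      have hgw : a₁ • g.1.1 w = a₂ • s := by
        show a₁ • g₂.1 (g₁.1.symm w) = a₂ • s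
        rw [← map_smul, ← map_smul, hg₁w, g₁.1.symm_apply_apply, hg₂s]
      have hmem := keep g _ hpC (by rw [smul_sp, sp_congr _ _ hge]; exact hpC) _ hrC
      rw [smul_sp] at hmem
      convert hmem using 1
      rw [sp_eq_iff]
      have ha₂ : a₂ ≠ 0 := fun h0 => by
        rw [h0, zero_smul, eq_comm, map_eq_zero_iff _ g₂.1.injective] at hg₂s
        exact hf0 hg₂s
      exact ⟨a₂⁻¹ * a₁, by rw [mul_smul, hgw, inv_smul_smul₀ ha₂]⟩
    refine Set.eq_univ_of_forall fun x => ?_
    obtain ⟨s, hs0, hs, rfl⟩ := exists_sp x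
    by_cases hes : polarBilin Q e s = 0
    swap
    · exact side s hs0 hs hes
    by_cases hse : ∃ a : F, a • e = s
    · rw [(sp_eq_iff hs0 hs he0 h.two.qe).mpr hse]; exact hpC
    push Not at hse
    obtain ⟨g, hg, hge, hgs⟩ := fperp s hs hes hse
    set y := g.1.symm (f + f₂) with hy
    have hq' : Q (f + f₂) = 0 := by rw [quad_add, h.two.qf, h.two.qf₂, h.two.ff₂]; simp
    have hey : polarBilin Q e y = 1 := by
      rw [← iso_polarBilin Q g, hge, hy, g.1.apply_symm_apply, map_add, h.two.ef, h.two.ef', add_zero]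
    have hsy : polarBilin Q y s = 1 := by
      rw [← iso_polarBilin Q g, hgs, hy, g.1.apply_symm_apply, map_add, LinearMap.add_apply,
        h.two.fe₂, quad_polar_comm Q f₂ e₂, h.two.ef₂, zero_add]
    have hy0 : y ≠ 0 := ne_zero_of_pair hsy
    have hqy : Q y = 0 := by
      rw [← mem_quadIsometries.mp g.2, hy, g.1.apply_symm_apply, hq']
    have hyC : sp y hy0 hqy ∈ C := side y hy0 hqy (by rw [hey]; exact one_ne_zero)
    obtain ⟨k, hk, hky⟩ := exists_eich_map h.two (v := e) (w := y) trivial he0 trivial hy0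
      (by rw [hqy, h.two.qe])
    have hs'0 : k.1.symm s ≠ 0 := fun h0 => hs0 ((map_eq_zero_iff _ k.1.symm.injective).mp h0)
    have hks : Q (k.1.symm s) = 0 := by
      rw [← mem_quadIsometries.mp k.2, k.1.apply_symm_apply, hs]
    have hmem : sp (k.1.symm s) hs'0 hks ∈ C := by
      refine side _ _ _ ?_
      rw [← iso_polarBilin Q k, hky, k.1.apply_symm_apply, hsy]
      exact one_ne_zero
    have := keep ⟨k, hk⟩ _ hpC (by rw [smul_sp, sp_congr _ _ hky]; exact hyC) _ hmem
    rwa [smul_sp, sp_congr _ _ (k.1.apply_symm_apply s)] at this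

/-- The root group of a point. -/
def rootSub (p : singPts Q) : Subgroup (eichGroup Q (⊤ : Submodule F V)) where
  carrier := {a | ∃ (x : V) (hx : polarBilin Q p.1.rep x = 0), a.1 = eich Q p.1.rep x (sing p) hx}
  one_mem' := ⟨0, map_zero _, Subtype.ext (LinearEquiv.ext fun y => by simp [eich_apply])⟩
  mul_mem' := by
    rintro a b ⟨x, hx, ha⟩ ⟨y, hy, hb⟩
    exact ⟨x + y, by rw [map_add, hx, hy, add_zero], by
      rw [Subgroup.coe_mul, ha, hb, eich_mul]⟩
  inv_mem' := by
    rintro a ⟨x, hx, ha⟩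
    exact ⟨-x, by rw [map_neg, hx, neg_zero], by rw [Subgroup.coe_inv, ha, eich_inv]⟩

theorem eich_mem_rootSub (p : singPts Q) {u x : V} (c : F) (hc : c • p.1.rep = u)
    (hu : Q u = 0) (hx : polarBilin Q u x = 0) :
    (⟨eich Q u x hu hx, eich_mem Q _ _ trivial trivial⟩ : eichGroup Q (⊤ : Submodule F V)) ∈
      rootSub p := by
  rcases eq_or_ne c 0 with rfl | hc0
  · rw [zero_smul] at hc
    subst hc
    exact ⟨0, map_zero _, Subtype.ext (LinearEquiv.ext fun y => by simp [eich_apply])⟩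
  have h1 : polarBilin Q p.1.rep (c • x) = 0 := by
    rw [← hc, map_smul, LinearMap.smul_apply] at hx
    rw [map_smul]; exact hx
  refine ⟨c • x, h1, eich_congr Q hu hx (sing p) h1 fun y => ?_⟩
  subst hc
  simp only [eichLin_apply, map_smul, quad_smul, smul_eq_mul]
  module

/-- Simplicity of `Ω(V)` modulo its centre. -/
theorem isSimpleGroup_eichGroup (h : HypThree Q e f e₂ f₂ e₃ f₃) :
    IsSimpleGroup (eichGroup Q (⊤ : Submodule F V) ⧸
      Subgroup.center (eichGroup Q (⊤ : Submodule F V))) := by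
  haveI := singPts_preprimitive h
  haveI := singPts_pretransitive h
  have he0 := ne_zero_of_pair h.two.ef
  refine isSimpleGroup_quotient_center_of_iwasawa rootSub ?_ ?_ ?_ ?_ ?_ ?_ ?_
  · rintro p a ⟨x, hx, ha⟩ b ⟨y, hy, hb⟩
    refine Subtype.ext ?_
    rw [Subgroup.coe_mul, Subgroup.coe_mul, ha, hb, eich_mul, eich_mul]
    exact eich_congr Q _ _ _ _ fun t => by rw [add_comm x y]
  · rintro g p a ⟨x, hx, ha⟩
    have hne : g.1.1 p.1.rep ≠ 0 := fun h0 => p.1.rep_nonzero ((map_eq_zero_iff _ g.1.1.injective).mp h0)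
    obtain ⟨c, hc⟩ : ∃ c : F, c • (g • p).1.rep = g.1.1 p.1.rep := by
      have e1 : (g • p).1 = Projectivization.mk F (g.1.1 p.1.rep) hne := by
        show g • p.1 = _
        conv_lhs => rw [← Projectivization.mk_rep p.1]
        rfl
      obtain ⟨c, hc⟩ := Projectivization.exists_smul_eq_mk_rep F _ hne
      refine ⟨(c⁻¹ : Fˣ), ?_⟩
      rw [e1, ← hc, Units.smul_def, smul_smul, ← Units.val_mul, inv_mul_cancel, Units.val_one, one_smul]
    have hmem := eich_mem_rootSub (g • p) (x := g.1.1 x) c hc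
      (by rw [mem_quadIsometries.mp g.1.2]; exact (sing p)) (by rw [iso_polarBilin, hx])
    convert hmem using 1
    refine Subtype.ext ?_
    show g.1 * a.1 * g.1⁻¹ = _
    rw [ha, eich_conj]
  · rw [eq_top_iff]
    rintro ⟨g, hg⟩ -
    have key : g ∈ (⨆ p : singPts Q, rootSub p).map (eichGroup Q (⊤ : Submodule F V)).subtype := by
      refine (Subgroup.closure_le _).mpr ?_ hg
      rintro _ ⟨u, x, hu, hx, -, -, rfl⟩
      rcases eq_or_ne u 0 with rfl | hu0
      · exact ⟨1, one_mem _, Subtype.ext (LinearEquiv.ext fun y => by simp [eich_apply])⟩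
      obtain ⟨c, hc⟩ := Projectivization.exists_smul_eq_mk_rep F u hu0
      refine ⟨_, Subgroup.mem_iSup_of_mem (sp u hu0 hu) (eich_mem_rootSub (sp u hu0 hu) ((c⁻¹ : Fˣ) : F) ?_ hu hx), rfl⟩
      show ((c⁻¹ : Fˣ) : F) • (Projectivization.mk F u hu0).rep = u
      rw [← hc, Units.smul_def, smul_smul, ← Units.val_mul, inv_mul_cancel, Units.val_one, one_smul]
    obtain ⟨a, ha, hag⟩ := key
    obtain rfl : a = ⟨g, hg⟩ := Subtype.ext hag
    exact ha
  · rw [commutator_def, eq_top_iff]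
    rintro ⟨g, hg⟩ -
    have h1 := eichGroup_le_commutator h hg
    rw [← Subgroup.map_subtype_commutator] at h1
    obtain ⟨a, ha, hag⟩ := h1
    obtain rfl : a = ⟨g, hg⟩ := Subtype.ext hag
    rwa [commutator_def] at ha
  · intro z hz p
    obtain ⟨g, hg⟩ := MulAction.exists_smul_eq (eichGroup Q (⊤ : Submodule F V)) (sp e he0 h.two.qe) p
    suffices hfix : z • sp e he0 h.two.qe = sp e he0 h.two.qe by
      rw [← hg, ← mul_smul, ← Subgroup.mem_center_iff.mp hz g, mul_smul, hfix]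
    rw [smul_sp, sp_eq_iff]
    have key : ∀ (e' f' : V), HypTwo Q ⊤ e f e' f' →
        z.1.1 e = polarBilin Q (z.1.1 f') e' • e -
          (polarBilin Q (z.1.1 f') e) • e' := by
      intro e' f' h2
      have hc := congrArg (fun t : eichGroup Q (⊤ : Submodule F V) => t.1.1 (-f'))
        (Subgroup.mem_center_iff.mp hz ⟨eich Q e e' h2.qe h2.ee₂, eich_mem Q _ _ trivial trivial⟩)
      change (eich Q e e' h2.qe h2.ee₂).1 (z.1.1 (-f')) = z.1.1 ((eich Q e e' h2.qe h2.ee₂).1 (-f')) at hc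
      rw [eich_apply, eich_apply] at hc
      simp [quad_polar_comm Q f' e, h2.ef', quad_polar_comm Q f' e', h2.ef₂, h2.qe₂] at hc
      linear_combination (norm := module) -hc
    have k2 := key e₂ f₂ h.two
    have k3 := key e₃ f₃ h.two'
    have hcoef : polarBilin Q (z.1.1 f₂) e = 0 := by
      have h2 := congrArg (fun t => polarBilin Q t f₂) k2
      have h3 := congrArg (fun t => polarBilin Q t f₂) k3
      simp [h.two.ef₂, h.two.ef', quad_polar_comm Q e₃ f₂, h.two''.fe₂] at h2 h3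
      rw [h3] at h2
      simpa using h2.symm
    rw [hcoef, zero_smul, sub_zero] at k2
    exact ⟨_, k2.symm⟩
  · rintro p a ⟨x, hx, ha⟩ hall
    refine Subtype.ext ?_
    rw [ha]
    obtain ⟨g, hg, hgu, z, hz, hgz⟩ := exists_eich_of_data h p.1.rep_nonzero (sing p) hx
    have hfixz : ∀ (u : V) (hu0 : u ≠ 0) (hu : Q u = 0),
        ∃ c : F, c • u = (eich Q e z h.two.qe (mem_perpPair.mp hz).1).1 u := by
      intro u hu0 hu
      have hg0 : g.1.symm u ≠ 0 := fun h0 => hu0 ((map_eq_zero_iff _ g.1.symm.injective).mp h0)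
      have hgq : Q (g.1.symm u) = 0 := by
        rw [← mem_quadIsometries.mp g.2, g.1.apply_symm_apply, hu]
      have h1 := hall (sp (g.1.symm u) hg0 hgq)
      rw [smul_sp, sp_eq_iff] at h1
      obtain ⟨c, hc⟩ := h1
      refine ⟨c, ?_⟩
      rw [← hgz]
      show c • u = g.1 ((eich Q p.1.rep x (sing p) hx).1 (g.1.symm u))
      rw [← ha, ← hc, map_smul, g.1.apply_symm_apply]
    have hfe : polarBilin Q f e = 1 := by rw [quad_polar_comm, h.two.ef]
    obtain ⟨c, hc⟩ := hfixz f (ne_zero_of_pair hfe) h.two.qf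
    rw [eich_apply, hfe, one_smul, mem_perpPair.mp hz |>.2, zero_add, mul_one] at hc
    have hc1 : c = 1 := by
      have := congrArg (fun t => polarBilin Q t e) hc
      simp [hfe, quad_polar_self, h.two.qe, quad_polar_comm Q z e, (mem_perpPair.mp hz).1] at this
      exact this
    rw [hc1, one_smul] at hc
    have hQz : Q z = 0 := by
      have := congrArg (fun t => polarBilin Q t f) hc
      simp [h.two.ef, quad_polar_self, h.two.qf, quad_polar_comm Q z f, (mem_perpPair.mp hz).2] at this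
      exact this
    rw [hQz, zero_smul, sub_zero, eq_comm, add_eq_left] at hc
    have h1 : eich Q e z h.two.qe (mem_perpPair.mp hz).1 = 1 :=
      Subtype.ext (LinearEquiv.ext fun y => by subst hc; simp [eich_apply])
    rw [h1] at hgz
    rw [mul_inv_eq_one] at hgz
    show eich Q p.1.rep x (sing p) hx = 1
    exact mul_eq_left.mp hgz
  · have hf0 := ne_zero_of_pair (show polarBilin Q f e = 1 by rw [quad_polar_comm, h.two.ef])
    obtain ⟨g, hg⟩ := MulAction.exists_smul_eq (eichGroup Q (⊤ : Submodule F V))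
      (sp e he0 h.two.qe) (sp f hf0 h.two.qf)
    refine ⟨g, sp e he0 h.two.qe, fun heq => ?_⟩
    rw [hg, sp_eq_iff] at heq
    obtain ⟨a, ha⟩ := heq
    have := congrArg (polarBilin Q e) ha
    simp [quad_polar_self, h.two.qe, h.two.ef] at this

/-- `PΩ(V)` is simple. -/
theorem isSimpleGroup_commutator (h : HypThree Q e f e₂ f₂ e₃ f₃)
    (hQ : (polarBilin Q).Nondegenerate)
    (hexc : (∃ a : F, a ≠ 0 ∧ a ≠ 1) ∨ Module.finrank F V ≠ 4) :
    IsSimpleGroup (commutator (quadIsometries Q) ⧸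
      Subgroup.center (commutator (quadIsometries Q))) :=
  eichGroup_eq_commutator h hQ hexc ▸ isSimpleGroup_eichGroup h

end Cfsg.Agent.Lib.Classical
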