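import Mathlib

/-!
Listing the elements of an explicitly generated finite group, checkable by the kernel.
-/

set_option autoImplicit false

namespace Cfsg.Agent.Lib.Classical

variable {α : Type*} [DecidableEq α]

/-- Append the elements of `new` that are not already present. -/
def addNew (l : List α) : List α → List α
  | [] => l
  | a :: as => if a ∈ l then addNew l as else addNew (a :: l) as

/-- One breadth-first step. -/
def genStep (op : α → α → α) (gens l : List α) : List α :=
  addNew l (l.flatMap fun x => gens.map fun g => op x g)

/-- The elements reached in `k` steps. -/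
def genList (op : α → α → α) (one : α) (gens : List α) : ℕ → List α
  | 0 => [one]
  | k + 1 => genStep op gens (genList op one gens k)

theorem mem_addNew {l new : List α} {a : α} : a ∈ addNew l new ↔ a ∈ l ∨ a ∈ new := by
  induction new generalizing l with
  | nil => simp [addNew]
  | cons b bs ih =>
    rw [addNew]
    split_ifs with h
    · rw [ih, List.mem_cons]
      constructor
      · tauto
      · rintro (h' | rfl | h')
        · exact Or.inl h'
        · exact Or.inl h
        · exact Or.inr h'
    · rw [ih, List.mem_cons, List.mem_cons]
      tauto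

theorem nodup_addNew {l new : List α} (h : l.Nodup) : (addNew l new).Nodup := by
  induction new generalizing l with
  | nil => exact h
  | cons b bs ih =>
    rw [addNew]
    split_ifs with hb
    · exact ih h
    · exact ih (List.nodup_cons.mpr ⟨hb, h⟩)

theorem nodup_genList (op : α → α → α) (one : α) (gens : List α) :
    ∀ k, (genList op one gens k).Nodup
  | 0 => List.nodup_singleton _
  | k + 1 => nodup_addNew (nodup_genList op one gens k)

theorem genList_mono (op : α → α → α) (one : α) (gens : List α) {j k : ℕ} (h : j ≤ k) :
    ∀ a ∈ genList op one gens j, a ∈ genList op one gens k := by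
  induction h with
  | refl => exact fun a ha => ha
  | step _ ih => exact fun a ha => mem_addNew.mpr (Or.inl (ih a ha))

variable {G : Type*} [Group G]

/-- If the list is closed under the generators and maps injectively, it enumerates the generated
subgroup. -/
theorem coe_closure_eq_genList [Finite G] (op : α → α → α) (one : α) (gens : List α) (φ : α → G)
    (k : ℕ) (h1 : φ one = 1)
    (hmul : ∀ x ∈ genList op one gens k, ∀ g ∈ gens, φ (op x g) = φ x * φ g)
    (hclosed : ∀ x ∈ genList op one gens k, ∀ g ∈ gens, op x g ∈ genList op one gens k) :
    (Subgroup.closure (φ '' {g | g ∈ gens}) : Set G) = φ '' {x | x ∈ genList op one gens k} := by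
  have hsub : ∀ j ≤ k, ∀ a ∈ genList op one gens j,
      φ a ∈ Subgroup.closure (φ '' {g | g ∈ gens}) := by
    intro j
    induction j with
    | zero =>
      intro _ a ha
      rw [genList, List.mem_singleton] at ha
      rw [ha, h1]
      exact one_mem _
    | succ j ih =>
      intro hj a ha
      rcases mem_addNew.mp ha with ha | ha
      · exact ih (Nat.le_of_succ_le hj) a ha
      · obtain ⟨x, hx, ha⟩ := List.mem_flatMap.mp ha
        obtain ⟨g, hg, rfl⟩ := List.mem_map.mp ha
        rw [hmul x (genList_mono op one gens (Nat.le_of_succ_le hj) x hx) g hg]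
        exact mul_mem (ih (Nat.le_of_succ_le hj) x hx) (Subgroup.subset_closure ⟨g, hg, rfl⟩)
  refine Set.Subset.antisymm (fun y hy => ?_) (by rintro _ ⟨a, ha, rfl⟩; exact hsub k le_rfl a ha)
  have hy' : y ∈ Submonoid.closure (φ '' {g | g ∈ gens}) := by
    rw [← Subgroup.closure_toSubmonoid_of_finite]
    exact hy
  induction hy' using Submonoid.closure_induction_right with
  | one => exact ⟨one, genList_mono op one gens (Nat.zero_le k) one (by simp [genList]), h1⟩
  | mul_right x hx z hz ih =>
    obtain ⟨g, hg, rfl⟩ := hz
    obtain ⟨a, ha, rfl⟩ := ih (by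
      rw [SetLike.mem_coe, ← Subgroup.mem_toSubmonoid, Subgroup.closure_toSubmonoid_of_finite]
      exact hx)
    exact ⟨op a g, hclosed a ha g hg, hmul a ha g hg⟩

/-- The order of the generated subgroup. -/
theorem card_closure_eq_genList_length [Finite G] (op : α → α → α) (one : α) (gens : List α)
    (φ : α → G) (k : ℕ) (h1 : φ one = 1)
    (hmul : ∀ x ∈ genList op one gens k, ∀ g ∈ gens, φ (op x g) = φ x * φ g)
    (hclosed : ∀ x ∈ genList op one gens k, ∀ g ∈ gens, op x g ∈ genList op one gens k)
    (hinj : Set.InjOn φ {x | x ∈ genList op one gens k}) :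
    Nat.card (Subgroup.closure (φ '' {g | g ∈ gens})) = (genList op one gens k).length := by
  rw [← List.toFinset_card_of_nodup (nodup_genList op one gens k), ← Nat.card_eq_finsetCard]
  have hset : ((genList op one gens k).toFinset : Set α) = {x | x ∈ genList op one gens k} :=
    List.coe_toFinset _
  refine (Nat.card_congr (Equiv.setCongr (coe_closure_eq_genList op one gens φ k h1 hmul hclosed))).trans ?_
  rw [Nat.card_image_of_injOn hinj, ← hset]
  rfl

end Cfsg.Agent.Lib.Classical
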