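import Mathlib

/-!
Counting zeros of quadratic forms with split hyperbolic planes.
-/

set_option autoImplicit false

namespace Cfsg.Agent.Lib.Classical

variable {F : Type*} [Field F]

/-- Solutions of `c + x * y = 0`. -/
theorem card_mul_eq_sol [Fintype F] [DecidableEq F] (c : F) :
    Nat.card {p : F × F // c + p.1 * p.2 = 0} =
      if c = 0 then 2 * Fintype.card F - 1 else Fintype.card F - 1 := by
  classical
  split_ifs with hc
  · subst hc
    rw [Nat.card_eq_fintype_card, Fintype.card_subtype]
    have : ({p : F × F | (0 : F) + p.1 * p.2 = 0} : Finset _) =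
        ({(0 : F)} ×ˢ Finset.univ) ∪ (Finset.univ ×ˢ {(0 : F)}) := by
      ext ⟨x, y⟩
      simp [eq_comm]
    rw [this]
    have h := Finset.card_union_add_card_inter
      (({(0 : F)} : Finset F) ×ˢ (Finset.univ : Finset F)) (Finset.univ ×ˢ {(0 : F)})
    rw [Finset.product_inter_product, Finset.inter_univ, Finset.univ_inter, Finset.card_product,
      Finset.card_product, Finset.card_product, Finset.card_singleton, Finset.card_univ] at h
    have := Fintype.card_pos (α := F)
    omega
  · rw [← Nat.card_eq_fintype_card (α := F), ← Nat.card_units F]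
    refine Nat.card_congr
      { toFun := fun p => Units.mk0 p.1.1 (by
          intro h
          have := p.2
          rw [h, zero_mul, add_zero] at this
          exact hc this)
        invFun := fun u => ⟨((u : F), -c * ((u⁻¹ : Fˣ) : F)), by
          simp [mul_comm (u : F), mul_assoc]⟩
        left_inv := ?_
        right_inv := fun u => Units.ext rfl }
    rintro ⟨⟨x, y⟩, hp⟩
    have hx : x ≠ 0 := by
      intro h
      simp [h] at hp
      exact hc hp
    apply Subtype.ext
    simp only [Units.val_mk0, Units.val_inv_eq_inv_val, Prod.mk.injEq, true_and]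
    field_simp
    linear_combination -hp

/-- Adding a hyperbolic plane to a form with `Z` zeros on a set of size `N` gives
`q Z + (q-1) N` zeros. -/
theorem card_zeros_add_hyperbolic [Fintype F] {α : Type*} [Finite α] (Q : α → F) :
    Nat.card {x : α × F × F // Q x.1 + x.2.1 * x.2.2 = 0} =
      Fintype.card F * Nat.card {a : α // Q a = 0} + (Fintype.card F - 1) * Nat.card α := by
  classical
  haveI := Fintype.ofFinite α
  rw [Nat.card_congr (Equiv.subtypeProdEquivSigmaSubtype
    (fun (a : α) (p : F × F) => Q a + p.1 * p.2 = 0)), Nat.card_sigma]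
  simp only [card_mul_eq_sol]
  rw [Finset.sum_ite, Finset.sum_const, Finset.sum_const, smul_eq_mul, smul_eq_mul,
    Nat.card_eq_fintype_card, Fintype.card_subtype]
  have h := Finset.card_filter_add_card_filter_not (s := (Finset.univ : Finset α)) (fun a => Q a = 0)
  rw [Finset.card_univ, ← Nat.card_eq_fintype_card (α := α)] at h
  rw [← h, Nat.mul_add]
  have h1 : 1 ≤ Fintype.card F := Fintype.card_pos
  zify [h1, (by omega : 1 ≤ 2 * Fintype.card F)]
  ring

/-- Iteration: adding `k` hyperbolic planes to a form `Q` on `α`. -/
theorem card_zeros_hyperbolic_iter [Fintype F] {α : Type*} [Finite α] (Q : α → F) (k : ℕ) :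
    Fintype.card F * Nat.card {v : ((Fin k → F) × (Fin k → F)) × α //
        (∑ i, v.1.1 i * v.1.2 i) + Q v.2 = 0} + Fintype.card F ^ k * Nat.card α =
      Fintype.card F ^ (k + 1) * Nat.card {a : α // Q a = 0} +
        Fintype.card F ^ (2 * k) * Nat.card α := by
  induction k with
  | zero =>
    have : Nat.card {v : ((Fin 0 → F) × (Fin 0 → F)) × α //
        (∑ i, v.1.1 i * v.1.2 i) + Q v.2 = 0} = Nat.card {a : α // Q a = 0} :=
      Nat.card_congr
        { toFun := fun v => ⟨v.1.2, by simpa using v.2⟩
          invFun := fun a => ⟨((finZeroElim, finZeroElim), a.1), by simpa using a.2⟩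
          left_inv := fun v => Subtype.ext (Prod.ext (Subsingleton.elim _ _) rfl)
          right_inv := fun a => rfl }
    rw [this]; simp
  | succ k ih =>
    have e : Nat.card {v : ((Fin (k + 1) → F) × (Fin (k + 1) → F)) × α //
        (∑ i, v.1.1 i * v.1.2 i) + Q v.2 = 0} =
        Nat.card {x : (((Fin k → F) × (Fin k → F)) × α) × F × F //
          ((∑ i, x.1.1.1 i * x.1.1.2 i) + Q x.1.2) + x.2.1 * x.2.2 = 0} := by
      refine Nat.card_congr
        { toFun := fun v => ⟨(((Fin.tail v.1.1.1, Fin.tail v.1.1.2), v.1.2), v.1.1.1 0, v.1.1.2 0), ?_⟩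
          invFun := fun x => ⟨((Fin.cons x.1.2.1 x.1.1.1.1, Fin.cons x.1.2.2 x.1.1.1.2), x.1.1.2), ?_⟩
          left_inv := fun v => Subtype.ext (by simp)
          right_inv := fun x => Subtype.ext (by simp) }
      · have h := v.2
        rw [Fin.sum_univ_succ] at h
        simp only [Fin.tail]
        linear_combination h
      · have h := x.2
        rw [Fin.sum_univ_succ]
        simp only [Fin.cons_zero, Fin.cons_succ]
        linear_combination h
    rw [e, card_zeros_add_hyperbolic (fun x : ((Fin k → F) × (Fin k → F)) × α =>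
      (∑ i, x.1.1 i * x.1.2 i) + Q x.2)]
    have hcard : Nat.card (((Fin k → F) × (Fin k → F)) × α) =
        Fintype.card F ^ (2 * k) * Nat.card α := by
      simp only [Nat.card_prod, Nat.card_fun, Nat.card_fin, Nat.card_eq_fintype_card (α := F)]
      rw [two_mul, pow_add]
    rw [hcard]
    have h1 : 1 ≤ Fintype.card F := Fintype.card_pos
    zify [h1] at ih ⊢
    linear_combination (Fintype.card F : ℤ) * ih

end Cfsg.Agent.Lib.Classical
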