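import Cfsg.Agent.Lib.Classical.OrthLow
import Cfsg.Agent.Lib.Classical.POmegaCard
import Cfsg.Agent.Lib.Geometry.OrthQuotient

/-!
`PΩ⁺₄(q) ≅ PSL₂(q) × PSL₂(q)`: two-sided multiplication on `2 × 2` matrices with the determinant.
-/

set_option autoImplicit false

namespace Cfsg.Agent.Lib.Classical

open Matrix
open scoped commutatorElement

variable {F : Type*} [Field F]

theorem exists_ne_zero_one [Fintype F] (h : 3 ≤ Fintype.card F) : ∃ a : F, a ≠ 0 ∧ a ≠ 1 := by
  classical
  by_contra hcon
  push Not at hcon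
  have : (Finset.univ : Finset F) ⊆ {0, 1} := fun x _ => by
    by_cases hx : x = 0
    · simp [hx]
    · simp [hcon x hx]
  have := (Finset.card_le_card this).trans Finset.card_le_two
  rw [Finset.card_univ] at this
  omega

/-- The second centre of `SL₂` is the centre. -/
theorem mem_center_SL2_of_commutator [Fintype F] (h3 : 3 ≤ Fintype.card F)
    {g : SpecialLinearGroup (Fin 2) F}
    (hg : ∀ x, ⁅g, x⁆ ∈ Subgroup.center (SpecialLinearGroup (Fin 2) F)) :
    g ∈ Subgroup.center (SpecialLinearGroup (Fin 2) F) := by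
  classical
  obtain ⟨a, ha0, ha1⟩ := exists_ne_zero_one h3
  by_cases h2 : (2 : F) = 0
  · refine mem_center_of_perfect (Matrix.SL2.commutator_eq_top (a := a) ha0 ?_) hg
    intro hsq
    have : (a - 1) ^ 2 = 0 := by linear_combination hsq + (1 - a) * h2
    exact ha1 (sub_eq_zero.mp (eq_zero_of_pow_eq_zero this))
  have key : ∀ t : SpecialLinearGroup (Fin 2) F, (t : Matrix (Fin 2) (Fin 2) F).trace = 2 →
      Commute g t := by
    intro t ht
    obtain ⟨r, hr, hrt⟩ := Matrix.SpecialLinearGroup.mem_center_iff.mp (hg t)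
    have hgt : g * t * g⁻¹ = ⁅g, t⁆ * t := by rw [commutatorElement_def]; group
    have htr := congrArg (fun M : SpecialLinearGroup (Fin 2) F =>
      (M : Matrix (Fin 2) (Fin 2) F).trace) hgt
    simp only [Matrix.SpecialLinearGroup.coe_mul] at htr
    rw [Matrix.trace_mul_cycle, ← Matrix.SpecialLinearGroup.coe_mul, inv_mul_cancel,
      Matrix.SpecialLinearGroup.coe_one, one_mul, ht, ← hrt] at htr
    rw [show (scalar (Fin 2) r * (t : Matrix (Fin 2) (Fin 2) F)).trace = r * 2 by
      rw [Matrix.scalar_apply, ← Matrix.smul_eq_diagonal_mul, Matrix.trace_smul, ht, smul_eq_mul]] at htr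
    have hr1 : r = 1 := mul_right_cancel₀ h2 (by linear_combination -htr)
    have hc : ⁅g, t⁆ = 1 := Subtype.ext (by rw [← hrt, hr1, map_one]; rfl)
    exact commutatorElement_eq_one_iff_commute.mp hc
  rw [Subgroup.mem_center_iff]
  intro x
  have htop : Subgroup.centralizer ({g} : Set (SpecialLinearGroup (Fin 2) F)) = ⊤ := by
    refine SL_eq_top_of_transvection_mem fun i j hij b => ?_
    rw [Subgroup.mem_centralizer_singleton_iff]
    refine (key _ ?_).eq.symm
    simp [Matrix.SpecialLinearGroup.transvection, Matrix.transvection, Matrix.trace_fin_two,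
      Matrix.single_apply]
    fin_cases i <;> fin_cases j <;> simp_all [one_add_one_eq_two]
  exact Subgroup.mem_centralizer_singleton_iff.mp (htop ▸ Subgroup.mem_top x)

/-- Coordinates on `2 × 2` matrices for which the determinant is the standard plus form. -/
def fourEquiv : (Fin 2 ⊕ Fin 2 → F) ≃ₗ[F] Matrix (Fin 2) (Fin 2) F where
  toFun v := !![v (.inl 0), v (.inl 1); -v (.inr 1), v (.inr 0)]
  map_add' u v := by ext i j; fin_cases i <;> fin_cases j <;> simp [add_comm]
  map_smul' c v := by ext i j; fin_cases i <;> fin_cases j <;> simp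
  invFun M := Sum.elim ![M 0 0, M 0 1] ![M 1 1, -M 1 0]
  left_inv v := by funext k; rcases k with k | k <;> fin_cases k <;> simp
  right_inv M := by ext i j; fin_cases i <;> fin_cases j <;> simp

theorem det_fourEquiv (v : Fin 2 ⊕ Fin 2 → F) : (fourEquiv v).det = Cfsg.quadFormPlus 2 F v := by
  simp [fourEquiv, Cfsg.quadFormPlus, Matrix.det_fin_two, Fin.sum_univ_two]

/-- Two-sided multiplication. -/
noncomputable def twoSided : GL (Fin 2) F × GL (Fin 2) F →* Module.End F (Matrix (Fin 2) (Fin 2) F) where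
  toFun p := (LinearMap.mulRight F ((p.2⁻¹ : GL (Fin 2) F) : Matrix (Fin 2) (Fin 2) F)) ∘ₗ
    (LinearMap.mulLeft F (p.1 : Matrix (Fin 2) (Fin 2) F))
  map_one' := LinearMap.ext fun v => by simp
  map_mul' p r := LinearMap.ext fun v => by
    simp [mul_assoc]

theorem twoSided_apply (p : GL (Fin 2) F × GL (Fin 2) F) (X : Matrix (Fin 2) (Fin 2) F) :
    twoSided p X = (p.1 : Matrix (Fin 2) (Fin 2) F) * X *
      ((p.2⁻¹ : GL (Fin 2) F) : Matrix (Fin 2) (Fin 2) F) := rfl

/-- Pairs of equal determinant. -/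
def eqDetPairs (F : Type*) [Field F] : Subgroup (GL (Fin 2) F × GL (Fin 2) F) :=
  MonoidHom.eqLocus
    ((GeneralLinearGroup.det : GL (Fin 2) F →* Fˣ).comp (MonoidHom.fst _ _))
    ((GeneralLinearGroup.det : GL (Fin 2) F →* Fˣ).comp (MonoidHom.snd _ _))

/-- A diagonal matrix with prescribed determinant. -/
def detDiag (u : Fˣ) : GL (Fin 2) F := diag1n 0 u

theorem det_detDiag (u : Fˣ) : GeneralLinearGroup.det (detDiag u) = u := by
  refine Units.ext ?_
  show (Matrix.diagonal fun k : Fin 2 => if k = 0 then (u : F) else 1).det = u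
  simp [Matrix.det_diagonal, Fin.prod_univ_two]

theorem detDiag_comm (u v : Fˣ) : detDiag u * detDiag v = detDiag v * detDiag u := by
  refine Units.ext ?_
  show Matrix.diagonal _ * Matrix.diagonal _ = Matrix.diagonal _ * Matrix.diagonal _
  rw [Matrix.diagonal_mul_diagonal, Matrix.diagonal_mul_diagonal]
  simp only [mul_comm]

theorem pairs_mem_commutator (h3 : ∃ a : F, a ≠ 0 ∧ a ≠ 1) (g h : SpecialLinearGroup (Fin 2) F) :
    (SpecialLinearGroup.toGL g, SpecialLinearGroup.toGL h) ∈
      (commutator (eqDetPairs F)).map (eqDetPairs F).subtype := by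
  set J := (commutator (eqDetPairs F)).map (eqDetPairs F).subtype
  have hsl : ∀ g : SpecialLinearGroup (Fin 2) F, SpecialLinearGroup.toGL g ∈ commutator (GL (Fin 2) F) :=
    fun g => by
      rw [commutator_GL_eq_ker_det fun _ => h3, ← range_toGL_eq_ker_det]
      exact ⟨g, rfl⟩
  have hgen : ∀ x y : GL (Fin 2) F, (⁅x, y⁆, 1) ∈ J ∧ (1, ⁅x, y⁆) ∈ J := by
    intro x y
    let d := fun z : GL (Fin 2) F => detDiag (GeneralLinearGroup.det z)
    have hd : ∀ z, GeneralLinearGroup.det (d z) = GeneralLinearGroup.det z := fun z => det_detDiag _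
    have hc : ⁅d x, d y⁆ = 1 := commutatorElement_eq_one_iff_mul_comm.mpr (detDiag_comm _ _)
    constructor
    · refine ⟨⁅(⟨(x, d x), (hd x).symm⟩ : eqDetPairs F), ⟨(y, d y), (hd y).symm⟩⁆,
        Subgroup.commutator_mem_commutator trivial trivial, ?_⟩
      rw [map_commutatorElement]
      exact Prod.ext rfl hc
    · refine ⟨⁅(⟨(d x, x), hd x⟩ : eqDetPairs F), ⟨(d y, y), hd y⟩⁆,
        Subgroup.commutator_mem_commutator trivial trivial, ?_⟩
      rw [map_commutatorElement]
      exact Prod.ext hc rfl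
  have h1 : commutator (GL (Fin 2) F) ≤ J.comap (MonoidHom.inl _ _) := by
    rw [commutator_def, Subgroup.commutator_le]
    intro x _ y _
    exact (hgen x y).1
  have h2 : commutator (GL (Fin 2) F) ≤ J.comap (MonoidHom.inr _ _) := by
    rw [commutator_def, Subgroup.commutator_le]
    intro x _ y _
    exact (hgen x y).2
  have a1 : (SpecialLinearGroup.toGL g, (1 : GL (Fin 2) F)) ∈ J := h1 (hsl g)
  have a2 : ((1 : GL (Fin 2) F), SpecialLinearGroup.toGL h) ∈ J := h2 (hsl h)
  simpa using mul_mem a1 a2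

theorem nonempty_POmega_four_plus [Fintype F] (h3 : 3 ≤ Fintype.card F) :
    Nonempty (Cfsg.POmega F (Cfsg.quadFormPlus 2 F) ≃*
      ProjectiveSpecialLinearGroup (Fin 2) F × ProjectiveSpecialLinearGroup (Fin 2) F) := by
  classical
  let Φ : eqDetPairs F →* Cfsg.isometryGroup F (Cfsg.quadFormPlus 2 F) :=
    isoHom fourEquiv _ (twoSided.comp (eqDetPairs F).subtype) fun p v => by
      rw [← det_fourEquiv, LinearEquiv.apply_symm_apply, ← det_fourEquiv, MonoidHom.comp_apply,
        twoSided_apply, Matrix.det_mul, Matrix.det_mul]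
      have hp : ((p.1.1 : GL (Fin 2) F) : Matrix (Fin 2) (Fin 2) F).det =
          ((p.1.2 : GL (Fin 2) F) : Matrix (Fin 2) (Fin 2) F).det := congrArg Units.val p.2
      have hi : ((p.1.2 : GL (Fin 2) F) : Matrix (Fin 2) (Fin 2) F).det *
          ((p.1.2⁻¹ : GL (Fin 2) F) : Matrix (Fin 2) (Fin 2) F).det = 1 := by
        rw [← Matrix.det_mul, ← Units.val_mul, mul_inv_cancel, Units.val_one, Matrix.det_one]
      show ((p.1.1 : GL (Fin 2) F) : Matrix (Fin 2) (Fin 2) F).det * _ * _ = _
      rw [hp]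
      simp only [Subgroup.subtype_apply]
      linear_combination (fourEquiv v).det * hi
  let ι₂ : SpecialLinearGroup (Fin 2) F × SpecialLinearGroup (Fin 2) F →* eqDetPairs F :=
    (MonoidHom.prodMap SpecialLinearGroup.toGL SpecialLinearGroup.toGL).codRestrict _ fun p => by
      show GeneralLinearGroup.det (SpecialLinearGroup.toGL p.1) =
        GeneralLinearGroup.det (SpecialLinearGroup.toGL p.2)
      exact Units.ext (p.1.2.trans p.2.2.symm)
  let φ := Φ.comp ι₂
  have hle : φ.range ≤ Cfsg.Omega F (Cfsg.quadFormPlus 2 F) := by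
    rintro _ ⟨p, rfl⟩
    obtain ⟨r, hr, hrp⟩ := pairs_mem_commutator (exists_ne_zero_one h3) p.1 p.2
    have : ι₂ p = r := Subtype.ext hrp.symm
    show Φ (ι₂ p) ∈ _
    rw [this]
    have hm : (commutator (eqDetPairs F)).map Φ ≤ commutator _ := by
      rw [commutator_def, Subgroup.map_commutator]
      exact Subgroup.commutator_mono le_top le_top
    exact hm (Subgroup.mem_map_of_mem _ hr)
  have hmemker : ∀ p, p ∈ φ.ker ↔
      p.1 = p.2 ∧ p.1 ∈ Subgroup.center (SpecialLinearGroup (Fin 2) F) := by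
    intro p
    rw [MonoidHom.mem_ker, MonoidHom.comp_apply, ← MonoidHom.mem_ker]
    refine Iff.trans (mem_ker_isoHom _ _ _ _ _) ?_
    constructor
    · intro h
      have hX : ∀ X : Matrix (Fin 2) (Fin 2) F,
          (p.1 : Matrix (Fin 2) (Fin 2) F) * X = X * (p.2 : Matrix (Fin 2) (Fin 2) F) := by
        intro X
        have h' : (p.1 : Matrix (Fin 2) (Fin 2) F) * X *
            ((SpecialLinearGroup.toGL p.2)⁻¹ : GL (Fin 2) F).1 = X := h X
        calc (p.1 : Matrix (Fin 2) (Fin 2) F) * X = (p.1 : Matrix (Fin 2) (Fin 2) F) * X *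
              (((SpecialLinearGroup.toGL p.2)⁻¹ : GL (Fin 2) F).1 *
                (SpecialLinearGroup.toGL p.2).1) := by
              rw [← Units.val_mul, inv_mul_cancel, Units.val_one, mul_one]
          _ = X * (p.2 : Matrix (Fin 2) (Fin 2) F) := by rw [← mul_assoc, h']; rfl
      have heq : p.1 = p.2 := Subtype.ext (by simpa using hX 1)
      refine ⟨heq, Subgroup.mem_center_iff.mpr fun x => Subtype.ext ?_⟩
      have hx := hX x.1
      rw [← heq] at hx
      rw [Matrix.SpecialLinearGroup.coe_mul, Matrix.SpecialLinearGroup.coe_mul]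
      exact hx.symm
    · rintro ⟨heq, hc⟩ X
      obtain ⟨r, -, hrz⟩ := Matrix.SpecialLinearGroup.mem_center_iff.mp hc
      show (p.1 : Matrix (Fin 2) (Fin 2) F) * X *
        ((SpecialLinearGroup.toGL p.2)⁻¹ : GL (Fin 2) F).1 = X
      have hcomm : (p.1 : Matrix (Fin 2) (Fin 2) F) * X = X * (p.1 : Matrix (Fin 2) (Fin 2) F) := by
        rw [← hrz]
        exact (Matrix.scalar_commute r (fun r' => mul_comm r r') X).eq
      rw [hcomm, heq, mul_assoc, show (p.2 : Matrix (Fin 2) (Fin 2) F) *
        ((SpecialLinearGroup.toGL p.2)⁻¹ : GL (Fin 2) F).1 = 1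
        from (SpecialLinearGroup.toGL p.2).mul_inv, mul_one]
  have hkcard : Nat.card φ.ker = Nat.gcd 2 (Fintype.card F - 1) := by
    have : Nat.card φ.ker = Nat.card (Subgroup.center (SpecialLinearGroup (Fin 2) F)) :=
      Nat.card_congr
        { toFun := fun p => ⟨p.1.1, ((hmemker p.1).mp p.2).2⟩
          invFun := fun c => ⟨(c.1, c.1), (hmemker _).mpr ⟨rfl, c.2⟩⟩
          left_inv := fun p => Subtype.ext (Prod.ext rfl ((hmemker p.1).mp p.2).1)
          right_inv := fun c => rfl }
    rw [this, card_center_SL, Fintype.card_fin]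
  have hG : Nat.card (SpecialLinearGroup (Fin 2) F × SpecialLinearGroup (Fin 2) F) =
      (Fintype.card F * (Fintype.card F ^ 2 - 1)) * (Fintype.card F * (Fintype.card F ^ 2 - 1)) := by
    rw [Nat.card_prod, card_SL2]
  set Q₀ : QuadraticForm F (Fin 0 → F) := 0 with hQ₀
  have hQ := hyperForm_nondegenerate 2 Q₀ zero_nondegenerate
  have hcard := card_orth_plus (F := F) rfl 2 (by norm_num)
  have hr : φ.range = Cfsg.Omega F (Cfsg.quadFormPlus 2 F) := by
    by_cases h2 : (2 : F) = 0
    · have hev := (two_eq_zero_iff_even (F := F) rfl).mp h2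
      refine index_Omega_of_index_two φ hle ?_
      have hg : Nat.gcd 2 (Fintype.card F - 1) = 1 := by
        rw [Nat.gcd_comm]
        refine Nat.coprime_two_right.mpr ?_
        rw [Nat.even_iff] at hev; rw [Nat.odd_iff]; omega
      rw [hkcard, hG, hg, hcard]
      simp
      ring
    · have hodd : Odd (Fintype.card F) := Nat.not_even_iff_odd.mp
        fun h => h2 ((two_eq_zero_iff_even (F := F) rfl).mpr h)
      have hg : Nat.gcd 2 (Fintype.card F - 1) = 2 := by
        obtain ⟨j, hj⟩ := hodd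
        rw [hj, Nat.add_sub_cancel]
        exact Nat.gcd_eq_left (dvd_mul_right 2 j)
      refine range_eq_Omega_of_index φ hle (k := 4) ?_ (by norm_num) ?_
      · rw [Geometry.index_commutator_congr
          (isometryMulEquiv (plusEquiv 2 F) _ _ (quadFormPlus_eq_hyper 2)).symm]
        exact Geometry.index_commutator_odd _ hQ h2
          (le_trans (by norm_num) (finrank_hyperSpace_ge 2))
      · rw [hkcard, hG, hg, hcard]
        simp
        ring
  obtain ⟨e⟩ := nonempty_POmega_of_hom φ hr (fun p hp => by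
      obtain ⟨heq, hc⟩ := (hmemker p).mp hp
      rw [Subgroup.mem_center_iff]
      intro x
      exact Prod.ext (Subgroup.mem_center_iff.mp hc x.1)
        (Subgroup.mem_center_iff.mp (heq ▸ hc) x.2))
    (fun g hg => by
      have hc : ∀ {z : SpecialLinearGroup (Fin 2) F × SpecialLinearGroup (Fin 2) F},
          z ∈ Subgroup.center _ → z.1 ∈ Subgroup.center (SpecialLinearGroup (Fin 2) F) ∧
            z.2 ∈ Subgroup.center (SpecialLinearGroup (Fin 2) F) := fun {z} hz =>
        ⟨Subgroup.mem_center_iff.mpr fun x => congrArg Prod.fst (Subgroup.mem_center_iff.mp hz (x, 1)),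
         Subgroup.mem_center_iff.mpr fun x => congrArg Prod.snd (Subgroup.mem_center_iff.mp hz (1, x))⟩
      have h1 := mem_center_SL2_of_commutator h3 (g := g.1) fun x => (hc (hg (x, 1))).1
      have h2 := mem_center_SL2_of_commutator h3 (g := g.2) fun x => (hc (hg (1, x))).2
      exact Subgroup.mem_center_iff.mpr fun x =>
        Prod.ext (Subgroup.mem_center_iff.mp h1 x.1) (Subgroup.mem_center_iff.mp h2 x.2))
  let π := MonoidHom.prodMap (QuotientGroup.mk' (Subgroup.center (SpecialLinearGroup (Fin 2) F)))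
    (QuotientGroup.mk' (Subgroup.center (SpecialLinearGroup (Fin 2) F)))
  have hπ : π.ker = Subgroup.center (SpecialLinearGroup (Fin 2) F × SpecialLinearGroup (Fin 2) F) := by
    ext p
    rw [MonoidHom.mem_ker, Prod.ext_iff, Subgroup.mem_center_iff]
    show (QuotientGroup.mk (s := Subgroup.center (SpecialLinearGroup (Fin 2) F)) p.1 = 1 ∧
      QuotientGroup.mk (s := Subgroup.center (SpecialLinearGroup (Fin 2) F)) p.2 = 1) ↔ _
    rw [QuotientGroup.eq_one_iff, QuotientGroup.eq_one_iff, Subgroup.mem_center_iff,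
      Subgroup.mem_center_iff]
    constructor
    · intro h x
      exact Prod.ext (h.1 x.1) (h.2 x.2)
    · intro h
      exact ⟨fun x => congrArg Prod.fst (h (x, 1)), fun x => congrArg Prod.snd (h (1, x))⟩
  exact ⟨(e.trans (QuotientGroup.quotientMulEquivOfEq hπ.symm)).trans
    (QuotientGroup.quotientKerEquivOfSurjective π (by
      intro x
      obtain ⟨a, ha⟩ := QuotientGroup.mk'_surjective _ x.1
      obtain ⟨b, hb⟩ := QuotientGroup.mk'_surjective _ x.2
      exact ⟨(a, b), Prod.ext ha hb⟩))⟩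

end Cfsg.Agent.Lib.Classical
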