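import Cfsg.Agent.Lib.Classical.OrthCenter
import Cfsg.Agent.Lib.Classical.OrthTwo
import Cfsg.Agent.Lib.Classical.LinearCard
import Cfsg.Agent.Lib.Classical.LinearSimple

/-!
Tools for the isomorphisms between low-dimensional `PΩ` and other classical groups: a representation
`G →* O(Q)` whose image is `Ω(Q)` and whose kernel is central identifies `PΩ(Q)` with `G/Z(G)`.
-/

set_option autoImplicit false

namespace Cfsg.Agent.Lib.Classical

open Matrix
open scoped commutatorElement

section Generic

variable {ι : Type} [Fintype ι] [DecidableEq ι] {F : Type*} [Field F]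
variable {A : Type*} [AddCommGroup A] [Module F A] {G : Type*} [Group G]

/-- A representation by isometries, as a hom into the matrix isometry group. -/
noncomputable def isoHom (e : (ι → F) ≃ₗ[F] A) (Q : (ι → F) → F) (L : G →* Module.End F A)
    (hQ : ∀ g v, Q (e.symm (L g (e v))) = Q v) : G →* Cfsg.isometryGroup F Q :=
  ((autToGL e).comp
    ((LinearMap.GeneralLinearGroup.generalLinearEquiv F A).toMonoidHom.comp L.toHomUnits)).codRestrict
    _ fun g u _ => by
      show Q (((autToGL e _ : GL ι F) : Matrix ι ι F) *ᵥ u) = Q u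
      rw [autToGL_mulVec]
      exact hQ g u

theorem isoHom_mulVec (e : (ι → F) ≃ₗ[F] A) (Q : (ι → F) → F) (L : G →* Module.End F A)
    (hQ : ∀ g v, Q (e.symm (L g (e v))) = Q v) (g : G) (v : ι → F) :
    ((isoHom e Q L hQ g : GL ι F) : Matrix ι ι F) *ᵥ v = e.symm (L g (e v)) :=
  autToGL_mulVec e _ v

theorem mem_ker_isoHom (e : (ι → F) ≃ₗ[F] A) (Q : (ι → F) → F) (L : G →* Module.End F A)
    (hQ : ∀ g v, Q (e.symm (L g (e v))) = Q v) (g : G) :
    g ∈ (isoHom e Q L hQ).ker ↔ ∀ a, L g a = a := by
  rw [MonoidHom.mem_ker]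
  constructor
  · intro h a
    have := isoHom_mulVec e Q L hQ g (e.symm a)
    rw [h, OneMemClass.coe_one, Units.val_one, Matrix.one_mulVec, LinearEquiv.apply_symm_apply] at this
    exact e.symm.injective this.symm
  · intro h
    refine Subtype.ext (gl_ext_mulVec fun v => ?_)
    rw [isoHom_mulVec, h, LinearEquiv.symm_apply_apply, OneMemClass.coe_one, Units.val_one,
      Matrix.one_mulVec]

end Generic

/-- In a perfect group the second centre is the centre. -/
theorem mem_center_of_perfect {G : Type*} [Group G] (hG : commutator G = ⊤) {g : G}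
    (h : ∀ x : G, ⁅g, x⁆ ∈ Subgroup.center G) : g ∈ Subgroup.center G := by
  have hc : ∀ x a : G, a * ⁅g, x⁆ = ⁅g, x⁆ * a := fun x => Subgroup.mem_center_iff.mp (h x)
  let f : G →* Subgroup.center G := MonoidHom.mk' (fun x => ⟨⁅g, x⁆, h x⟩) fun x y => Subtype.ext (by
    show ⁅g, x * y⁆ = ⁅g, x⁆ * ⁅g, y⁆
    calc ⁅g, x * y⁆ = ⁅g, x⁆ * (x * ⁅g, y⁆ * x⁻¹) := by
          simp only [commutatorElement_def]; group
      _ = ⁅g, x⁆ * ⁅g, y⁆ := by rw [hc y x, mul_inv_cancel_right])
  rw [Subgroup.mem_center_iff]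
  intro x
  have hx : x ∈ f.ker := by
    have hle : commutator G ≤ f.ker := by
      rw [commutator_def, Subgroup.commutator_le]
      intro a _ b _
      rw [MonoidHom.mem_ker, map_commutatorElement, commutatorElement_eq_one_iff_mul_comm]
      exact Subtype.ext (hc a (f b : G)).symm
    exact hle (hG ▸ Subgroup.mem_top x)
  have hx' : ⁅g, x⁆ = 1 := congrArg Subtype.val (MonoidHom.mem_ker.mp hx)
  exact (commutatorElement_eq_one_iff_mul_comm.mp hx').symm

section Recognise

variable {ι : Type} [Fintype ι] [DecidableEq ι] {F : Type*} [Field F] {Q : (ι → F) → F}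
variable {G : Type*} [Group G]

/-- A perfect group maps into the commutator subgroup. -/
theorem range_le_Omega_of_perfect (hG : commutator G = ⊤) (φ : G →* Cfsg.isometryGroup F Q) :
    φ.range ≤ Cfsg.Omega F Q := by
  rw [MonoidHom.range_eq_map, ← hG, commutator_def, Subgroup.map_commutator]
  exact Subgroup.commutator_mono le_top le_top

/-- A subgroup inside the commutator subgroup of the same order is the commutator subgroup. -/
theorem range_eq_Omega_of_index [Finite F] [Finite G] (φ : G →* Cfsg.isometryGroup F Q)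
    (hle : φ.range ≤ Cfsg.Omega F Q) {k : ℕ} (hk : (Cfsg.Omega F Q).index = k) (hk0 : k ≠ 0)
    (hcard : Nat.card G * k = Nat.card φ.ker * Nat.card (Cfsg.isometryGroup F Q)) :
    φ.range = Cfsg.Omega F Q := by
  haveI : Finite (GL ι F) := inferInstance
  refine Subgroup.eq_of_le_of_card_ge hle (le_of_eq ?_)
  have h1 : Nat.card φ.range * Nat.card φ.ker = Nat.card G := by
    rw [← Subgroup.index_ker, φ.ker.index_mul_card]
  have h2 := (Cfsg.Omega F Q).card_mul_index
  rw [hk] at h2
  rw [← h1] at hcard
  have hk' : 0 < Nat.card φ.ker := Nat.card_pos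
  have h3 : Nat.card φ.ker * (Nat.card (Cfsg.Omega F Q) * k) = Nat.card φ.ker * (Nat.card φ.range * k) := by
    rw [h2, ← hcard]; ring
  exact (Nat.eq_of_mul_eq_mul_right (Nat.pos_of_ne_zero hk0) (Nat.eq_of_mul_eq_mul_left hk' h3))

/-- A subgroup of index two inside the commutator subgroup is the commutator subgroup. -/
theorem index_Omega_of_index_two [Finite F] (φ : G →* Cfsg.isometryGroup F Q) [Finite G]
    (hle : φ.range ≤ Cfsg.Omega F Q)
    (hcard : Nat.card G * 2 = Nat.card φ.ker * Nat.card (Cfsg.isometryGroup F Q)) :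
    φ.range = Cfsg.Omega F Q := by
  have h1 : Nat.card φ.range * Nat.card φ.ker = Nat.card G := by
    rw [← Subgroup.index_ker, φ.ker.index_mul_card]
  rw [← h1, ← φ.range.index_mul_card] at hcard
  have hidx : φ.range.index = 2 := by
    have := Nat.card_pos (α := φ.ker)
    have := Nat.card_pos (α := φ.range)
    nlinarith
  refine le_antisymm hle ?_
  haveI := Subgroup.normal_of_index_eq_two hidx
  haveI : IsCyclic (Cfsg.isometryGroup F Q ⧸ φ.range) :=
    isCyclic_of_prime_card (p := 2) (by rw [← Subgroup.index_eq_card, hidx])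
  intro x hx
  have hle' : commutator (Cfsg.isometryGroup F Q) ≤ (QuotientGroup.mk' φ.range).ker := by
    rw [commutator_def, Subgroup.commutator_le]
    intro a _ b _
    rw [MonoidHom.mem_ker, map_commutatorElement, commutatorElement_eq_one_iff_mul_comm]
    exact (IsCyclic.commGroup).mul_comm _ _
  rw [QuotientGroup.ker_mk'] at hle'
  exact hle' hx

/-- `PΩ(Q) ≅ G/Z(G)` for a hom onto `Ω(Q)` with central kernel. -/
theorem nonempty_POmega_of_hom (φ : G →* Cfsg.isometryGroup F Q) (hr : φ.range = Cfsg.Omega F Q)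
    (hker : φ.ker ≤ Subgroup.center G)
    (hZ : ∀ g : G, (∀ x, ⁅g, x⁆ ∈ Subgroup.center G) → g ∈ Subgroup.center G) :
    Nonempty (Cfsg.POmega F Q ≃* G ⧸ Subgroup.center G) := by
  let f : G →* Cfsg.Omega F Q := φ.codRestrict _ fun g => hr ▸ ⟨g, rfl⟩
  have hf : Function.Surjective f := by
    rintro ⟨y, hy⟩
    rw [← hr] at hy
    obtain ⟨g, rfl⟩ := hy
    exact ⟨g, rfl⟩
  have hfk : ((QuotientGroup.mk' (Subgroup.center (Cfsg.Omega F Q))).comp f).ker = Subgroup.center G := by
    ext g
    rw [MonoidHom.mem_ker, MonoidHom.comp_apply, QuotientGroup.mk'_apply, QuotientGroup.eq_one_iff]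
    constructor
    · intro hg
      refine hZ g fun x => hker ?_
      rw [MonoidHom.mem_ker, map_commutatorElement, commutatorElement_eq_one_iff_mul_comm]
      exact congrArg Subtype.val (Subgroup.mem_center_iff.mp hg (f x)).symm
    · intro hg
      rw [Subgroup.mem_center_iff]
      intro y
      obtain ⟨x, rfl⟩ := hf y
      rw [← map_mul, ← map_mul, Subgroup.mem_center_iff.mp hg x]
  exact ⟨((QuotientGroup.quotientMulEquivOfEq hfk.symm).trans
    (QuotientGroup.quotientKerEquivOfSurjective _
      ((QuotientGroup.mk'_surjective _).comp hf))).symm⟩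

end Recognise

end Cfsg.Agent.Lib.Classical
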