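import Cfsg.Agent.Lib.Classical.HermCard

/-!
`SU_2(q)` is isomorphic to `SL_2(q)`.
-/

set_option autoImplicit false

namespace Cfsg.Agent.Lib.Classical

open scoped Matrix

variable {F K : Type*} [Field F] [Fintype F] [Field K] [Fintype K] {q : ℕ}

theorem exists_ringHom_of_card (hF : Fintype.card F = q ^ 2) (hK : Fintype.card K = q) :
    Nonempty (K →+* F) := by
  obtain ⟨p, f, hp, hcF, hq⟩ := exists_q_pow hF
  haveI := hcF
  haveI : Fact p.Prime := ⟨hp⟩
  haveI : CharP K p := charP_of_card_eq_prime_pow (f := f) (by rw [← hq]; exact hK)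
  letI := ZMod.algebra K p
  letI := ZMod.algebra F p
  have h1 : Fintype.card K = p ^ Module.finrank (ZMod p) K := by
    rw [Module.card_eq_pow_finrank (K := ZMod p), ZMod.card]
  have h2 : Fintype.card F = p ^ Module.finrank (ZMod p) F := by
    rw [Module.card_eq_pow_finrank (K := ZMod p), ZMod.card]
  have e1 : f = Module.finrank (ZMod p) K := Nat.pow_right_injective hp.two_le (by
    show p ^ f = _; rw [← hq, ← hK, h1])
  have e2 : f * 2 = Module.finrank (ZMod p) F := Nat.pow_right_injective hp.two_le (by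
    show p ^ (f * 2) = _; rw [pow_mul, ← hq, ← hF, h2])
  obtain ⟨g⟩ := FiniteField.nonempty_algHom_of_finrank_dvd (F := ZMod p) (K := K) (L := F)
    (e1 ▸ e2 ▸ dvd_mul_right f 2)
  exact ⟨g.toRingHom⟩

theorem nonempty_SU2_mulEquiv_SL2 (hF : Fintype.card F = q ^ 2) (hK : Fintype.card K = q) :
    Nonempty (Cfsg.SU 2 F q ≃* Matrix.SpecialLinearGroup (Fin 2) K) := by
  classical
  obtain ⟨ι⟩ := exists_ringHom_of_card hF hK
  set σ := conjHom hF with hσdef
  have hι : ∀ y, σ (ι y) = ι y := fun y => by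
    rw [conjHom_apply, ← map_pow, ← hK, FiniteField.pow_card]
  obtain ⟨x, hx⟩ : ∃ x : F, σ x ≠ x := by
    by_contra h
    push Not at h
    exact conjHom_ne_id hF (RingHom.ext h)
  obtain ⟨c, hc⟩ := Geometry.exists_mul_conj_eq (conjHom_ne_id hF) (conjHom_conjHom hF)
    (s := (-1 : F)) (by rw [map_neg, map_one])
  have hss : ∀ y, σ (σ y) = y := conjHom_conjHom hF
  let P : Matrix (Fin 2) (Fin 2) F := !![x, c * σ x; 1, c]
  let J : Matrix (Fin 2) (Fin 2) F := !![0, 1; -1, 0]
  have he : σ x - x ≠ 0 := sub_ne_zero.mpr hx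
  have hPdet : P.det ≠ 0 := by
    rw [Matrix.det_fin_two_of]
    intro h
    have h' : c * (σ x - x) = 0 := by linear_combination -h
    rcases mul_eq_zero.mp h' with h0 | h0
    · rw [h0, mul_zero] at hc
      exact one_ne_zero (neg_eq_zero.mp hc.symm)
    · exact he h0
  have hPS : P.map σ * Pᵀ = (σ x - x) • J := by
    ext i j
    fin_cases i <;> fin_cases j <;> simp [P, J, Matrix.mul_apply, hss]
    · linear_combination (x * σ x) * hc
    · linear_combination x * hc
    · linear_combination (σ x) * hc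
    · linear_combination hc
  have hPX : P * P⁻¹ = 1 := Matrix.mul_nonsing_inv _ (isUnit_iff_ne_zero.mpr hPdet)
  set X := P⁻¹ with hX
  have hXP : X * P = 1 := mul_eq_one_comm.mp hPX
  have hXPσ : X.map σ * P.map σ = 1 := by
    rw [← Matrix.map_mul, hXP, Matrix.map_one _ (map_zero _) (map_one _)]
  set Y := Xᵀ * X.map σ with hY
  have hYJ : Y * ((σ x - x) • J) = 1 := by
    rw [← hPS, hY, Matrix.mul_assoc, ← Matrix.mul_assoc (X.map σ), hXPσ, Matrix.one_mul,
      ← Matrix.transpose_mul, hPX, Matrix.transpose_one]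
  have hJJ : J * J = -1 := by
    ext i j
    fin_cases i <;> fin_cases j <;> simp [J, Matrix.mul_apply]
  have hY' : Y = (-(σ x - x)⁻¹) • J := by
    calc Y = Y * (((σ x - x) • J) * ((-(σ x - x)⁻¹) • J)) := by
          have e : ((σ x - x) • J) * ((-(σ x - x)⁻¹) • J) = 1 := by
            rw [Matrix.smul_mul, Matrix.mul_smul, smul_smul, hJJ, mul_neg, mul_inv_cancel₀ he]
            simp
          rw [e, Matrix.mul_one]
      _ = _ := by rw [← Matrix.mul_assoc, hYJ, Matrix.one_mul]
  let hat : Matrix.SpecialLinearGroup (Fin 2) K →* Matrix (Fin 2) (Fin 2) F :=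
    ι.mapMatrix.toMonoidHom.comp
      { toFun := fun g => (g : Matrix (Fin 2) (Fin 2) K), map_one' := rfl, map_mul' := fun _ _ => rfl }
  have hhat : ∀ g, hat g = (g : Matrix (Fin 2) (Fin 2) K).map ι := fun g => rfl
  have hdet : ∀ g, (hat g).det = 1 := fun g => by
    rw [hhat, ← RingHom.mapMatrix_apply, ← RingHom.map_det, g.2, map_one]
  have hfix : ∀ g, (hat g).map σ = hat g := fun g => by
    ext i j
    rw [hhat, Matrix.map_apply, Matrix.map_apply, hι]
  have hsymp : ∀ g, (hat g)ᵀ * Y * hat g = Y := fun g => by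
    have hd := hdet g
    rw [Matrix.det_fin_two] at hd
    rw [hY', Matrix.mul_smul, Matrix.smul_mul]
    congr 1
    ext i j
    fin_cases i <;> fin_cases j <;> simp [J, Matrix.mul_apply] <;>
      first
        | linear_combination hd
        | linear_combination -hd
        | ring
  have hmem : ∀ g, (X * hat g * P).det = 1 ∧
      (X * hat g * P)ᵀ * (X * hat g * P).map σ = 1 := fun g => by
    constructor
    · rw [Matrix.det_mul, Matrix.det_mul, hdet, mul_one, ← Matrix.det_mul, hXP, Matrix.det_one]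
    · rw [Matrix.transpose_mul, Matrix.transpose_mul, Matrix.map_mul, Matrix.map_mul, hfix]
      calc Pᵀ * ((hat g)ᵀ * Xᵀ) * (X.map σ * hat g * P.map σ)
          = Pᵀ * ((hat g)ᵀ * (Xᵀ * X.map σ) * hat g * P.map σ) := by simp only [Matrix.mul_assoc]
        _ = 1 := by
          rw [← hY, hsymp, mul_eq_one_comm, Matrix.mul_assoc, hPS, hYJ]
  let f : Matrix.SpecialLinearGroup (Fin 2) K →* Cfsg.SU 2 F q :=
    { toFun := fun g => ⟨⟨X * hat g * P, (hmem g).1⟩, (mem_SU_iff hF _).mpr (hmem g).2⟩
      map_one' := Subtype.ext (Subtype.ext (by show X * hat 1 * P = 1; rw [map_one, Matrix.mul_one, hXP]))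
      map_mul' := fun g h => Subtype.ext (Subtype.ext (by
        show X * hat (g * h) * P = X * hat g * P * (X * hat h * P)
        rw [map_mul]
        simp only [Matrix.mul_assoc]
        rw [← Matrix.mul_assoc P X, hPX, Matrix.one_mul])) }
  have hinj : Function.Injective f := by
    intro g h hgh
    have e : X * hat g * P = X * hat h * P :=
      congrArg (fun t : Cfsg.SU 2 F q => (t.1 : Matrix (Fin 2) (Fin 2) F)) hgh
    have e' : P * (X * hat g * P) * X = P * (X * hat h * P) * X := by rw [e]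
    simp only [Matrix.mul_assoc, hPX, Matrix.mul_one] at e'
    rw [← Matrix.mul_assoc, ← Matrix.mul_assoc P X (hat h), hPX, Matrix.one_mul, Matrix.one_mul] at e'
    exact Subtype.ext (Matrix.map_injective ι.injective e')
  have hcard : Nat.card (Matrix.SpecialLinearGroup (Fin 2) K) = Nat.card (Cfsg.SU 2 F q) := by
    have h2 := two_le_q hF
    apply Nat.eq_of_mul_eq_mul_left (show 0 < q + 1 by omega)
    rw [card_SU hF (by norm_num), card_GU hF, card_SL2, hK]
    simp [Finset.prod_range_succ, Nat.even_iff]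
    ring
  exact ⟨(MulEquiv.ofBijective f ((Nat.bijective_iff_injective_and_card f).mpr ⟨hinj, hcard⟩)).symm⟩

end Cfsg.Agent.Lib.Classical
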