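import Cfsg.Agent.Lib.Classical.OrthSix
import Cfsg.Agent.Lib.Classical.SUTwo
import Cfsg.Agent.Lib.Classical.UnitarySimple

/-!
`PΩ⁻₄(q) ≅ PSL₂(q²)` and `PΩ⁻₆(q) ≅ PSU₄(q)`: twisted forms of the hermitian matrices and of the
exterior square.
-/

set_option autoImplicit false

namespace Cfsg.Agent.Lib.Classical

open Matrix
open QuadraticMap (polarBilin)

variable {F K : Type*} [Field F] [Fintype F] [Field K] [Fintype K] {q : ℕ}

section Base

variable (hK : Fintype.card K = q ^ 2) (ι : F →+* K)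

theorem conj_base (hF : Fintype.card F = q) (x : F) : conjHom hK (ι x) = ι x := by
  rw [conjHom_apply, ← map_pow, ← hF, FiniteField.pow_card]

theorem exists_base_of_fixed (hF : Fintype.card F = q) {x : K} (hx : conjHom hK x = x) : ∃ y, ι y = x := by
  classical
  rw [conjHom_apply] at hx
  let p : Polynomial K := Polynomial.X ^ q - Polynomial.X
  have hq : 2 ≤ q := two_le_q hK
  have hp : p ≠ 0 := FiniteField.X_pow_card_sub_X_ne_zero K (by omega)
  have hdeg : p.natDegree = q := FiniteField.X_pow_card_sub_X_natDegree_eq K (by omega)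
  have hsub : Finset.univ.image ι ⊆ p.roots.toFinset := fun z hz => by
    obtain ⟨y, -, rfl⟩ := Finset.mem_image.mp hz
    rw [Multiset.mem_toFinset, Polynomial.mem_roots hp]
    simp [p, ← map_pow, ← hF, FiniteField.pow_card]
  have heq : Finset.univ.image ι = p.roots.toFinset := by
    refine Finset.eq_of_subset_of_card_le hsub ?_
    rw [Finset.card_image_of_injective _ ι.injective, Finset.card_univ, hF]
    exact (Multiset.toFinset_card_le _).trans ((Polynomial.card_roots' p).trans hdeg.le)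
  have : x ∈ Finset.univ.image ι := by
    rw [heq, Multiset.mem_toFinset, Polynomial.mem_roots hp]
    simp [p, hx]
  obtain ⟨y, -, hy⟩ := Finset.mem_image.mp this
  exact ⟨y, hy⟩

open QuadraticAlgebra in
theorem exists_root_pair (hF : Fintype.card F = q) (a b : F)
    (hab : ∀ z₁ z₂ : F, z₁ ^ 2 + a * z₁ * z₂ + b * z₂ ^ 2 = 0 → z₁ = 0 ∧ z₂ = 0) :
    ∃ w : K, w + conjHom hK w = ι a ∧ w * conjHom hK w = ι b ∧ conjHom hK w ≠ w := by
  classical
  haveI : Fact (∀ r : F, r ^ 2 ≠ -b + a * r) := ⟨fun r h => one_ne_zero (hab (-r) 1 (by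
    linear_combination h)).2⟩
  haveI : Finite (QuadraticAlgebra F (-b) a) := Module.finite_of_finite F
  letI : Fintype (QuadraticAlgebra F (-b) a) := Fintype.ofFinite _
  letI := ι.toAlgebra
  have hcard : Fintype.card (QuadraticAlgebra F (-b) a) = Fintype.card K := by
    rw [Fintype.card_congr (QuadraticAlgebra.equivProd (-b) a), Fintype.card_prod, hF, hK, pow_two]
  have hfin : Module.finrank F (QuadraticAlgebra F (-b) a) = Module.finrank F K := by
    refine Nat.pow_right_injective (Fintype.one_lt_card (α := F)) ?_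
    show Fintype.card F ^ _ = Fintype.card F ^ _
    rw [← Module.card_eq_pow_finrank, ← Module.card_eq_pow_finrank, hcard]
  obtain ⟨g⟩ := FiniteField.nonempty_algHom_of_finrank_dvd (F := F) (K := QuadraticAlgebra F (-b) a) (L := K)
    (hfin ▸ dvd_refl _)
  set w := g ω with hw
  have hroot : w * w = -(ι b) + ι a * w := by
    rw [hw, ← map_mul, omega_mul_omega_eq_algebraMap, map_add, map_mul, AlgHom.commutes, AlgHom.commutes]
    simp [RingHom.algebraMap_toAlgebra]
  have hnot : ∀ y, ι y ≠ w := fun y hy => by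
    rw [← hy, ← map_mul, ← map_neg, ← map_mul, ← map_add] at hroot
    exact one_ne_zero (hab (-y) 1 (by linear_combination ι.injective hroot)).2
  have hne : conjHom hK w ≠ w := fun h => by
    obtain ⟨y, hy⟩ := exists_base_of_fixed hK ι hF h
    exact hnot y hy
  have hroot' : conjHom hK w * conjHom hK w = -(ι b) + ι a * conjHom hK w := by
    rw [← map_mul, hroot, map_add, map_neg, map_mul, conj_base hK ι hF, conj_base hK ι hF]
  have hsum : w + conjHom hK w = ι a := by
    have h : (conjHom hK w - w) * (conjHom hK w + w - ι a) = 0 := by linear_combination hroot' - hroot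
    linear_combination (mul_eq_zero.mp h).resolve_left (sub_ne_zero.mpr hne)
  exact ⟨w, hsum, by linear_combination w * hsum - hroot, hne⟩

end Base

section Descend

variable {M : Type*} [AddCommGroup M] [Module K M] {κ : Type} {G : Type*} [Group G]

/-- A representation descends along a semilinear injection with invariant image. -/
theorem exists_descent (ι : F →+* K) (emb : (κ → F) →+ M) (hinj : Function.Injective emb)
    (hsmul : ∀ (c : F) v, emb (c • v) = ι c • emb v) (T : G →* Module.End K M)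
    (himg : ∀ g v, ∃ w, emb w = T g (emb v)) :
    ∃ L : G →* Module.End F (κ → F), ∀ g v, emb (L g v) = T g (emb v) := by
  classical
  choose f hf using himg
  let L : G → Module.End F (κ → F) := fun g =>
    { toFun := f g
      map_add' := fun u v => hinj (by rw [hf, map_add, map_add, map_add, hf, hf])
      map_smul' := fun c v => hinj (by
        rw [hf, hsmul, RingHom.id_apply, hsmul, map_smul, hf]) }
  refine ⟨{ toFun := L, map_one' := LinearMap.ext fun v => hinj ?_,
            map_mul' := fun g h => LinearMap.ext fun v => hinj ?_ }, fun g v => hf g v⟩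
  · show emb (f 1 v) = emb v
    rw [hf, map_one]; rfl
  · show emb (f (g * h) v) = emb (f g (f h v))
    rw [hf, hf, hf, map_mul]; rfl

/-- An additive map compatible with a non-degenerate form is injective. -/
theorem injective_of_form {N : Type*} [AddCommGroup N] (Q : QuadraticForm F (κ → F))
    (hQ : (polarBilin Q).Nondegenerate) (emb : (κ → F) →+ N) (Φ : N → K) (ι : F →+* K)
    (h : ∀ v, ι (Q v) = Φ (emb v)) : Function.Injective emb := by
  rw [injective_iff_map_eq_zero]
  intro v hv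
  refine hQ.1 v fun u => ?_
  have h1 : Q (v + u) = Q u := ι.injective (by rw [h, h, map_add, hv, zero_add])
  have h2 : Q v = 0 := by
    refine ι.injective ?_
    rw [h, hv, ← map_zero emb, ← h, map_zero]
  rw [QuadraticMap.polarBilin_apply_apply, QuadraticMap.polar, h1, h2, sub_zero, sub_self]

end Descend

theorem card_SL2_field : Nat.card (SpecialLinearGroup (Fin 2) K) = Fintype.card K * (Fintype.card K ^ 2 - 1) :=
  card_SL2

theorem polarBilin_nondegenerate_comp {κ : Type} [Fintype κ] {W : Type*} [AddCommGroup W] [Module F W]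
    (e : (κ → F) ≃ₗ[F] W) (R : QuadraticForm F W) (hR : (polarBilin R).Nondegenerate) :
    (polarBilin (R.comp e.toLinearMap)).Nondegenerate := by
  have key : ∀ v u : κ → F, polarBilin (R.comp e.toLinearMap) v u = polarBilin R (e v) (e u) := fun v u => by
    simp [QuadraticMap.polar]
  constructor
  · intro v hv
    refine e.map_eq_zero_iff.mp (hR.1 _ fun y => ?_)
    rw [← e.apply_symm_apply y, ← key]
    exact hv _
  · intro u hu
    refine e.map_eq_zero_iff.mp (hR.2 _ fun y => ?_)
    rw [← e.apply_symm_apply y, ← key]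
    exact hu _

theorem two_eq_zero_iff_map (ι : F →+* K) : (2 : K) = 0 ↔ (2 : F) = 0 := by
  rw [← map_ofNat ι 2, map_eq_zero]

theorem index_commutator_minus (m : ℕ) (a b : F)
    (hab : ∀ z₁ z₂ : F, z₁ ^ 2 + a * z₁ * z₂ + b * z₂ ^ 2 = 0 → z₁ = 0 ∧ z₂ = 0) (hm : 1 ≤ m) (h2 : (2 : F) ≠ 0) :
    (Cfsg.Omega F (Cfsg.quadFormMinus m F a b)).index = 4 := by
  rw [Geometry.index_commutator_congr
    (isometryMulEquiv (minusEquiv m F) _ _ (quadFormMinus_eq_hyper m a b)).symm]
  exact Geometry.index_commutator_odd _ (hyperForm_nondegenerate m _ (binaryForm_nondegenerate a b hab)) h2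
    (le_trans (by omega) (finrank_hyperSpace_ge m))

/-- `PΩ⁻₄(q) ≅ PSL₂(q²)`. -/
theorem nonempty_POmega_four_minus (hF : Fintype.card F = q) (hK : Fintype.card K = q ^ 2) (a b : F)
    (hab : ∀ z₁ z₂ : F, z₁ ^ 2 + a * z₁ * z₂ + b * z₂ ^ 2 = 0 → z₁ = 0 ∧ z₂ = 0) :
    Nonempty (Cfsg.POmega F (Cfsg.quadFormMinus 1 F a b) ≃* ProjectiveSpecialLinearGroup (Fin 2) K) := by
  classical
  obtain ⟨ι⟩ := exists_ringHom_of_card hK hF
  obtain ⟨w, hw1, hw2, hw⟩ := exists_root_pair hK ι hF a b hab
  set σ := conjHom hK with hσ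
  have hσι : ∀ x, σ (ι x) = ι x := conj_base hK ι hF
  have hσσ : ∀ x, σ (σ x) = x := conjHom_conjHom hK
  let emb : ((Fin 1 ⊕ Fin 1) ⊕ Fin 2 → F) →+ Matrix (Fin 2) (Fin 2) K :=
    { toFun := fun v => !![ι (v (.inl (.inl 0))), ι (v (.inr 0)) + w * ι (v (.inr 1));
        ι (v (.inr 0)) + σ w * ι (v (.inr 1)), -ι (v (.inl (.inr 0)))]
      map_zero' := by ext i j; fin_cases i <;> fin_cases j <;> simp
      map_add' := fun u v => by ext i j; fin_cases i <;> fin_cases j <;> simp <;> ring }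
  have hdet : ∀ v, ι (Cfsg.quadFormMinus 1 F a b v) = -(emb v).det := fun v => by
    simp [Cfsg.quadFormMinus, emb, Matrix.det_fin_two_of]
    linear_combination (-(ι (v (.inr 0)) * ι (v (.inr 1)))) * hw1 - ι (v (.inr 1)) ^ 2 * hw2
  have hsmul : ∀ (c : F) v, emb (c • v) = ι c • emb v := fun c v => by
    ext i j; fin_cases i <;> fin_cases j <;> simp [emb] <;> ring
  have hinj : Function.Injective emb := by
    refine injective_of_form ((hyperForm 1 (binaryForm a b)).comp (minusEquiv 1 F).toLinearMap)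
      (polarBilin_nondegenerate_comp _ _ (hyperForm_nondegenerate 1 _ (binaryForm_nondegenerate a b hab)))
      emb (fun M => -M.det) ι fun v => ?_
    rw [QuadraticMap.comp_apply, LinearEquiv.coe_coe, ← quadFormMinus_eq_hyper, hdet]
  have hherm : ∀ v, (emb v)ᵀ.map σ = emb v := fun v => by
    ext i j; fin_cases i <;> fin_cases j <;> simp [emb, hσι, hσσ]
  have honto : ∀ X : Matrix (Fin 2) (Fin 2) K, Xᵀ.map σ = X → ∃ v, emb v = X := fun X hX => by
    have h00 := congrFun (congrFun hX 0) 0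
    have h11 := congrFun (congrFun hX 1) 1
    have h10 := congrFun (congrFun hX 1) 0
    simp only [Matrix.map_apply, Matrix.transpose_apply] at h00 h11 h10
    obtain ⟨x, hx⟩ := exists_base_of_fixed hK ι hF h00
    obtain ⟨y, hy⟩ := exists_base_of_fixed hK ι hF h11
    set ζ := X 0 1
    have hd : w - σ w ≠ 0 := sub_ne_zero.mpr (Ne.symm hw)
    obtain ⟨z1, hz1⟩ := exists_base_of_fixed hK ι hF (x := (ζ - σ ζ) / (w - σ w)) (by
      rw [map_div₀, map_sub, map_sub, hσσ, hσσ, ← neg_sub ζ, ← neg_sub w, neg_div_neg_eq])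
    have hz1' : ι z1 * (w - σ w) = ζ - σ ζ := by rw [hz1, div_mul_cancel₀ _ hd]
    obtain ⟨z0, hz0⟩ := exists_base_of_fixed hK ι hF (x := ζ - w * ι z1) (by
      rw [map_sub, map_mul, hσι]; linear_combination hz1')
    refine ⟨Sum.elim (Sum.elim ![x] ![-y]) ![z0, z1], ?_⟩
    ext i j
    fin_cases i <;> fin_cases j <;> simp [emb, hx, hy, hz0]
    · rfl
    · linear_combination h10 - hz1'
  let T : SpecialLinearGroup (Fin 2) K →* Module.End K (Matrix (Fin 2) (Fin 2) K) :=
    { toFun := fun g => LinearMap.mulRight K ((g : Matrix (Fin 2) (Fin 2) K).map σ)ᵀ ∘ₗ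
        LinearMap.mulLeft K (g : Matrix (Fin 2) (Fin 2) K)
      map_one' := LinearMap.ext fun X => by simp [Matrix.map_one _ (map_zero σ) (map_one σ)]
      map_mul' := fun g h => LinearMap.ext fun X => by
        simp [Matrix.map_mul, Matrix.transpose_mul, mul_assoc] }
  have hT : ∀ g X, T g X = (g : Matrix (Fin 2) (Fin 2) K) * X * ((g : Matrix (Fin 2) (Fin 2) K).map σ)ᵀ :=
    fun g X => rfl
  have hmapσ : ∀ A : Matrix (Fin 2) (Fin 2) K, (A.map σ).map σ = A := fun A => by ext i j; simp [hσσ]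
  obtain ⟨L, hL⟩ := exists_descent ι emb hinj hsmul T fun g v => honto _ (by
    rw [hT, Matrix.transpose_mul, Matrix.transpose_mul, Matrix.transpose_transpose, Matrix.map_mul,
      Matrix.map_mul, hmapσ, hherm, Matrix.transpose_map, mul_assoc])
  let φ := isoHom (LinearEquiv.refl F _) (Cfsg.quadFormMinus 1 F a b) L fun g v => ι.injective (by
    show ι (Cfsg.quadFormMinus 1 F a b (L g v)) = _
    rw [hdet, hdet, hL, hT, Matrix.det_mul, Matrix.det_mul, Matrix.det_transpose, g.2, one_mul,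
      ← RingHom.mapMatrix_apply, ← RingHom.map_det, g.2, map_one, mul_one])
  have hk : ∀ g, g ∈ φ.ker ↔ ∃ c : K, c ^ 2 = 1 ∧ (g : Matrix (Fin 2) (Fin 2) K) = c • 1 := fun g => by
    refine (mem_ker_isoHom _ _ _ _ g).trans ⟨fun h => ?_, ?_⟩
    · have hfix : ∀ X : Matrix (Fin 2) (Fin 2) K, Xᵀ.map σ = X →
          (g : Matrix (Fin 2) (Fin 2) K) * X * ((g : Matrix (Fin 2) (Fin 2) K).map σ)ᵀ = X := fun X hX => by
        obtain ⟨v, rfl⟩ := honto X hX
        rw [← hT, ← hL, h v]
      have hu := hfix 1 (by simp [Matrix.map_one _ (map_zero σ) (map_one σ)])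
      rw [mul_one] at hu
      have hcomm : ∀ X : Matrix (Fin 2) (Fin 2) K, Xᵀ.map σ = X →
          X * (g : Matrix (Fin 2) (Fin 2) K) = (g : Matrix (Fin 2) (Fin 2) K) * X := fun X hX => by
        conv_lhs => rw [← hfix X hX]
        rw [mul_assoc, mul_eq_one_comm.mp hu, mul_one]
      have e1 := hcomm !![1, 0; 0, 0] (by ext i j; fin_cases i <;> fin_cases j <;> simp)
      have e2 := hcomm !![0, 1; 1, 0] (by ext i j; fin_cases i <;> fin_cases j <;> simp)
      have a01 := congrFun (congrFun e1 0) 1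
      have a10 := congrFun (congrFun e1 1) 0
      have a00 := congrFun (congrFun e2 0) 1
      simp [Matrix.mul_apply, Fin.sum_univ_two] at a01 a10 a00
      have hd : (g : Matrix (Fin 2) (Fin 2) K).det = 1 := g.2
      rw [Matrix.det_fin_two, a01] at hd
      refine ⟨(g : Matrix (Fin 2) (Fin 2) K) 0 0, by linear_combination hd - (g : Matrix (Fin 2) (Fin 2) K) 0 0 * a00, ?_⟩
      ext i j
      fin_cases i <;> fin_cases j <;> simp [a01, ← a10, a00]
    · rintro ⟨c, hc, hg⟩ v
      refine hinj ?_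
      rw [hL, hT, hg]
      have hσc : σ c = c := by
        have h : (σ c - c) * (σ c + c) = 0 := by
          have h2 : σ c ^ 2 = 1 := by rw [← map_pow, hc, map_one]
          linear_combination h2 - hc
        rcases mul_eq_zero.mp h with h | h
        · exact sub_eq_zero.mp h
        · have : (c - 1) * (c + 1) = 0 := by linear_combination hc
          rcases mul_eq_zero.mp this with h' | h'
          · rw [sub_eq_zero.mp h', map_one]
          · rw [eq_neg_of_add_eq_zero_left h', map_neg, map_one]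
      simp [Matrix.map_smul, hσc, smul_smul, ← sq, hc, Matrix.map_one _ (map_zero σ) (map_one σ)]
  have hker : φ.ker ≤ Subgroup.center (SpecialLinearGroup (Fin 2) K) := fun g hg => by
    obtain ⟨c, -, hg'⟩ := (hk g).mp hg
    refine Subgroup.mem_center_iff.mpr fun x => Subtype.ext ?_
    show (x : Matrix (Fin 2) (Fin 2) K) * (g : Matrix (Fin 2) (Fin 2) K) = (g : Matrix (Fin 2) (Fin 2) K) * x
    rw [hg']
    simp
  have hkc : Nat.card φ.ker = Nat.card {c : K // c ^ 2 = 1} :=
    card_ker_scalars φ (fun g : SpecialLinearGroup (Fin 2) K => (g : Matrix (Fin 2) (Fin 2) K)) Subtype.val_injective hk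
      fun c hc => ⟨⟨c • 1, by simp [Matrix.det_smul, hc]⟩, rfl⟩
  have hq2 := two_le_q hK
  obtain ⟨t, ht, ht'⟩ := exists_sq_ne_one (F := K) (by
    rw [Nat.card_eq_fintype_card, hK]; exact le_trans (by norm_num) (Nat.pow_le_pow_left hq2 2))
  have hperf : commutator (SpecialLinearGroup (Fin 2) K) = ⊤ :=
    Matrix.SL2.commutator_eq_top (a := t) ht fun h => ht' (by linear_combination h)
  have hO := card_orth_minus (F := F) hF 2 (by norm_num) a b hab
  have hS := card_SL2_field (K := K)
  simp [Finset.prod_range_succ, -Nat.card_eq_fintype_card] at hO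
  rw [hK] at hS
  have hcard : Nat.card (SpecialLinearGroup (Fin 2) K) * 2 =
      Nat.card (Cfsg.isometryGroup F (Cfsg.quadFormMinus 1 F a b)) := by
    rw [hS, hO]
    have h1 : 1 ≤ q ^ 2 := Nat.one_le_pow _ _ (by omega)
    have h2 : 1 ≤ (q ^ 2) ^ 2 := Nat.one_le_pow _ _ (by omega)
    zify [h1, h2]
    ring
  refine nonempty_POmega_of_perfect hperf φ hker ⟨fun h2 => ?_, fun h2 => ⟨index_commutator_minus 1 a b hab le_rfl h2, ?_⟩⟩
  · rw [hkc, card_sq_eq_one_of_even ((two_eq_zero_iff_map ι).mpr h2), one_mul, hcard]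
  · rw [hkc, card_sq_eq_one_of_odd (fun h => h2 ((two_eq_zero_iff_map ι).mp h)), ← hcard]
    ring

section Six

theorem dot_wedgeLin (g : Matrix (Fin 4) (Fin 4) K) (u z : Fin 3 ⊕ Fin 3 → K) :
    wedgeLin g u ⬝ᵥ z = u ⬝ᵥ wedgeLin gᵀ z := by
  rw [wedgeLin_eq, wedgeLin_eq]
  simp [dotProduct, Fin.sum_univ_three]
  ring

theorem quadFormPlus_three_add (u v : Fin 3 ⊕ Fin 3 → K) :
    Cfsg.quadFormPlus 3 K (u + v) =
      Cfsg.quadFormPlus 3 K u + Cfsg.quadFormPlus 3 K v + u ⬝ᵥ (v ∘ Sum.swap) := by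
  simp [Cfsg.quadFormPlus, dotProduct, Fin.sum_univ_three]
  ring

theorem wedgeLin_transpose_swap {g : Matrix (Fin 4) (Fin 4) K} (hg : g.det = 1) (v : Fin 3 ⊕ Fin 3 → K) :
    wedgeLin gᵀ (wedgeLin g v ∘ Sum.swap) = v ∘ Sum.swap := by
  refine funext fun k => ?_
  have h := quadFormPlus_wedgeLin g (Pi.single k 1 + v)
  rw [map_add, quadFormPlus_three_add, quadFormPlus_three_add, quadFormPlus_wedgeLin, quadFormPlus_wedgeLin,
    hg, one_mul, one_mul, one_mul, add_right_inj, dot_wedgeLin, single_one_dotProduct,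
    single_one_dotProduct] at h
  exact h

/-- `SU_n` is perfect. -/
theorem commutator_SU_eq_top (hK : Fintype.card K = q ^ 2) {n : ℕ} (hn : 4 ≤ n) :
    commutator (Cfsg.SU n K q) = ⊤ := by
  rw [eq_top_iff, ← Cfsg.Agent.S0780.result hK n (by omega) (by omega), Subgroup.closure_le]
  rintro A ⟨v, c, hv, hA⟩
  rw [commutator_eq_closure]
  exact Subgroup.subset_closure (Cfsg.Agent.S0781.result hK n (Or.inl hn) A v c hv hA)

/-- `PΩ⁻₆(q) ≅ PSU₄(q)`. -/
theorem nonempty_POmega_six_minus (hF : Fintype.card F = q) (hK : Fintype.card K = q ^ 2) (a b : F)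
    (hab : ∀ z₁ z₂ : F, z₁ ^ 2 + a * z₁ * z₂ + b * z₂ ^ 2 = 0 → z₁ = 0 ∧ z₂ = 0) :
    Nonempty (Cfsg.POmega F (Cfsg.quadFormMinus 2 F a b) ≃* Cfsg.PSU 4 K q) := by
  classical
  obtain ⟨ι⟩ := exists_ringHom_of_card hK hF
  obtain ⟨w, hw1, hw2, hw⟩ := exists_root_pair hK ι hF a b hab
  set σ := conjHom hK with hσ
  have hσι : ∀ x, σ (ι x) = ι x := conj_base hK ι hF
  have hσσ : ∀ x, σ (σ x) = x := conjHom_conjHom hK
  have hd : w - σ w ≠ 0 := sub_ne_zero.mpr (Ne.symm hw)
  have hq2 := two_le_q hK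
  obtain ⟨c, hc⟩ := Geometry.exists_mul_conj_eq (conjHom_ne_id hK) (conjHom_conjHom hK)
    (s := (-1 : K)) (by rw [map_neg, map_one])
  obtain ⟨lam, hl, hl1⟩ : ∃ l : K, l * σ l = 1 ∧ l ≠ 1 := by
    have hcard := card_norm_eq hK (1 : K) (one_pow q)
    rw [if_neg one_ne_zero, Nat.card_eq_fintype_card] at hcard
    have : Nontrivial {x : K // x ^ (q + 1) = 1} := Fintype.one_lt_card_iff_nontrivial.mp (by omega)
    obtain ⟨⟨l, hl⟩, hne⟩ := exists_ne (⟨1, one_pow _⟩ : {x : K // x ^ (q + 1) = 1})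
    exact ⟨l, by rw [hσ, conjHom_apply, ← pow_succ']; exact hl, fun h => hne (Subtype.ext h)⟩
  set μ := 1 - σ lam with hμ
  have hμ0 : μ ≠ 0 := fun h => hl1 (by
    have h1 : σ lam = 1 := (sub_eq_zero.mp h).symm
    rw [← hσσ lam, h1, map_one])
  -- the three coordinates
  let S : ((Fin 2 ⊕ Fin 2) ⊕ Fin 2 → F) → K := fun v => ι (v (.inl (.inl 0))) + w * ι (v (.inl (.inl 1)))
  let T' : ((Fin 2 ⊕ Fin 2) ⊕ Fin 2 → F) → K := fun v =>
    σ ((ι (v (.inl (.inr 0))) * (σ w / (σ w - w)) + ι (v (.inl (.inr 1))) * (w - σ w)⁻¹) / μ)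
  let X : ((Fin 2 ⊕ Fin 2) ⊕ Fin 2 → F) → Fin 3 → K := fun v =>
    ![ι (v (.inr 0)) + w * ι (v (.inr 1)), S v + T' v, c * (S v + lam * T' v)]
  let emb : ((Fin 2 ⊕ Fin 2) ⊕ Fin 2 → F) →+ (Fin 3 ⊕ Fin 3 → K) :=
    { toFun := fun v => Sum.elim (X v) (fun i => σ (X v i))
      map_zero' := by funext k; rcases k with k | k <;> fin_cases k <;> simp [X, S, T']
      map_add' := fun u v => by
        funext k; rcases k with k | k <;> fin_cases k <;> simp [X, S, T'] <;> ring }
  have hQe : ∀ v, ι (Cfsg.quadFormMinus 2 F a b v) = Cfsg.quadFormPlus 3 K (emb v) := fun v => by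
    have hμσ : σ μ = 1 - lam := by rw [hμ, map_sub, map_one, hσσ]
    have e1 : (S v + T' v) * σ (S v + T' v) + (c * (S v + lam * T' v)) * σ (c * (S v + lam * T' v)) =
        μ * (S v * σ (T' v)) + σ μ * (σ (S v) * T' v) := by
      rw [hμσ, hμ]
      simp only [map_add, map_mul]
      linear_combination (S v + lam * T' v) * (σ (S v) + σ lam * σ (T' v)) * hc - T' v * σ (T' v) * hl
    have e2 : μ * σ (T' v) = ι (v (.inl (.inr 0))) * (σ w / (σ w - w)) + ι (v (.inl (.inr 1))) * (w - σ w)⁻¹ := by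
      simp only [T', hσσ]
      rw [mul_div_cancel₀ _ hμ0]
    have e3 : σ μ * T' v = ι (v (.inl (.inr 0))) * (w / (w - σ w)) + ι (v (.inl (.inr 1))) * (σ w - w)⁻¹ := by
      have := congrArg σ e2
      simpa [hσσ, hσι, map_div₀, map_inv₀] using this
    have e4 : μ * (S v * σ (T' v)) + σ μ * (σ (S v) * T' v) =
        S v * (μ * σ (T' v)) + σ (S v) * (σ μ * T' v) := by ring
    have e5 : μ * (S v * σ (T' v)) + σ μ * (σ (S v) * T' v) =
        ι (v (.inl (.inl 0))) * ι (v (.inl (.inr 0))) + ι (v (.inl (.inl 1))) * ι (v (.inl (.inr 1))) := by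
      rw [e4, e2, e3]
      simp only [S, map_add, map_mul, hσι]
      rw [← neg_sub w (σ w)]
      field_simp
      ring
    simp [Cfsg.quadFormMinus, Cfsg.quadFormPlus, Fin.sum_univ_three, Fin.sum_univ_two, emb, X, hσι]
    simp only [map_add, map_mul] at e1
    linear_combination -e1 - e5 - ι (v (.inr 0)) * ι (v (.inr 1)) * hw1 - ι (v (.inr 1)) ^ 2 * hw2
  have hsmul : ∀ (r : F) v, emb (r • v) = ι r • emb v := fun r v => by
    funext k; rcases k with k | k <;> fin_cases k <;> simp [emb, X, S, T', hσι] <;> ring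
  have hinj : Function.Injective emb := by
    refine injective_of_form ((hyperForm 2 (binaryForm a b)).comp (minusEquiv 2 F).toLinearMap)
      (polarBilin_nondegenerate_comp _ _ (hyperForm_nondegenerate 2 _ (binaryForm_nondegenerate a b hab)))
      emb (Cfsg.quadFormPlus 3 K) ι fun v => ?_
    rw [QuadraticMap.comp_apply, LinearEquiv.coe_coe, ← quadFormMinus_eq_hyper, hQe]
  have hXsurj : Function.Surjective X := by
    have hXinj : Function.Injective X := fun u v h => hinj (by
      show Sum.elim (X u) _ = Sum.elim (X v) _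
      rw [h])
    refine ((Fintype.bijective_iff_injective_and_card X).mpr ⟨hXinj, ?_⟩).2
    simp [Fintype.card_fun, hF, hK]
    ring
  have honto : ∀ z : Fin 3 ⊕ Fin 3 → K, z ∘ Sum.swap = σ ∘ z → ∃ v, emb v = z := fun z hz => by
    obtain ⟨v, hv⟩ := hXsurj fun i => z (.inl i)
    refine ⟨v, ?_⟩
    funext k
    rcases k with k | k
    · exact congrFun hv k
    · show σ (X v k) = z (.inr k)
      rw [hv]
      exact (congrFun hz (.inl k)).symm
  have himgs : ∀ v, emb v ∘ Sum.swap = σ ∘ emb v := fun v => by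
    funext k; rcases k with k | k <;> simp [emb, hσσ]
  let mat : Cfsg.SU 4 K q →* Matrix (Fin 4) (Fin 4) K :=
    (Cfsg.slToMat 4 K).comp (Cfsg.SU 4 K q).subtype
  have hdet : ∀ g, (mat g).det = 1 := fun g => g.1.2
  have hunit : ∀ g, (mat g).map σ * (mat g)ᵀ = 1 := fun g =>
    mul_eq_one_comm.mp ((mem_SU_iff hK g.1).mp g.2)
  have hmap : ∀ (g : Matrix (Fin 4) (Fin 4) K) z, σ ∘ wedgeLin g z = wedgeLin (g.map σ) (σ ∘ z) := fun g z => by
    funext k
    rw [wedgeLin_eq, wedgeLin_eq]
    rcases k with k | k <;> fin_cases k <;> simp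
  obtain ⟨L, hL⟩ := exists_descent ι emb hinj hsmul (wedgeHom.comp mat) fun g v => honto _ (by
    show wedgeLin (mat g) (emb v) ∘ Sum.swap = σ ∘ wedgeLin (mat g) (emb v)
    have h := congrArg (wedgeLin ((mat g).map σ)) (wedgeLin_transpose_swap (hdet g) (emb v))
    rw [← Module.End.mul_apply, ← wedgeLin_mul, hunit, wedgeLin_one, Module.End.one_apply] at h
    rw [h, himgs, hmap])
  let φ := isoHom (LinearEquiv.refl F _) (Cfsg.quadFormMinus 2 F a b) L fun g v => ι.injective (by
    show ι (Cfsg.quadFormMinus 2 F a b (L g v)) = _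
    rw [hQe, hQe, hL]
    show Cfsg.quadFormPlus 3 K (wedgeLin (mat g) (emb v)) = _
    rw [quadFormPlus_wedgeLin, hdet, one_mul])
  have hk : ∀ g, g ∈ φ.ker ↔ ∃ r : K, r ^ 2 = 1 ∧ mat g = r • 1 := fun g => by
    refine (mem_ker_isoHom _ _ _ _ g).trans ⟨fun h => eq_scalar_of_wedgeLin_eq_one _ ?_, ?_⟩
    · have hfix : ∀ z : Fin 3 ⊕ Fin 3 → K, z ∘ Sum.swap = σ ∘ z → wedgeLin (mat g) z = z := fun z hz => by
        obtain ⟨v, rfl⟩ := honto z hz
        show wedgeHom.comp mat g (emb v) = _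
        rw [← hL, h v]
      intro z
      -- two conjugate-symmetric parts
      let A : K → Fin 3 → Fin 3 ⊕ Fin 3 → K := fun x i => Pi.single (.inl i) x + Pi.single (.inr i) (σ x)
      have hA : ∀ x i, A x i ∘ Sum.swap = σ ∘ A x i := fun x i => by
        funext k
        rcases k with k | k <;> simp [A, Pi.single_apply, apply_ite σ, hσσ]
      have hd' : σ w - w ≠ 0 := sub_ne_zero.mpr hw
      have hdec : z = ∑ i, (((σ w * z (.inl i) - w * z (.inr i)) / (σ w - w)) • A 1 i +
          ((z (.inr i) - z (.inl i)) / (σ w - w)) • A w i) := by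
        funext k
        rcases k with k | k <;> simp [A, Pi.single_apply, Finset.sum_apply, Finset.sum_add_distrib] <;> field_simp <;> ring
      rw [hdec, map_sum]
      simp only [map_add, map_smul, hfix _ (hA _ _)]
    · rintro ⟨r, hr, hg⟩ v
      refine hinj ?_
      rw [hL]
      show altCoord (mat g * altFour (emb v) * (mat g)ᵀ) = emb v
      rw [hg, Matrix.transpose_smul, Matrix.transpose_one, Matrix.smul_mul, one_mul, Matrix.mul_smul,
        mul_one, smul_smul, ← sq, hr, one_smul, altCoord_altFour]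
  have hinjm : Function.Injective mat := fun x y h => Subtype.ext (Subtype.ext h)
  have hker : φ.ker ≤ Subgroup.center (Cfsg.SU 4 K q) := fun g hg => by
    obtain ⟨r, -, hg'⟩ := (hk g).mp hg
    refine Subgroup.mem_center_iff.mpr fun x => hinjm ?_
    rw [map_mul, map_mul, hg']
    simp
  have hmem : ∀ r : K, r ^ 2 = 1 → ∃ g, mat g = r • 1 := fun r hr => by
    have hrσ : r * σ r = 1 := by
      have : (r - 1) * (r + 1) = 0 := by linear_combination hr
      rcases mul_eq_zero.mp this with h' | h'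
      · rw [sub_eq_zero.mp h', map_one, one_mul]
      · rw [eq_neg_of_add_eq_zero_left h', map_neg, map_one]; ring
    refine ⟨⟨⟨r • 1, by simp [Matrix.det_smul, show r ^ 4 = (r ^ 2) ^ 2 by ring, hr]⟩,
      (mem_SU_iff hK _).mpr ?_⟩, rfl⟩
    rw [← hσ]
    show (r • (1 : Matrix (Fin 4) (Fin 4) K))ᵀ * (r • (1 : Matrix (Fin 4) (Fin 4) K)).map σ = 1
    rw [Matrix.transpose_smul, Matrix.transpose_one, Matrix.smul_mul, one_mul]
    ext i j
    by_cases h : i = j
    · subst h; simp [hrσ]
    · simp [Matrix.one_apply_ne h]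
  have hkc : Nat.card φ.ker = Nat.card {r : K // r ^ 2 = 1} := card_ker_scalars φ mat hinjm hk hmem
  have hO := card_orth_minus (F := F) hF 3 (by norm_num) a b hab
  have hG := card_GU hK 4
  have hS := card_SU hK (n := 4) (by norm_num)
  simp [Finset.prod_range_succ, -Nat.card_eq_fintype_card] at hO
  simp [Finset.prod_range_succ, Nat.even_iff, -Nat.card_eq_fintype_card] at hG
  rw [hG] at hS
  have hcard : Nat.card (Cfsg.SU 4 K q) * 2 =
      Nat.card (Cfsg.isometryGroup F (Cfsg.quadFormMinus 2 F a b)) := by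
    refine Nat.eq_of_mul_eq_mul_left (show 0 < q + 1 by omega) ?_
    rw [← mul_assoc, hS, hO]
    ring
  refine nonempty_POmega_of_perfect (commutator_SU_eq_top hK le_rfl) φ hker
    ⟨fun h2 => ?_, fun h2 => ⟨index_commutator_minus 2 a b hab (by norm_num) h2, ?_⟩⟩
  · rw [hkc, card_sq_eq_one_of_even ((two_eq_zero_iff_map ι).mpr h2), one_mul, hcard]
  · rw [hkc, card_sq_eq_one_of_odd (fun h => h2 ((two_eq_zero_iff_map ι).mp h)), ← hcard]
    ring

end Six

end Cfsg.Agent.Lib.Classical
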