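import Cfsg.Prelude.Def_Classical
import Cfsg.Agent.Lib.Classical.SympGroup

/-!
`O_{2m+1}(q) ≅ Sp_{2m}(q)` in characteristic two.
-/

set_option autoImplicit false

namespace Cfsg.Agent.Lib.Classical

open scoped Matrix
open Cfsg.Agent.Lib.Geometry

variable {F : Type*} [Field F] [CharP F 2] {m : ℕ}

theorem quadFormPlus_add_two (u v : Fin m ⊕ Fin m → F) :
    Cfsg.quadFormPlus m F (u + v) =
      Cfsg.quadFormPlus m F u + Cfsg.quadFormPlus m F v + Cfsg.sympForm m F u v := by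
  simp only [Cfsg.quadFormPlus, Cfsg.sympForm, Pi.add_apply, dotProduct, Fintype.sum_sum_type,
    Matrix.J, Matrix.mulVec, Matrix.fromBlocks, Matrix.of_apply, Sum.elim_inl, Sum.elim_inr,
    Matrix.zero_apply, Matrix.neg_apply, Matrix.one_apply, CharTwo.neg_eq, zero_mul, ite_mul,
    one_mul, Finset.sum_const_zero, Finset.sum_ite_eq, Finset.mem_univ, if_true, zero_add, add_zero,
    add_mul, mul_add, Finset.sum_add_distrib]
  rw [Finset.sum_congr rfl fun i _ => mul_comm (u (Sum.inr i)) (v (Sum.inl i))]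
  simp [CharTwo.two_eq_zero]
  ring

theorem quadFormPlus_smul_sq (c : F) (v : Fin m ⊕ Fin m → F) :
    Cfsg.quadFormPlus m F (c • v) = c ^ 2 * Cfsg.quadFormPlus m F v := by
  simp only [Cfsg.quadFormPlus, Pi.smul_apply, smul_eq_mul, Finset.mul_sum]
  exact Finset.sum_congr rfl fun i _ => by ring

theorem quadFormOdd_elim (c : Unit → F) (v : Fin m ⊕ Fin m → F) :
    Cfsg.quadFormOdd m F (Sum.elim c v) = c () ^ 2 + Cfsg.quadFormPlus m F v := rfl

/-- The quotient of an isometry by the radical. -/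
theorem odd_iso_blocks (g : Cfsg.isometryGroup F (Cfsg.quadFormOdd m F)) :
    ∃ (R : Matrix Unit (Fin m ⊕ Fin m) F) (A : Matrix (Fin m ⊕ Fin m) (Fin m ⊕ Fin m) F),
      (g.1 : Matrix (Unit ⊕ (Fin m ⊕ Fin m)) (Unit ⊕ (Fin m ⊕ Fin m)) F) = Matrix.fromBlocks 1 R 0 A ∧
      A ∈ Matrix.symplecticGroup (Fin m) F ∧
      ∀ v, (R *ᵥ v) () ^ 2 = Cfsg.quadFormPlus m F v + Cfsg.quadFormPlus m F (A *ᵥ v) := by
  set M := (g.1 : Matrix (Unit ⊕ (Fin m ⊕ Fin m)) (Unit ⊕ (Fin m ⊕ Fin m)) F) with hM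
  have hg : ∀ x, Cfsg.quadFormOdd m F (M *ᵥ x) = Cfsg.quadFormOdd m F x := fun x => g.2 x x
  have hadd : ∀ x y, Cfsg.quadFormOdd m F (x + y) = Cfsg.quadFormOdd m F x + Cfsg.quadFormOdd m F y +
      Cfsg.sympForm m F (x ∘ Sum.inr) (y ∘ Sum.inr) := by
    intro x y
    rw [← Sum.elim_comp_inl_inr x, ← Sum.elim_comp_inl_inr y, ← Sum.elim_add_add, quadFormOdd_elim,
      quadFormOdd_elim, quadFormOdd_elim, quadFormPlus_add_two, Pi.add_apply, CharTwo.add_sq]
    simp only [Sum.elim_comp_inr]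
    ring
  have hpol : ∀ x y, Cfsg.sympForm m F ((M *ᵥ x) ∘ Sum.inr) ((M *ᵥ y) ∘ Sum.inr) =
      Cfsg.sympForm m F (x ∘ Sum.inr) (y ∘ Sum.inr) := by
    intro x y
    have h := hg (x + y)
    rw [Matrix.mulVec_add, hadd, hadd x y, hg, hg] at h
    linear_combination h
  -- the radical is fixed
  set e : Unit ⊕ (Fin m ⊕ Fin m) → F := Sum.elim (fun _ => 1) 0 with he
  have hbot : (M *ᵥ e) ∘ Sum.inr = 0 := by
    refine (sympBilin_nondegenerate F m).1 _ fun y => ?_
    obtain ⟨x, hx⟩ : ∃ x, M *ᵥ x = Sum.elim (0 : Unit → F) y :=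
      ⟨(g.1⁻¹ : GL (Unit ⊕ (Fin m ⊕ Fin m)) F).1 *ᵥ Sum.elim (0 : Unit → F) y, by
        rw [hM, Matrix.mulVec_mulVec, Units.mul_inv, Matrix.one_mulVec]⟩
    have h := hpol e x
    rw [hx, Sum.elim_comp_inr, he, Sum.elim_comp_inr, ← sympBilin_apply, ← sympBilin_apply,
      map_zero, LinearMap.zero_apply] at h
    exact h
  have htop : (M *ᵥ e) (Sum.inl ()) = 1 := by
    have h := hg e
    rw [← Sum.elim_comp_inl_inr (M *ᵥ e), hbot, he, quadFormOdd_elim, quadFormOdd_elim] at h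
    simp only [Cfsg.quadFormPlus, Pi.zero_apply, mul_zero, Finset.sum_const_zero, add_zero,
      one_pow, Function.comp_apply] at h
    rcases sq_eq_one_iff.mp h with h' | h'
    · exact h'
    · rw [h', CharTwo.neg_eq]
  have hcol : ∀ r, M r (Sum.inl ()) = (M *ᵥ e) r := by
    intro r
    simp [he, Matrix.mulVec, dotProduct, Fintype.sum_sum_type]
  refine ⟨M.toBlocks₁₂, M.toBlocks₂₂, ?_, ?_, ?_⟩
  · conv_lhs => rw [← Matrix.fromBlocks_toBlocks M]
    congr 1
    · ext i j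
      show M (Sum.inl ()) (Sum.inl ()) = (1 : Matrix Unit Unit F) i j
      rw [hcol, htop, Subsingleton.elim i j, Matrix.one_apply_eq]
    · ext i j
      show M (Sum.inr i) (Sum.inl ()) = 0
      rw [hcol]
      exact congrFun hbot i
  · refine mem_symplecticGroup_iff_form.mpr fun u v => ?_
    have h := hpol (Sum.elim 0 u) (Sum.elim 0 v)
    rw [← Matrix.fromBlocks_toBlocks M, Matrix.fromBlocks_mulVec, Matrix.fromBlocks_mulVec] at h
    simpa only [Sum.elim_comp_inl, Sum.elim_comp_inr, Matrix.mulVec_zero, zero_add] using h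
  · intro v
    have h := hg (Sum.elim 0 v)
    rw [← Matrix.fromBlocks_toBlocks M, Matrix.fromBlocks_mulVec, quadFormOdd_elim, quadFormOdd_elim] at h
    simp only [Sum.elim_comp_inl, Sum.elim_comp_inr, Matrix.mulVec_zero, zero_add, Pi.zero_apply] at h
    have h2 : (2 : F) = 0 := CharTwo.two_eq_zero
    linear_combination h - (Cfsg.quadFormPlus m F (M.toBlocks₂₂ *ᵥ v)) * h2

theorem nonempty_orthOdd_mulEquiv_sp [Fintype F] :
    Nonempty (Cfsg.isometryGroup F (Cfsg.quadFormOdd m F) ≃* Matrix.symplecticGroup (Fin m) F) := by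
  classical
  choose R A hblock hA hR using odd_iso_blocks (F := F) (m := m)
  have key : ∀ g h, A (g * h) = A g * A h := by
    intro g h
    have e : Matrix.fromBlocks (1 : Matrix Unit Unit F) (R (g * h)) 0 (A (g * h)) =
        Matrix.fromBlocks (1 : Matrix Unit Unit F) (R g) 0 (A g) *
          Matrix.fromBlocks (1 : Matrix Unit Unit F) (R h) 0 (A h) := by
      rw [← hblock, ← hblock, ← hblock]; rfl
    rw [Matrix.fromBlocks_multiply] at e
    simpa using (Matrix.fromBlocks_inj.mp e).2.2.2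
  let Φ : Cfsg.isometryGroup F (Cfsg.quadFormOdd m F) →* Matrix.symplecticGroup (Fin m) F :=
    MonoidHom.mk' (fun g => ⟨A g, hA g⟩) fun g h => Subtype.ext (key g h)
  refine ⟨MulEquiv.ofBijective Φ ⟨?_, ?_⟩⟩
  · rw [injective_iff_map_eq_one]
    intro g hg
    have hA1 : A g = 1 := congrArg Subtype.val hg
    have hR0 : R g = 0 := by
      ext i j
      have h := hR g (Pi.single j 1)
      rw [hA1, Matrix.one_mulVec, CharTwo.add_self_eq_zero, Matrix.mulVec_single_one] at h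
      exact eq_zero_of_pow_eq_zero h
    apply Subtype.ext; apply Units.ext
    show (g.1 : Matrix (Unit ⊕ (Fin m ⊕ Fin m)) (Unit ⊕ (Fin m ⊕ Fin m)) F) = 1
    rw [hblock g, hA1, hR0, Matrix.fromBlocks_one]
  · intro B
    choose s hs using fun x : F => FiniteField.isSquare_of_char_two (ringChar.eq F 2) x
    let D : (Fin m ⊕ Fin m → F) →+ F := AddMonoidHom.mk'
      (fun v => Cfsg.quadFormPlus m F v + Cfsg.quadFormPlus m F (B.1 *ᵥ v)) (fun u v => by
        rw [Matrix.mulVec_add, quadFormPlus_add_two, quadFormPlus_add_two, sp_form]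
        linear_combination Cfsg.sympForm m F u v * (CharTwo.two_eq_zero : (2 : F) = 0))
    let R₀ : Matrix Unit (Fin m ⊕ Fin m) F := Matrix.of fun _ j => s (D (Pi.single j 1))
    have hR₀ : ∀ v, (R₀ *ᵥ v) () ^ 2 = D v := by
      intro v
      conv_rhs => rw [pi_eq_sum_univ' v, map_sum]
      show (∑ j, R₀ () j * v j) ^ 2 = _
      rw [CharTwo.sum_sq]
      refine Finset.sum_congr rfl fun j _ => ?_
      show _ = Cfsg.quadFormPlus m F (v j • _) + Cfsg.quadFormPlus m F (B.1 *ᵥ (v j • _))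
      rw [Matrix.mulVec_smul, quadFormPlus_smul_sq, quadFormPlus_smul_sq, ← mul_add, mul_pow,
        mul_comm]
      congr 1
      rw [pow_two]
      exact (hs (D (Pi.single j 1))).symm
    have hdet : (Matrix.fromBlocks 1 R₀ 0 B.1 :
        Matrix (Unit ⊕ (Fin m ⊕ Fin m)) (Unit ⊕ (Fin m ⊕ Fin m)) F).det ≠ 0 := by
      rw [Matrix.det_fromBlocks_zero₂₁, Matrix.det_one, one_mul]
      have h := congrArg Matrix.det (Subtype.ext_iff.mp (inv_mul_cancel B))
      rw [Submonoid.coe_mul, Matrix.det_mul, Submonoid.coe_one, Matrix.det_one] at h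
      exact right_ne_zero_of_mul_eq_one h
    let g : Cfsg.isometryGroup F (Cfsg.quadFormOdd m F) :=
      ⟨Matrix.GeneralLinearGroup.mkOfDetNeZero _ hdet, fun u _ => by
        show Cfsg.quadFormOdd m F (Matrix.fromBlocks 1 R₀ 0 B.1 *ᵥ u) = Cfsg.quadFormOdd m F u
        conv_rhs => rw [← Sum.elim_comp_inl_inr u]
        rw [Matrix.fromBlocks_mulVec, quadFormOdd_elim, quadFormOdd_elim, Pi.add_apply,
          CharTwo.add_sq, Matrix.one_mulVec, hR₀, Matrix.zero_mulVec, zero_add]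
        show _ + (Cfsg.quadFormPlus m F (u ∘ Sum.inr) + _) + _ = _
        linear_combination (Cfsg.quadFormPlus m F (B.1 *ᵥ (u ∘ Sum.inr))) *
          (CharTwo.two_eq_zero : (2 : F) = 0)⟩
    refine ⟨g, Subtype.ext ?_⟩
    show A g = B.1
    have e : Matrix.fromBlocks (1 : Matrix Unit Unit F) (R g) 0 (A g) = Matrix.fromBlocks (1 : Matrix Unit Unit F) R₀ 0 B.1 := (hblock g).symm
    exact (Matrix.fromBlocks_inj.mp e).2.2.2

end Cfsg.Agent.Lib.Classical
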