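import Cfsg.Agent.Lib.Classical.WedgeSquare
import Cfsg.Agent.Lib.Classical.SympSimple
import Cfsg.Agent.Lib.Classical.SympCard

/-!
`PΩ⁺₆(q) ≅ PSL₄(q)` and `PΩ₅(q) ≅ PSp₄(q)`.
-/

set_option autoImplicit false

namespace Cfsg.Agent.Lib.Classical

open Matrix

variable {F : Type*} [Field F] [Fintype F]

theorem card_sq_eq_one_of_even (h2 : (2 : F) = 0) : Nat.card {c : F // c ^ 2 = 1} = 1 := by
  rw [Nat.card_eq_one_iff_unique]
  refine ⟨⟨fun a b => Subtype.ext ?_⟩, ⟨⟨1, one_pow 2⟩⟩⟩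
  have key : ∀ c : {c : F // c ^ 2 = 1}, c.1 = 1 := fun c => by
    have : (c.1 - 1) ^ 2 = 0 := by linear_combination c.2 + (1 - c.1) * h2
    exact sub_eq_zero.mp (eq_zero_of_pow_eq_zero this)
  rw [key a, key b]

theorem card_sq_eq_one_of_odd (h2 : (2 : F) ≠ 0) : Nat.card {c : F // c ^ 2 = 1} = 2 := by
  have hne : (1 : F) ≠ -1 := fun h => h2 (by linear_combination h)
  rw [Nat.card_eq_two_iff]
  refine ⟨⟨1, one_pow 2⟩, ⟨-1, by ring⟩, fun h => hne (congrArg Subtype.val h), ?_⟩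
  refine Set.eq_univ_of_forall fun ⟨c, hc⟩ => ?_
  have : (c - 1) * (c + 1) = 0 := by linear_combination hc
  rcases mul_eq_zero.mp this with h | h
  · exact Or.inl (Subtype.ext (sub_eq_zero.mp h))
  · exact Or.inr (Subtype.ext (eq_neg_of_add_eq_zero_left h))

/-- The kernel of a matrix representation killed exactly by `±1`. -/
theorem card_ker_scalars {n : ℕ} {G H : Type*} [Group G] [Group H] (φ : G →* H)
    (mat : G → Matrix (Fin (n + 1)) (Fin (n + 1)) F)
    (hinj : Function.Injective mat)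
    (hker : ∀ g, g ∈ φ.ker ↔ ∃ c : F, c ^ 2 = 1 ∧ mat g = c • 1)
    (hmem : ∀ c : F, c ^ 2 = 1 → ∃ g, mat g = c • 1) :
    Nat.card φ.ker = Nat.card {c : F // c ^ 2 = 1} := by
  have hc : ∀ g : φ.ker, (mat g.1 0 0) ^ 2 = 1 ∧ mat g.1 = mat g.1 0 0 • 1 := fun g => by
    obtain ⟨c, hc, hg⟩ := (hker g.1).mp g.2
    simp [hg, hc]
  refine Nat.card_congr (Equiv.ofBijective (fun g => ⟨_, (hc g).1⟩) ⟨fun a b h => ?_, fun c => ?_⟩)
  · refine Subtype.ext (hinj ?_)
    rw [(hc a).2, (hc b).2, show mat a.1 0 0 = mat b.1 0 0 from congrArg Subtype.val h]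
  · obtain ⟨g, hg⟩ := hmem c.1 c.2
    exact ⟨⟨g, (hker g).mpr ⟨c.1, c.2, hg⟩⟩, Subtype.ext (by simp [hg])⟩

/-- Recognition from orders, for a perfect group. -/
theorem nonempty_POmega_of_perfect {ι : Type} [Fintype ι] [DecidableEq ι] {Q : (ι → F) → F} {G : Type*}
    [Group G] [Finite G] (hG : commutator G = ⊤) (φ : G →* Cfsg.isometryGroup F Q)
    (hker : φ.ker ≤ Subgroup.center G)
    (h : ((2 : F) = 0 → Nat.card G * 2 = Nat.card φ.ker * Nat.card (Cfsg.isometryGroup F Q)) ∧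
      ((2 : F) ≠ 0 → (Cfsg.Omega F Q).index = 4 ∧
        Nat.card G * 4 = Nat.card φ.ker * Nat.card (Cfsg.isometryGroup F Q))) :
    Nonempty (Cfsg.POmega F Q ≃* G ⧸ Subgroup.center G) := by
  have hle := range_le_Omega_of_perfect hG φ
  refine nonempty_POmega_of_hom φ ?_ hker (fun g hg => mem_center_of_perfect hG hg)
  by_cases h2 : (2 : F) = 0
  · exact index_Omega_of_index_two φ hle (h.1 h2)
  · exact range_eq_Omega_of_index φ hle (h.2 h2).1 (by norm_num) (h.2 h2).2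

/-- `PΩ⁺₆(q) ≅ PSL₄(q)`. -/
theorem nonempty_POmega_six_plus :
    Nonempty (Cfsg.POmega F (Cfsg.quadFormPlus 3 F) ≃* ProjectiveSpecialLinearGroup (Fin 4) F) := by
  classical
  let L : SpecialLinearGroup (Fin 4) F →* Module.End F (Fin 3 ⊕ Fin 3 → F) :=
    wedgeHom.comp ((Units.coeHom _).comp SpecialLinearGroup.toGL)
  let φ := isoHom (LinearEquiv.refl F _) (Cfsg.quadFormPlus 3 F) L fun g v => by
    show Cfsg.quadFormPlus 3 F (wedgeLin (g : Matrix (Fin 4) (Fin 4) F) v) = _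
    rw [quadFormPlus_wedgeLin, g.2, one_mul]
  have hk : ∀ g : SpecialLinearGroup (Fin 4) F, g ∈ φ.ker ↔
      ∃ c : F, c ^ 2 = 1 ∧ (g : Matrix (Fin 4) (Fin 4) F) = c • 1 := fun g => by
    refine (mem_ker_isoHom _ _ _ _ g).trans ⟨fun h => eq_scalar_of_wedgeLin_eq_one _ h, ?_⟩
    rintro ⟨c, hc, hg⟩ v
    show altCoord ((g : Matrix (Fin 4) (Fin 4) F) * altFour v * (g : Matrix (Fin 4) (Fin 4) F)ᵀ) = v
    rw [hg, Matrix.transpose_smul, Matrix.transpose_one, Matrix.smul_mul, one_mul, Matrix.mul_smul,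
      mul_one, smul_smul, ← sq, hc, one_smul, altCoord_altFour]
  have hker : φ.ker ≤ Subgroup.center (SpecialLinearGroup (Fin 4) F) := fun g hg => by
    obtain ⟨c, -, hg'⟩ := (hk g).mp hg
    refine Subgroup.mem_center_iff.mpr fun x => Subtype.ext ?_
    show (x : Matrix (Fin 4) (Fin 4) F) * (g : Matrix (Fin 4) (Fin 4) F) = (g : Matrix (Fin 4) (Fin 4) F) * x
    rw [hg']
    simp
  have hkc : Nat.card φ.ker = Nat.card {c : F // c ^ 2 = 1} :=
    card_ker_scalars φ (fun g => (g : Matrix (Fin 4) (Fin 4) F)) Subtype.val_injective hk fun c hc =>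
      ⟨⟨c • 1, by simp [Matrix.det_smul, show c ^ 4 = (c ^ 2) ^ 2 by ring, hc]⟩, rfl⟩
  have hO := card_orth_plus (F := F) rfl 3 (by norm_num)
  have hS := card_SL_mul (F := F) (n := 4) (by norm_num)
  simp [Fin.prod_univ_four, -Nat.card_eq_fintype_card] at hS
  simp [Finset.prod_range_succ, -Nat.card_eq_fintype_card] at hO
  set q := Fintype.card F with hq
  have hq2 : 2 ≤ q := Fintype.one_lt_card
  have hcard : Nat.card (SpecialLinearGroup (Fin 4) F) * 2 = Nat.card (Cfsg.isometryGroup F (Cfsg.quadFormPlus 3 F)) := by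
    refine Nat.eq_of_mul_eq_mul_left (show 0 < q - 1 by omega) ?_
    rw [← mul_assoc, hS, hO]
    have h1 : 1 ≤ q ^ 2 := Nat.one_le_pow _ _ (by omega)
    have h2 : 1 ≤ q ^ 3 := Nat.one_le_pow _ _ (by omega)
    have h3 : 1 ≤ q ^ 4 := Nat.one_le_pow _ _ (by omega)
    have e0 : q ≤ q ^ 4 := Nat.le_self_pow (by norm_num) q
    have e2 : q ^ 2 ≤ q ^ 4 := Nat.pow_le_pow_right (by omega) (by norm_num)
    have e3 : q ^ 3 ≤ q ^ 4 := Nat.pow_le_pow_right (by omega) (by norm_num)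
    zify [h1, h2, h3, e0, e2, e3, show 1 ≤ q by omega]
    ring
  refine nonempty_POmega_of_perfect (commutator_SL_eq_top (by simp)) φ hker ⟨fun h2 => ?_, fun h2 => ⟨?_, ?_⟩⟩
  · rw [hkc, card_sq_eq_one_of_even h2, one_mul, hcard]
  · rw [Geometry.index_commutator_congr
      (isometryMulEquiv (plusEquiv 3 F) _ _ (quadFormPlus_eq_hyper 3)).symm]
    exact Geometry.index_commutator_odd _ (hyperForm_nondegenerate 3 _ zero_nondegenerate) h2
      (le_trans (by norm_num) (finrank_hyperSpace_ge 3))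
  · rw [hkc, card_sq_eq_one_of_odd h2, ← hcard]
    ring

/-- The symplectic matrices in four variables, reindexed. -/
noncomputable def spFourMat : Matrix.symplecticGroup (Fin 2) F →* Matrix (Fin 4) (Fin 4) F :=
  ((Matrix.reindexAlgEquiv F F (finSumFinEquiv : Fin 2 ⊕ Fin 2 ≃ Fin 4)).toMulEquiv.toMonoidHom).comp
    (Submonoid.subtype _)

/-- The coordinates of the form. -/
def spFourJ (F : Type*) [Field F] : Fin 3 ⊕ Fin 3 → F := Sum.elim ![0, -1, 0] ![0, 1, 0]

theorem altFour_spFourJ :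
    altFour (spFourJ F) = Matrix.reindexAlgEquiv F F (finSumFinEquiv : Fin 2 ⊕ Fin 2 ≃ Fin 4)
      (Matrix.J (Fin 2) F) := by
  ext i j
  fin_cases i <;> fin_cases j <;>
    simp [altFour, spFourJ, Matrix.J, finSumFinEquiv, Fin.addCases, Matrix.fromBlocks]

theorem spFourMat_fix (g : Matrix.symplecticGroup (Fin 2) F) : wedgeLin (spFourMat g) (spFourJ F) = spFourJ F := by
  show altCoord (spFourMat g * altFour (spFourJ F) * (spFourMat g)ᵀ) = _
  conv_rhs => rw [← altCoord_altFour (spFourJ F)]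
  rw [altFour_spFourJ]
  congr 1
  show Matrix.reindexAlgEquiv F F _ g.1 * _ * (Matrix.reindexAlgEquiv F F _ g.1)ᵀ = _
  rw [show (Matrix.reindexAlgEquiv F F finSumFinEquiv g.1)ᵀ = Matrix.reindexAlgEquiv F F finSumFinEquiv g.1ᵀ
    from rfl, ← map_mul, ← map_mul, SymplecticGroup.mem_iff.mp g.2]

/-- The orthogonal of the form, in coordinates. -/
def fiveEmb : (Unit ⊕ (Fin 2 ⊕ Fin 2) → F) →ₗ[F] (Fin 3 ⊕ Fin 3 → F) where
  toFun v := Sum.elim ![v (.inr (.inl 0)), v (.inl ()), v (.inr (.inl 1))]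
    ![v (.inr (.inr 0)), v (.inl ()), v (.inr (.inr 1))]
  map_add' u v := by funext k; rcases k with k | k <;> fin_cases k <;> simp
  map_smul' c v := by funext k; rcases k with k | k <;> fin_cases k <;> simp

/-- The projection onto it. -/
def fiveProj : (Fin 3 ⊕ Fin 3 → F) →ₗ[F] (Unit ⊕ (Fin 2 ⊕ Fin 2) → F) where
  toFun w := Sum.elim (fun _ => w (.inl 1)) (Sum.elim ![w (.inl 0), w (.inl 2)] ![w (.inr 0), w (.inr 2)])
  map_add' u v := by funext k; rcases k with _ | k | k <;> [simp; (fin_cases k <;> simp); (fin_cases k <;> simp)]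
  map_smul' c v := by funext k; rcases k with _ | k | k <;> [simp; (fin_cases k <;> simp); (fin_cases k <;> simp)]

theorem fiveProj_fiveEmb (v : Unit ⊕ (Fin 2 ⊕ Fin 2) → F) : fiveProj (fiveEmb v) = v := by
  funext k
  rcases k with k | k | k
  · rfl
  all_goals (fin_cases k <;> rfl)

theorem quadFormPlus_fiveEmb (v : Unit ⊕ (Fin 2 ⊕ Fin 2) → F) :
    Cfsg.quadFormPlus 3 F (fiveEmb v) = Cfsg.quadFormOdd 2 F v := by
  simp [Cfsg.quadFormPlus, Cfsg.quadFormOdd, fiveEmb, Fin.sum_univ_three, Fin.sum_univ_two]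
  ring

theorem spFourMat_det (g : Matrix.symplecticGroup (Fin 2) F) : (spFourMat g).det = 1 := by
  have h := quadFormPlus_wedgeLin (spFourMat g) (spFourJ F)
  rw [spFourMat_fix] at h
  simp [Cfsg.quadFormPlus, spFourJ, Fin.sum_univ_three] at h
  exact h.symm

theorem fiveEmb_fiveProj {w : Fin 3 ⊕ Fin 3 → F} (h : w (.inr 1) = w (.inl 1)) : fiveEmb (fiveProj w) = w := by
  funext k
  rcases k with k | k <;> fin_cases k <;> simp [fiveEmb, fiveProj, h]

theorem wedge_perp (g : Matrix.symplecticGroup (Fin 2) F) (v : Unit ⊕ (Fin 2 ⊕ Fin 2) → F) :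
    fiveEmb (fiveProj (wedgeLin (spFourMat g) (fiveEmb v))) = wedgeLin (spFourMat g) (fiveEmb v) := by
  refine fiveEmb_fiveProj ?_
  have h1 := quadFormPlus_wedgeLin (spFourMat g) (fiveEmb v + spFourJ F)
  have h2 := quadFormPlus_wedgeLin (spFourMat g) (fiveEmb v)
  rw [map_add, spFourMat_fix, spFourMat_det, one_mul] at h1
  rw [spFourMat_det, one_mul] at h2
  generalize wedgeLin (spFourMat g) (fiveEmb v) = w at h1 h2
  simp [Cfsg.quadFormPlus, spFourJ, Fin.sum_univ_three, fiveEmb] at h1 h2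
  linear_combination (-1 : F) * h1 + h2

/-- The action of `Sp₄` on the orthogonal of the form. -/
noncomputable def spFiveHom : Matrix.symplecticGroup (Fin 2) F →* Module.End F (Unit ⊕ (Fin 2 ⊕ Fin 2) → F) where
  toFun g := fiveProj ∘ₗ wedgeLin (spFourMat g) ∘ₗ fiveEmb
  map_one' := LinearMap.ext fun v => by simp [wedgeLin_one, fiveProj_fiveEmb]
  map_mul' g h := LinearMap.ext fun v => by
    show fiveProj (wedgeLin (spFourMat (g * h)) (fiveEmb v)) =
      fiveProj (wedgeLin (spFourMat g) (fiveEmb (fiveProj (wedgeLin (spFourMat h) (fiveEmb v)))))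
    rw [wedge_perp, map_mul, wedgeLin_mul]
    rfl

/-- `PΩ₅(q) ≅ PSp₄(q)` for odd `q`. -/
theorem nonempty_POmega_five (hodd : Odd (Fintype.card F)) :
    Nonempty (Cfsg.POmega F (Cfsg.quadFormOdd 2 F) ≃* Cfsg.PSp 2 F) := by
  classical
  have h2 : (2 : F) ≠ 0 := fun h => by
    have := (two_eq_zero_iff_even (F := F) rfl).mp h
    exact absurd this (Nat.not_even_iff_odd.mpr hodd)
  have h3 : 3 ≤ Fintype.card F := by
    obtain ⟨j, hj⟩ := hodd
    have : 2 ≤ Fintype.card F := Fintype.one_lt_card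
    omega
  let φ := isoHom (LinearEquiv.refl F _) (Cfsg.quadFormOdd 2 F) spFiveHom fun g v => by
    show Cfsg.quadFormOdd 2 F (fiveProj (wedgeLin (spFourMat g) (fiveEmb v))) = _
    rw [← quadFormPlus_fiveEmb, wedge_perp, quadFormPlus_wedgeLin, spFourMat_det, one_mul, quadFormPlus_fiveEmb]
  have hk : ∀ g, g ∈ φ.ker ↔ ∃ c : F, c ^ 2 = 1 ∧ spFourMat g = c • 1 := fun g => by
    refine (mem_ker_isoHom _ _ _ _ g).trans ⟨fun h => eq_scalar_of_wedgeLin_eq_one _ fun v => ?_, ?_⟩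
    · obtain ⟨s, u, rfl⟩ : ∃ (s : F) (u : Unit ⊕ (Fin 2 ⊕ Fin 2) → F), v = fiveEmb u + s • spFourJ F := by
        refine ⟨(v (.inr 1) - v (.inl 1)) / 2, Sum.elim (fun _ => (v (.inr 1) + v (.inl 1)) / 2)
          (Sum.elim ![v (.inl 0), v (.inl 2)] ![v (.inr 0), v (.inr 2)]), ?_⟩
        funext k
        rcases k with k | k <;> fin_cases k <;> simp [fiveEmb, spFourJ] <;> field_simp <;> ring
      rw [map_add, map_smul, spFourMat_fix, ← wedge_perp]
      exact congrArg (fun x => fiveEmb x + s • spFourJ F) (h u)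
    · rintro ⟨c, hc, hg⟩ v
      show fiveProj (altCoord (spFourMat g * altFour (fiveEmb v) * (spFourMat g)ᵀ)) = v
      rw [hg, Matrix.transpose_smul, Matrix.transpose_one, Matrix.smul_mul, one_mul, Matrix.mul_smul,
        mul_one, smul_smul, ← sq, hc, one_smul, altCoord_altFour, fiveProj_fiveEmb]
  have hinj : Function.Injective (spFourMat (F := F)) := fun a b h =>
    Subtype.ext ((Matrix.reindexAlgEquiv F F (finSumFinEquiv : Fin 2 ⊕ Fin 2 ≃ Fin 4)).injective h)
  have hker : φ.ker ≤ Subgroup.center (Matrix.symplecticGroup (Fin 2) F) := fun g hg => by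
    obtain ⟨c, -, hg'⟩ := (hk g).mp hg
    refine Subgroup.mem_center_iff.mpr fun x => hinj ?_
    rw [map_mul, map_mul, hg']
    simp
  have hmem : ∀ c : F, c ^ 2 = 1 → ∃ g : Matrix.symplecticGroup (Fin 2) F, spFourMat g = c • 1 := fun c hc => by
    refine ⟨⟨c • 1, ?_⟩, ?_⟩
    · rw [SymplecticGroup.mem_iff, Matrix.transpose_smul, Matrix.transpose_one, Matrix.smul_mul,
        one_mul, Matrix.mul_smul, mul_one, smul_smul, ← sq, hc, one_smul]
    · show Matrix.reindexAlgEquiv F F _ (c • (1 : Matrix (Fin 2 ⊕ Fin 2) (Fin 2 ⊕ Fin 2) F)) = _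
      rw [map_smul, map_one]
  have hkc : Nat.card φ.ker = 2 := (card_ker_scalars φ _ hinj hk hmem).trans (card_sq_eq_one_of_odd h2)
  have hO := card_orth_odd (F := F) rfl hodd 2
  have hS := card_sp (F := F) 2
  simp [Finset.prod_range_succ, -Nat.card_eq_fintype_card] at hO hS
  refine nonempty_POmega_of_perfect (commutator_sp_eq_top (sp_perfect_cond_of_card (Or.inr (Or.inl ⟨rfl, h3⟩)))) φ hker
    ⟨fun h => absurd h h2, fun _ => ⟨?_, ?_⟩⟩
  · rw [Geometry.index_commutator_congr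
      (isometryMulEquiv (oddEquiv 2 F) _ _ (quadFormOdd_eq_hyper 2)).symm]
    exact Geometry.index_commutator_odd _ (hyperForm_nondegenerate 2 _ (sq_nondegenerate h2)) h2
      (le_trans (by norm_num) (finrank_hyperSpace_ge 2))
  · rw [hkc, hO, hS]
    ring

end Cfsg.Agent.Lib.Classical
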