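import Cfsg.Agent.Lib.Classical.OrthLow
import Cfsg.Agent.Lib.Classical.POmegaCard
import Cfsg.Agent.Lib.Geometry.OrthQuotient

/-!
`PΩ₃(q) ≅ PSL₂(q)`: conjugation on trace-zero matrices.
-/

set_option autoImplicit false

namespace Cfsg.Agent.Lib.Classical

open Matrix
open scoped commutatorElement

variable {F : Type*} [Field F]

/-- The trace-zero matrix of a vector. -/
def threeMat : (Unit ⊕ (Fin 1 ⊕ Fin 1) → F) →ₗ[F] Matrix (Fin 2) (Fin 2) F where
  toFun v := !![v (.inl ()), v (.inr (.inl 0)); v (.inr (.inr 0)), -v (.inl ())]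
  map_add' u v := by ext i j; fin_cases i <;> fin_cases j <;> simp [add_comm]
  map_smul' c v := by ext i j; fin_cases i <;> fin_cases j <;> simp

/-- The vector of a matrix. -/
def threeVec : Matrix (Fin 2) (Fin 2) F →ₗ[F] (Unit ⊕ (Fin 1 ⊕ Fin 1) → F) where
  toFun M := Sum.elim (fun _ => M 0 0) (Sum.elim (fun _ => M 0 1) (fun _ => M 1 0))
  map_add' M N := by funext k; rcases k with k | k | k <;> simp
  map_smul' c M := by funext k; rcases k with k | k | k <;> simp

theorem threeVec_threeMat (v : Unit ⊕ (Fin 1 ⊕ Fin 1) → F) : threeVec (threeMat v) = v := by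
  funext k
  rcases k with ⟨⟩ | k | k <;> (try fin_cases k) <;> simp [threeVec, threeMat]

theorem threeMat_threeVec {M : Matrix (Fin 2) (Fin 2) F} (h : M.trace = 0) :
    threeMat (threeVec M) = M := by
  rw [Matrix.trace_fin_two] at h
  ext i j
  fin_cases i <;> fin_cases j <;> simp [threeVec, threeMat]
  linear_combination -h

theorem det_threeMat (v : Unit ⊕ (Fin 1 ⊕ Fin 1) → F) :
    (threeMat v).det = -Cfsg.quadFormOdd 1 F v := by
  simp [threeMat, Cfsg.quadFormOdd, Matrix.det_fin_two]
  ring

/-- The adjoint action. -/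
noncomputable def threeAd :
    GL (Fin 2) F →* Module.End F (Unit ⊕ (Fin 1 ⊕ Fin 1) → F) where
  toFun g := threeVec ∘ₗ (LinearMap.mulRight F ((g⁻¹ : GL (Fin 2) F) : Matrix (Fin 2) (Fin 2) F)) ∘ₗ
    (LinearMap.mulLeft F (g : Matrix (Fin 2) (Fin 2) F)) ∘ₗ threeMat
  map_one' := LinearMap.ext fun v => by simp [threeVec_threeMat]
  map_mul' g h := LinearMap.ext fun v => by
    show threeVec (((g * h : GL (Fin 2) F) : Matrix (Fin 2) (Fin 2) F) * threeMat v *
        (((g * h)⁻¹ : GL (Fin 2) F) : Matrix (Fin 2) (Fin 2) F)) =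
      threeVec ((g : Matrix (Fin 2) (Fin 2) F) * threeMat (threeVec ((h : Matrix (Fin 2) (Fin 2) F) *
        threeMat v * ((h⁻¹ : GL (Fin 2) F) : Matrix (Fin 2) (Fin 2) F))) *
        ((g⁻¹ : GL (Fin 2) F) : Matrix (Fin 2) (Fin 2) F))
    rw [threeMat_threeVec (by
      rw [Matrix.trace_units_conj]
      simp [threeMat, Matrix.trace_fin_two])]
    rw [_root_.mul_inv_rev, Units.val_mul, Units.val_mul]
    congr 1
    noncomm_ring

theorem threeAd_apply (g : GL (Fin 2) F) (v : Unit ⊕ (Fin 1 ⊕ Fin 1) → F) :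
    threeAd g v = threeVec ((g : Matrix (Fin 2) (Fin 2) F) * threeMat v *
      ((g⁻¹ : GL (Fin 2) F) : Matrix (Fin 2) (Fin 2) F)) := rfl

theorem threeMat_threeAd (g : GL (Fin 2) F) (v : Unit ⊕ (Fin 1 ⊕ Fin 1) → F) :
    threeMat (threeAd g v) = (g : Matrix (Fin 2) (Fin 2) F) * threeMat v *
      ((g⁻¹ : GL (Fin 2) F) : Matrix (Fin 2) (Fin 2) F) := by
  rw [threeAd_apply, threeMat_threeVec]
  rw [Matrix.trace_units_conj]
  simp [threeMat, Matrix.trace_fin_two]

theorem threeAd_isometry (g : GL (Fin 2) F) (v : Unit ⊕ (Fin 1 ⊕ Fin 1) → F) :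
    Cfsg.quadFormOdd 1 F (threeAd g v) = Cfsg.quadFormOdd 1 F v := by
  apply neg_injective
  rw [← det_threeMat, ← det_threeMat, threeMat_threeAd, Matrix.det_units_conj]

theorem nonempty_POmega_three [Fintype F] (hodd : Odd (Fintype.card F)) :
    Nonempty (Cfsg.POmega F (Cfsg.quadFormOdd 1 F) ≃* ProjectiveSpecialLinearGroup (Fin 2) F) := by
  classical
  have hq3 : 3 ≤ Fintype.card F := by
    have := Fintype.one_lt_card (α := F)
    rw [Nat.odd_iff] at hodd
    omega
  have h2 : (2 : F) ≠ 0 := fun h => by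
    have hc := (two_eq_zero_iff_even (F := F) rfl).mp h
    exact Nat.not_even_iff_odd.mpr hodd hc
  let Φ : GL (Fin 2) F →* Cfsg.isometryGroup F (Cfsg.quadFormOdd 1 F) :=
    isoHom (LinearEquiv.refl F _) _ threeAd fun g v => threeAd_isometry g v
  let φ := Φ.comp (SpecialLinearGroup.toGL (n := Fin 2) (R := F))
  obtain ⟨a, ha0, ha1⟩ : ∃ a : F, a ≠ 0 ∧ a ≠ 1 := by
    by_contra hcon
    push Not at hcon
    have : (Finset.univ : Finset F) ⊆ {0, 1} := fun x _ => by
      by_cases hx : x = 0
      · simp [hx]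
      · simp [hcon x hx]
    have := (Finset.card_le_card this).trans Finset.card_le_two
    rw [Finset.card_univ] at this
    omega
  have hle : φ.range ≤ Cfsg.Omega F (Cfsg.quadFormOdd 1 F) := by
    rw [MonoidHom.range_comp, range_toGL_eq_ker_det,
      ← commutator_GL_eq_ker_det (fun _ => ⟨a, ha0, ha1⟩)]
    rw [commutator_def, Subgroup.map_commutator]
    exact Subgroup.commutator_mono le_top le_top
  have hker : φ.ker = Subgroup.center (SpecialLinearGroup (Fin 2) F) := by
    ext g
    rw [MonoidHom.mem_ker, MonoidHom.comp_apply, ← MonoidHom.mem_ker]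
    refine Iff.trans (mem_ker_isoHom _ _ _ _ _) ?_
    constructor
    · intro h
      have hM : ∀ v, (g : Matrix (Fin 2) (Fin 2) F) * threeMat v =
          threeMat v * (g : Matrix (Fin 2) (Fin 2) F) := by
        intro v
        have h' := threeMat_threeAd (SpecialLinearGroup.toGL g) v
        rw [h v] at h'
        have h'' := congrArg (· * (g : Matrix (Fin 2) (Fin 2) F)) h'
        simp only [mul_assoc] at h''
        rw [show ((SpecialLinearGroup.toGL g)⁻¹ : GL (Fin 2) F).1 * (g : Matrix (Fin 2) (Fin 2) F) = 1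
          from (SpecialLinearGroup.toGL g).inv_mul, mul_one] at h''
        exact h''.symm
      have e1 := hM (Sum.elim (fun _ => 0) (Sum.elim (fun _ => 1) (fun _ => 0)))
      have e2 := hM (Sum.elim (fun _ => 1) (fun _ => 0))
      have a00 := congrFun (congrFun e1 0) 0
      have a01 := congrFun (congrFun e1 0) 1
      have b01 := congrFun (congrFun e2 0) 1
      simp [threeMat, Matrix.mul_apply, Fin.sum_univ_two] at a00 a01 b01
      have h10 : g 1 0 = 0 := by linear_combination -a00
      have h11 : g 0 0 = g 1 1 := by linear_combination a01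
      have h01 : g 0 1 = 0 := by
        have : (2 : F) * g 0 1 = 0 := by linear_combination -b01
        exact (mul_eq_zero.mp this).resolve_left h2
      have hd := g.2
      rw [Matrix.det_fin_two] at hd
      rw [Matrix.SpecialLinearGroup.mem_center_iff]
      refine ⟨g 0 0, ?_, ?_⟩
      · rw [Fintype.card_fin]
        rw [h10, h01, ← h11] at hd
        linear_combination hd
      · ext i j
        fin_cases i <;> fin_cases j <;> simp [h10, h01, h11]
    · intro h v
      obtain ⟨r, hr, hrg⟩ := Matrix.SpecialLinearGroup.mem_center_iff.mp h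
      have hc : (g : Matrix (Fin 2) (Fin 2) F) * threeMat v =
          threeMat v * (g : Matrix (Fin 2) (Fin 2) F) := by
        rw [← hrg]
        exact ((Matrix.scalar_commute r (fun r' => mul_comm r r') (threeMat v))).eq
      rw [threeAd_apply]
      have : (g : Matrix (Fin 2) (Fin 2) F) * threeMat v *
          ((SpecialLinearGroup.toGL g)⁻¹ : GL (Fin 2) F).1 = threeMat v := by
        rw [hc, mul_assoc, show (g : Matrix (Fin 2) (Fin 2) F) *
          ((SpecialLinearGroup.toGL g)⁻¹ : GL (Fin 2) F).1 = 1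
          from (SpecialLinearGroup.toGL g).mul_inv, mul_one]
      rw [SpecialLinearGroup.coe_GL_coe_matrix, this, threeVec_threeMat]
  set Q₀ : QuadraticForm F F := QuadraticMap.sq with hQ₀
  have h₀ := sq_nondegenerate (F := F) h2
  have hQ := hyperForm_nondegenerate 1 Q₀ h₀
  have hidx : (Cfsg.Omega F (Cfsg.quadFormOdd 1 F)).index = 4 := by
    rw [Geometry.index_commutator_congr
      (isometryMulEquiv (oddEquiv 1 F) _ _ (quadFormOdd_eq_hyper 1)).symm]
    exact Geometry.index_commutator_odd _ hQ h2 (finrank_hyperSpace_ge 1)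
  have hr : φ.range = Cfsg.Omega F (Cfsg.quadFormOdd 1 F) := by
    refine range_eq_Omega_of_index φ hle hidx (by norm_num) ?_
    rw [hker, card_center_SL, card_SL2, card_orth_odd rfl hodd 1]
    have hg : Nat.gcd (Fintype.card (Fin 2)) (Fintype.card F - 1) = 2 := by
      obtain ⟨j, hj⟩ := hodd
      rw [Fintype.card_fin, hj, Nat.add_sub_cancel]
      exact Nat.gcd_eq_left (dvd_mul_right 2 j)
    rw [hg]
    simp
    ring
  refine nonempty_POmega_of_hom φ hr hker.le fun g hg => ?_
  have key : ∀ t : SpecialLinearGroup (Fin 2) F, (t : Matrix (Fin 2) (Fin 2) F).trace = 2 →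
      Commute g t := by
    intro t ht
    obtain ⟨r, hr, hrt⟩ := Matrix.SpecialLinearGroup.mem_center_iff.mp (hg t)
    have hgt : g * t * g⁻¹ = ⁅g, t⁆ * t := by rw [commutatorElement_def]; group
    have htr := congrArg (fun M : SpecialLinearGroup (Fin 2) F =>
      (M : Matrix (Fin 2) (Fin 2) F).trace) hgt
    simp only [Matrix.SpecialLinearGroup.coe_mul] at htr
    rw [Matrix.trace_mul_cycle, ← Matrix.SpecialLinearGroup.coe_mul, inv_mul_cancel,
      Matrix.SpecialLinearGroup.coe_one, one_mul, ht, ← hrt] at htr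
    rw [show (scalar (Fin 2) r * (t : Matrix (Fin 2) (Fin 2) F)).trace = r * 2 by
      rw [Matrix.scalar_apply, ← Matrix.smul_eq_diagonal_mul, Matrix.trace_smul, ht, smul_eq_mul]] at htr
    have hr1 : r = 1 := mul_right_cancel₀ h2 (by linear_combination -htr)
    have hc : ⁅g, t⁆ = 1 := Subtype.ext (by rw [← hrt, hr1, map_one]; rfl)
    exact commutatorElement_eq_one_iff_commute.mp hc
  rw [Subgroup.mem_center_iff]
  intro x
  have hx : x ∈ Subgroup.centralizer ({g} : Set (SpecialLinearGroup (Fin 2) F)) := by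
    have htop : Subgroup.centralizer ({g} : Set (SpecialLinearGroup (Fin 2) F)) = ⊤ := by
      refine SL_eq_top_of_transvection_mem fun i j hij b => ?_
      rw [Subgroup.mem_centralizer_singleton_iff]
      refine (key _ ?_).eq.symm
      simp [Matrix.SpecialLinearGroup.transvection, Matrix.transvection, Matrix.trace_fin_two,
        Matrix.single_apply]
      fin_cases i <;> fin_cases j <;> simp_all [one_add_one_eq_two]
    rw [htop]; exact Subgroup.mem_top x
  exact Subgroup.mem_centralizer_singleton_iff.mp hx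

end Cfsg.Agent.Lib.Classical
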