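import Cfsg.Agent.Lib.Classical.LinearCard
import Cfsg.Agent.Lib.Classical.LinearSimple
import Cfsg.Agent.Lib.Classical.SLTwo
import Cfsg.Agent.Lib.Compute.Cert

/-!
`PSL_4(2) ≅ A_8`: a certified subgroup of order `2520` has index `8`.
-/

set_option autoImplicit false

namespace Cfsg.Agent.Lib.Classical

open Cfsg.Agent.Lib.Compute

/-- level 0 of `sevenCert` -/
def sevenCert0 : Lvl where
  base := 1
  gens := [(0x20004000d000b00030005000c000a0008000e000700010009000f00060000, 0x20006000d0009000c00080003000700050001000a000e000b000f00040000), (0xc000d0003000200050004000a000b0007000600080009000e000f00010000, 0x20003000e000f000800090004000500070006000b000a000d000c00010000), (0xe000f000c000d00080009000a000b00050004000700060003000200010000, 0xe000f000c000d00080009000a000b00050004000700060003000200010000), (0x7000600050004000c000d000e000f00080009000a000b0003000200010000, 0x80009000a000b0004000500060007000f000e000d000c0003000200010000)]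
  trans := [(0x20004000d000b00030005000c000a0008000e000700010009000f00060000, 0, 0),
    (0xf0001000d000300090007000b0005000a000400080006000c0002000e0000, 0, 1),
    (0x20006000c000800030007000d0009000b000f00050001000a000e00040000, 2, 1),
    (0x2000b0005000c0003000a0004000d000f000600080001000e000700090000, 3, 1),
    (0xc00010003000e000a00070005000800040009000b00060002000f000d0000, 1, 2),
    (0xe0001000c0003000a00050008000700090006000b0004000d0002000f0000, 2, 2),
    (0x200090004000f000300080005000e000c0007000a0001000d0006000b0000, 3, 3),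
    (0xf00030007000b000900050001000d0002000e000a000600040008000c0000, 0, 4),
    (0xf000500080002000e000400090003000c0006000b0001000d0007000a0000, 1, 4),
    (0x20001000e000d000400070008000b0009000a00050006000f000c00030000, 1, 5),
    (0x4000100030006000d0008000a000f000b000e000c00090002000700050000, 3, 5),
    (0x40006000b000900050007000a0008000c000e00030001000d000f00020000, 0, 6),
    (0x6000100040003000d000a000f0008000e0009000c000b0005000200070000, 3, 6),
    (0x2000a0006000e0003000b0007000f000d000500090001000c000400080000, 2, 7)]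
  wit := [[[1],[2],[3,7,5],[0,6,9],[8],[5,10,9],[12],[10,5,1],[7,8,6],[11,13,10],[4,3,9],[13,9,3],[6,0,1],[14,9,8],[9,6,9]],
    [[0,1],[1,11,4],[5],[4,9,4],[9],[10],[8,1,4],[11,2,9],[12,5,5],[3,13,3],[2],[14,11,7],[6,5,5],[13,11],[7,3,1]],
    [[0,0,1],[3],[6],[1],[9,3,1],[8,7,9],[2],[14],[5,8,7],[4,5,1],[10,2,11],[13,10],[12,7,7],[11,10],[7]],
    [[0,0,2],[4],[1,1,9],[7],[2,8,11],[11],[13],[8,12,9],[3,7,2],[5,9,1],[10,12,2],[9,5,2],[12,13,3],[14,1,9],[6,8,11]]]

/-- level 1 of `sevenCert` -/
def sevenCert1 : Lvl where
  base := 2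
  gens := [(0xc000d0003000200050004000a000b0007000600080009000e000f00010000, 0x20003000e000f000800090004000500070006000b000a000d000c00010000), (0xe000f000c000d00080009000a000b00050004000700060003000200010000, 0xe000f000c000d00080009000a000b00050004000700060003000200010000), (0x7000600050004000c000d000e000f00080009000a000b0003000200010000, 0x80009000a000b0004000500060007000f000e000d000c0003000200010000)]
  trans := [(0xc000d0003000200050004000a000b0007000600080009000e000f00010000, 0, 0),
    (0x20003000e000f000800090004000500070006000b000a000d000c00010000, 0, 1),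
    (0xd000c00030002000700060009000800050004000b000a000f000e00010000, 1, 1),
    (0x4000500030002000a000b000d000c00080009000f000e0006000700010000, 2, 1),
    (0x20003000f000e000b000a000600070005000400080009000c000d00010000, 1, 2),
    (0x2000300060007000f000e000b000a00080009000c000d0005000400010000, 2, 2),
    (0x500040003000200080009000e000f000a000b000c000d0007000600010000, 2, 3),
    (0x600070003000200090008000c000d000b000a000e000f0004000500010000, 1, 4),
    (0xb000a00030002000d000c00050004000f000e000700060009000800010000, 2, 4),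
    (0xf000e000c000d000500040006000700080009000b000a0002000300010000, 0, 5),
    (0xf000e00060007000c000d00050004000b000a000200030008000900010000, 0, 6),
    (0x200030009000800070006000c000d000f000e00040005000a000b00010000, 2, 6),
    (0x9000800030002000e000f00040005000c000d00060007000b000a00010000, 2, 8)]
  wit := [[[1],[2],[0],[5,1],[4,3],[10],[11],[7,9],[9,6],[12,6],[3,1],[13,2],[8,6],[6,5]],
    [[0,1],[3],[5],[1],[8],[2],[7,11],[6,11],[4],[12,11],[10,1],[13,9],[9,11],[11,3]],
    [[0,2],[4],[6],[7],[9],[8,11],[12],[11,3],[13],[1],[10,5],[3,9],[2],[5,11]]]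

/-- level 2 of `sevenCert` -/
def sevenCert2 : Lvl where
  base := 4
  gens := [(0xe000f000c000d00080009000a000b00050004000700060003000200010000, 0xe000f000c000d00080009000a000b00050004000700060003000200010000), (0x7000600050004000c000d000e000f00080009000a000b0003000200010000, 0x80009000a000b0004000500060007000f000e000d000c0003000200010000)]
  trans := [(0xe000f000c000d00080009000a000b00050004000700060003000200010000, 0, 0),
    (0x7000600050004000c000d000e000f00080009000a000b0003000200010000, 1, 0),
    (0x6000700040005000f000e000d000c000a000b000800090003000200010000, 1, 1),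
    (0x5000400070006000d000c000f000e000b000a000900080003000200010000, 0, 2),
    (0x80009000a000b0004000500060007000f000e000d000c0003000200010000, 1, 2),
    (0x4000500060007000e000f000c000d00090008000b000a0003000200010000, 0, 3),
    (0x90008000b000a0007000600050004000d000c000f000e0003000200010000, 1, 3),
    (0xa000b000800090005000400070006000c000d000e000f0003000200010000, 1, 4),
    (0xb000a000900080006000700040005000e000f000c000d0003000200010000, 0, 5),
    (0xd000c000f000e000a000b0008000900040005000600070003000200010000, 1, 8),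
    (0xc000d000e000f00090008000b000a00060007000400050003000200010000, 1, 9)]
  wit := [[[1],[0],[4],[6],[2],[9],[3],[8],[7],[5],[11],[10]],
    [[2],[3],[5],[7],[8],[0],[9],[1],[10],[11],[4],[6]]]

/-- the certificate `sevenCert`, orbit lengths [15, 14, 12] -/
def sevenCert : List Lvl := [sevenCert0, sevenCert1, sevenCert2]

/-- A bit as an element of `ZMod 2`. -/
def bitZ (r j : ℕ) : ZMod 2 := if (r >>> j) % 2 = 1 then 1 else 0

/-- A `4 × 4` matrix from the bit masks of its rows. -/
def bitMat (r : List ℕ) : Matrix (Fin 4) (Fin 4) (ZMod 2) := Matrix.of fun i j => bitZ (r.getD i 0) j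

/-- The vector with the given bits. -/
def bitVec (i : Fin 16) : Fin 4 → ZMod 2 := fun j => bitZ i j

/-- The number with the given bits. -/
def vecBit (v : Fin 4 → ZMod 2) : Fin 16 :=
  Fin.ofNat 16 ((v 0).val + 2 * (v 1).val + 4 * (v 2).val + 8 * (v 3).val)

theorem bitVec_vecBit : ∀ v : Fin 4 → ZMod 2, bitVec (vecBit v) = v := by decide +kernel

theorem vecBit_bitVec : ∀ i : Fin 16, vecBit (bitVec i) = i := by decide +kernel

/-- Vectors of length four over `ZMod 2` as numbers. -/
def bitEquiv : (Fin 4 → ZMod 2) ≃ Fin 16 where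
  toFun := vecBit
  invFun := bitVec
  left_inv := bitVec_vecBit
  right_inv := vecBit_bitVec

/-- Generator matrices of the subgroup of order `2520`, with inverses and packed action. -/
def sevenGens : List (List ℕ × List ℕ × ℕ) :=
  [([6, 11, 3, 10], [10, 14, 15, 6], 0x20004000d000b00030005000c000a0008000e000700010009000f00060000),
   ([15, 10, 2, 14], [9, 4, 10, 6], 0xc000d0003000200050004000a000b0007000600080009000e000f00010000),
   ([9, 14, 4, 8], [9, 14, 4, 8], 0xe000f000c000d00080009000a000b00050004000700060003000200010000),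
   ([13, 14, 8, 12], [9, 10, 12, 4], 0x7000600050004000c000d000e000f00080009000a000b0003000200010000)]

theorem sevenGens_cover : (sevenCert0.gens.all fun g => sevenGens.any fun x => x.2.2 == g.1) = true := by
  decide +kernel

theorem sevenGens_inv : ∀ x ∈ sevenGens, ∀ i j : Fin 4,
    (∑ k : Fin 4, bitZ (x.1.getD i 0) k * bitZ (x.2.1.getD k 0) j) = if i = j then 1 else 0 := by
  decide +kernel

theorem sevenGens_act : ∀ x ∈ sevenGens, ∀ i : Fin 16,
    (vecBit fun k => ∑ j : Fin 4, bitZ (x.1.getD k 0) j * bitVec i j).val = app x.2.2 i := by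
  decide +kernel

theorem sevenCert_ok : chk 16 sevenCert = true := by decide +kernel

theorem sevenCert_order : certOrder sevenCert = 2520 := by decide +kernel

theorem two_units : ∀ a b : ZMod 2, a * b = 1 → a = 1 := by decide +kernel

theorem nonempty_PSL4_two {F : Type*} [Field F] [Fintype F] (hF : Fintype.card F = 2) :
    Nonempty (Matrix.ProjectiveSpecialLinearGroup (Fin 4) F ≃* alternatingGroup (Fin 8)) := by
  haveI : Fact (Nat.Prime 2) := ⟨Nat.prime_two⟩
  let ψ : Matrix.SpecialLinearGroup (Fin 4) (ZMod 2) →* Equiv.Perm (Fin 16) :=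
    (bitEquiv.permCongrHom.toMonoidHom.comp
      (MulAction.toPermHom (LinearMap.GeneralLinearGroup (ZMod 2) (Fin 4 → ZMod 2)) _)).comp
      (Matrix.GeneralLinearGroup.toLin.toMonoidHom.comp Matrix.SpecialLinearGroup.toGL)
  have hψ : ∀ A i, ψ A i = vecBit ((A : Matrix (Fin 4) (Fin 4) (ZMod 2)).mulVec (bitVec i)) :=
    fun A i => rfl
  have hinj : Function.Injective ψ := by
    intro A B h
    apply Subtype.ext
    apply Matrix.ext_of_mulVec_single
    intro j
    have := congrArg (fun σ : Equiv.Perm (Fin 16) => σ (vecBit (Pi.single j 1))) h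
    simp only [hψ, bitVec_vecBit] at this
    exact bitEquiv.injective this
  have hmem : ∀ g ∈ sevenCert0.gens, toPerm 16 g.1 ∈ ψ.range := by
    intro g hg
    have hcov := List.all_eq_true.mp sevenGens_cover g hg
    obtain ⟨x, hx, hxg⟩ := List.any_eq_true.mp hcov
    rw [beq_iff_eq] at hxg
    have hinv : bitMat x.1 * bitMat x.2.1 = 1 := by
      ext i j
      rw [Matrix.mul_apply, Matrix.one_apply]
      exact sevenGens_inv x hx i j
    have hdet : (bitMat x.1).det = 1 := by
      refine two_units _ (bitMat x.2.1).det ?_
      rw [← Matrix.det_mul, hinv, Matrix.det_one]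
    refine ⟨⟨bitMat x.1, hdet⟩, ?_⟩
    have hr : Repr (ψ ⟨bitMat x.1, hdet⟩) (app g.1) := by
      intro i
      refine (congrArg Fin.val (hψ _ i)).trans ?_
      rw [← hxg]
      exact sevenGens_act x hx i
    exact (repr_toPerm_of_repr hr).symm
  have hle : grp 16 sevenCert ≤ ψ.range := by
    show Subgroup.closure _ ≤ _
    rw [Subgroup.closure_le]
    rintro _ ⟨g, hg, rfl⟩
    exact hmem g hg
  let H := (grp 16 sevenCert).comap ψ
  have hH : Nat.card H = 2520 := by
    have e : H.map ψ = grp 16 sevenCert := by
      rw [Subgroup.map_comap_eq]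
      exact inf_eq_right.mpr hle
    rw [Nat.card_congr (H.equivMapOfInjective ψ hinj).toEquiv, e, card_grp sevenCert_ok, sevenCert_order]
  have hS : Nat.card (Matrix.SpecialLinearGroup (Fin 4) (ZMod 2)) = 20160 := by
    have b := card_SL_mul (F := ZMod 2) (n := 4) (by norm_num)
    rw [ZMod.card] at b
    generalize Nat.card (Matrix.SpecialLinearGroup (Fin 4) (ZMod 2)) = X at b ⊢
    norm_num [Fin.prod_univ_four] at b
    omega
  have hcen : Subgroup.center (Matrix.SpecialLinearGroup (Fin 4) (ZMod 2)) = ⊥ := by
    rw [eq_bot_iff]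
    intro z hz
    obtain ⟨r, hr, hrz⟩ := Matrix.SpecialLinearGroup.mem_center_iff.mp hz
    have hr1 : r = 1 := two_units r (r ^ 3) (by
      rw [← hr, Fintype.card_fin]
      ring)
    exact Subgroup.mem_bot.mpr (Subtype.ext (by rw [← hrz, hr1]; simp))
  have := isSimpleGroup_PSL_fin (F := ZMod 2) (n := 4) (by norm_num) (fun h => absurd h (by norm_num))
  let π := QuotientGroup.mk' (Subgroup.center (Matrix.SpecialLinearGroup (Fin 4) (ZMod 2)))
  have hP : Nat.card (Matrix.ProjectiveSpecialLinearGroup (Fin 4) (ZMod 2)) = 20160 := by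
    rw [← hS]
    refine (Nat.card_eq_of_bijective π ⟨?_, QuotientGroup.mk'_surjective _⟩).symm
    rw [← MonoidHom.ker_eq_bot_iff, QuotientGroup.ker_mk', hcen]
  have hidx : (H.map π).index = 8 := by
    rw [Subgroup.index_map_eq H (QuotientGroup.mk'_surjective _)
      ((QuotientGroup.ker_mk' _).trans_le (hcen.trans_le bot_le))]
    have := H.index_mul_card
    rw [hH, hS] at this
    omega
  obtain ⟨e⟩ := nonempty_mulEquiv_alternating_of_index (G := Matrix.ProjectiveSpecialLinearGroup
    (Fin 4) (ZMod 2)) (H.map π) hidx (by norm_num)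
    (by rw [show Nat.factorial 8 = 40320 from rfl, hP])
  exact ⟨(pslCongrOfCardEq (by rw [hF, ZMod.card])).trans e⟩

end Cfsg.Agent.Lib.Classical
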