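import Mathlib

/-!
Triples of distinct points of the projective line: the linear groups in dimension two.
-/

set_option autoImplicit false

namespace Cfsg.Agent.Lib.Classical

open scoped LinearAlgebra.Projectivization Matrix MatrixGroups

variable {F : Type*} [Field F]

theorem stdVec_ne_zero (i : Fin 3) :
    (![![1, 0], ![0, 1], ![1, 1]] i : Fin 2 → F) ≠ 0 := by
  fin_cases i <;> simp

/-- The points `0`, `∞`, `1` of the projective line. -/
def stdTriple (F : Type*) [Field F] (i : Fin 3) : ℙ F (Fin 2 → F) :=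
  Projectivization.mk F (![![1, 0], ![0, 1], ![1, 1]] i) (stdVec_ne_zero i)

theorem stdTriple_injective : Function.Injective (stdTriple F) := by
  intro i j h
  rw [stdTriple, stdTriple, Projectivization.mk_eq_mk_iff'] at h
  obtain ⟨a, ha⟩ := h
  have h0 := congrFun ha 0
  have h1 := congrFun ha 1
  fin_cases i <;> fin_cases j <;> simp_all

theorem gl_smul_vec (g : GL (Fin 2) F) (v : Fin 2 → F) : g • v = (g : Matrix (Fin 2) (Fin 2) F) *ᵥ v :=
  rfl

/-- Every triple of distinct points is the image of the standard one. -/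
theorem exists_gl_smul_stdTriple (a b c : ℙ F (Fin 2 → F)) (hab : a ≠ b) (hac : a ≠ c) (hbc : b ≠ c) :
    ∃ g : GL (Fin 2) F, g • stdTriple F 0 = a ∧ g • stdTriple F 1 = b ∧ g • stdTriple F 2 = c := by
  induction a using Projectivization.ind with | _ u hu =>
  induction b using Projectivization.ind with | _ v hv =>
  induction c using Projectivization.ind with | _ w hw =>
  have hli : LinearIndependent F ![u, v] := by
    rw [LinearIndependent.pair_iff' hu]
    intro r hr
    exact hab ((Projectivization.mk_eq_mk_iff' ..).mpr ⟨r, hr⟩).symm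
  have hspan := hli.span_eq_top_of_card_eq_finrank (by simp)
  have hmem : w ∈ Submodule.span F (Set.range ![u, v]) := by rw [hspan]; trivial
  obtain ⟨s, hs⟩ := (Submodule.mem_span_range_iff_exists_fun F).mp hmem
  rw [Fin.sum_univ_two] at hs
  simp only [Matrix.cons_val_zero, Matrix.cons_val_one, Matrix.cons_val_fin_one] at hs
  have hs0 : s 0 ≠ 0 := by
    intro h
    rw [h, zero_smul, zero_add] at hs
    exact hbc ((Projectivization.mk_eq_mk_iff' ..).mpr ⟨s 1, hs⟩).symm
  have hs1 : s 1 ≠ 0 := by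
    intro h
    rw [h, zero_smul, add_zero] at hs
    exact hac ((Projectivization.mk_eq_mk_iff' ..).mpr ⟨s 0, hs⟩).symm
  set M : Matrix (Fin 2) (Fin 2) F := Matrix.of fun r i => ![s 0 • u, s 1 • v] i r with hM
  have hcol : LinearIndependent F M.col := by
    have e : M.col = ![s 0 • u, s 1 • v] := by
      funext i r; rfl
    rw [e]
    have h := hli.units_smul ![Units.mk0 _ hs0, Units.mk0 _ hs1]
    convert h using 1
    funext i; fin_cases i <;> rfl
  have hdet : M.det ≠ 0 :=
    ((Matrix.isUnit_iff_isUnit_det M).mp (Matrix.linearIndependent_cols_iff_isUnit.mp hcol)).ne_zero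
  refine ⟨Matrix.GeneralLinearGroup.mkOfDetNeZero M hdet, ?_, ?_, ?_⟩ <;>
    rw [stdTriple, Projectivization.smul_mk, Projectivization.mk_eq_mk_iff', gl_smul_vec]
  · refine ⟨s 0, ?_⟩
    ext r
    simp [hM, Matrix.mulVec, dotProduct]
  · refine ⟨s 1, ?_⟩
    ext r
    simp [hM, Matrix.mulVec, dotProduct]
  · refine ⟨1, ?_⟩
    ext r
    simp [hM, Matrix.mulVec, dotProduct, ← hs]

/-- The fixer of the standard triple consists of scalars. -/
theorem eq_scalar_of_fix_stdTriple (g : GL (Fin 2) F) (h : ∀ i, g • stdTriple F i = stdTriple F i) :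
    (g : Matrix (Fin 2) (Fin 2) F) = (g : Matrix (Fin 2) (Fin 2) F) 0 0 • 1 := by
  have e : ∀ i, ∃ a : F, a • (![![1, 0], ![0, 1], ![1, 1]] i : Fin 2 → F) =
      (g : Matrix (Fin 2) (Fin 2) F) *ᵥ (![![1, 0], ![0, 1], ![1, 1]] i) := fun i => by
    have h' := h i
    rw [stdTriple, Projectivization.smul_mk, Projectivization.mk_eq_mk_iff', gl_smul_vec] at h'
    exact h'
  obtain ⟨a, ha⟩ := e 0
  obtain ⟨b, hb⟩ := e 1
  obtain ⟨c, hc⟩ := e 2
  have a0 := congrFun ha 0
  have a1 := congrFun ha 1
  have b0 := congrFun hb 0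
  have b1 := congrFun hb 1
  have c0 := congrFun hc 0
  have c1 := congrFun hc 1
  simp [Matrix.mulVec, dotProduct] at a0 a1 b0 b1 c0 c1
  ext i j
  fin_cases i <;> fin_cases j <;> simp [← a0, ← a1, ← b0, ← b1] <;>
    linear_combination b1 - a0 + c0 - c1 + a1 - b0

theorem gl_three_pretransitive : MulAction.IsMultiplyPretransitive (GL (Fin 2) F) (ℙ F (Fin 2 → F)) 3 := by
  refine ⟨fun x y => ?_⟩
  have key : ∀ z : Fin 3 ↪ ℙ F (Fin 2 → F), ∃ g : GL (Fin 2) F, ∀ i, g • stdTriple F i = z i := by
    intro z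
    obtain ⟨g, h0, h1, h2⟩ := exists_gl_smul_stdTriple (z 0) (z 1) (z 2)
      (fun h => absurd (z.injective h) (by decide)) (fun h => absurd (z.injective h) (by decide))
      (fun h => absurd (z.injective h) (by decide))
    exact ⟨g, fun i => by fin_cases i <;> assumption⟩
  obtain ⟨g, hg⟩ := key x
  obtain ⟨g', hg'⟩ := key y
  refine ⟨g' * g⁻¹, ?_⟩
  ext i
  show (g' * g⁻¹) • x i = y i
  rw [← hg i, mul_smul, inv_smul_smul, hg' i]

end Cfsg.Agent.Lib.Classical
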