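import Cfsg.Agent.Lib.Classical.SmallIso

/-!
`PSL_2(7) ≅ PSL_3(2)`, via an explicit homomorphism `SL_2(7) →* SL_3(2)` read off from the
decomposition of a matrix into three unipotent factors.
-/

set_option autoImplicit false

namespace Cfsg.Agent.Lib.Classical

open Matrix

/-- A `3 × 3` matrix over `ZMod 2` as a tuple of rows. -/
abbrev Tri := (ZMod 2 × ZMod 2 × ZMod 2) × (ZMod 2 × ZMod 2 × ZMod 2) × (ZMod 2 × ZMod 2 × ZMod 2)

/-- Product of tuples as matrices. -/
def tmul (x y : Tri) : Tri :=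
  let r : ZMod 2 × ZMod 2 × ZMod 2 → ZMod 2 × ZMod 2 × ZMod 2 := fun v =>
    (v.1 * y.1.1 + v.2.1 * y.2.1.1 + v.2.2 * y.2.2.1,
     v.1 * y.1.2.1 + v.2.1 * y.2.1.2.1 + v.2.2 * y.2.2.2.1,
     v.1 * y.1.2.2 + v.2.1 * y.2.1.2.2 + v.2.2 * y.2.2.2.2)
  (r x.1, r x.2.1, r x.2.2)

/-- The tuple as a matrix. -/
def tMat (x : Tri) : Matrix (Fin 3) (Fin 3) (ZMod 2) :=
  !![x.1.1, x.1.2.1, x.1.2.2; x.2.1.1, x.2.1.2.1, x.2.1.2.2; x.2.2.1, x.2.2.2.1, x.2.2.2.2]

/-- Determinant of a tuple. -/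
def tdet (x : Tri) : ZMod 2 :=
  x.1.1 * (x.2.1.2.1 * x.2.2.2.2 - x.2.1.2.2 * x.2.2.2.1) -
    x.1.2.1 * (x.2.1.1 * x.2.2.2.2 - x.2.1.2.2 * x.2.2.1) +
    x.1.2.2 * (x.2.1.1 * x.2.2.2.1 - x.2.1.2.1 * x.2.2.1)

theorem tMat_mul (x y : Tri) : tMat (tmul x y) = tMat x * tMat y := by
  ext i j
  fin_cases i <;> fin_cases j <;> simp [tMat, tmul, Matrix.mul_apply, Fin.sum_univ_three]

theorem det_tMat (x : Tri) : (tMat x).det = tdet x := by
  simp [tMat, tdet, Matrix.det_fin_three]
  ring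

/-- The image of the Weyl element. -/
def sevenX : Tri := ((0,0,1),(1,1,1),(1,0,0))

/-- The image of the upper unipotent elements. -/
def sevenU (k : ZMod 7) : Tri :=
  if k = 0 then ((1,0,0),(0,1,0),(0,0,1)) else
  if k = 1 then ((0,1,1),(1,1,0),(1,0,0)) else
  if k = 2 then ((0,1,0),(1,0,1),(0,1,1)) else
  if k = 3 then ((1,1,0),(1,1,1),(0,1,0)) else
  if k = 4 then ((1,0,1),(0,0,1),(1,1,0)) else
  if k = 5 then ((1,1,1),(1,0,0),(1,0,1)) else
  ((0,0,1),(0,1,1),(1,1,1))

/-- The image of the lower unipotent elements. -/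
def sevenL (k : ZMod 7) : Tri :=
  if k = 0 then ((1,0,0),(0,1,0),(0,0,1)) else
  if k = 1 then ((0,1,0),(1,0,1),(1,0,0)) else
  if k = 2 then ((1,0,1),(1,1,0),(0,1,0)) else
  if k = 3 then ((1,1,0),(1,1,1),(1,0,1)) else
  if k = 4 then ((1,1,1),(0,1,1),(1,1,0)) else
  if k = 5 then ((0,1,1),(0,0,1),(1,1,1)) else
  ((0,0,1),(1,0,0),(0,1,1))

/-- Image of an element with nonzero lower left entry. -/
def sevenBig (x : Quad (ZMod 7)) : Tri :=
  let ci := x.2.2.1 ^ 5
  tmul (sevenU ((x.1 - 1) * ci)) (tmul (sevenL x.2.2.1) (sevenU ((x.2.2.2 - 1) * ci)))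

/-- The homomorphism on tuples. -/
def sevenMap (x : Quad (ZMod 7)) : Tri :=
  if x.2.2.1 = 0 then tmul sevenX (sevenBig (x.2.2.1, x.2.2.2, -x.1, -x.2.1)) else sevenBig x

/-- All checks on one element. -/
def sevenCheck (x : Quad (ZMod 7)) : Bool :=
  decide (tdet (sevenMap x) = 1) &&
    decide (sevenMap (qmul x (0, 6, 1, 0)) = tmul (sevenMap x) sevenX) &&
    decide (sevenMap (qmul x (1, 1, 0, 1)) = tmul (sevenMap x) (sevenU 1)) &&
    (!decide (sevenMap x = ((1,0,0),(0,1,0),(0,0,1))) ||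
      (decide (x.2.1 = 0) && decide (x.2.2.1 = 0) && decide (x.2.2.2 = x.1)))

theorem sevenCheck_all : ∀ a b c d : ZMod 7, qdet (a, b, c, d) = 1 →
    sevenCheck (a, b, c, d) = true := by
  decide +kernel

theorem sevenMap_step : ∀ a b c d : ZMod 7, qdet (a, b, c, d) = 1 →
    tdet (sevenMap (a, b, c, d)) = 1 ∧
    sevenMap (qmul (a, b, c, d) (0, 6, 1, 0)) = tmul (sevenMap (a, b, c, d)) sevenX ∧
    sevenMap (qmul (a, b, c, d) (1, 1, 0, 1)) = tmul (sevenMap (a, b, c, d)) (sevenU 1) ∧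
    (sevenMap (a, b, c, d) = ((1,0,0),(0,1,0),(0,0,1)) → b = 0 ∧ c = 0 ∧ d = a) := by
  intro a b c d h
  have hc := sevenCheck_all a b c d h
  simp only [sevenCheck, Bool.and_eq_true, Bool.or_eq_true, Bool.not_eq_true', decide_eq_true_eq,
    decide_eq_false_iff_not] at hc
  exact ⟨hc.1.1.1, hc.1.1.2, hc.1.2, fun e => by
    rcases hc.2 with h' | h'
    · exact absurd e h'
    · exact ⟨h'.1.1, h'.1.2, h'.2⟩⟩

/-- Generation: every element is a word in the Weyl element and the unipotent one. -/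
theorem seven_gen : ∀ a b c d : ZMod 7, qdet (a, b, c, d) = 1 → c ≠ 0 →
    (a, b, c, d) = qmul (qmul (1, (a - 1) * c ^ 5, 0, 1)
      (qmul (qmul (0, 6, 1, 0) (1, -c, 0, 1)) (qmul (0, 6, 1, 0) (qmul (0, 6, 1, 0) (0, 6, 1, 0)))))
      (1, (d - 1) * c ^ 5, 0, 1) := by
  decide +kernel

theorem seven_scalar : ∀ r : ZMod 7, r ^ 2 = 1 → sevenMap (r, 0, 0, r) = sevenMap (1, 0, 0, 1) := by
  decide +kernel

theorem seven_det_weyl : (0 : ZMod 7) * 0 - 6 * 1 = 1 := by decide +kernel

theorem two_cases : ∀ r : ZMod 2, r = 0 ∨ r = 1 := by decide +kernel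

theorem seven_values : sevenMap (0, 6, 1, 0) = sevenX ∧ sevenMap (1, 1, 0, 1) = sevenU 1 ∧
    sevenMap (1, 0, 0, 1) = ((1,0,0),(0,1,0),(0,0,1)) := by
  decide +kernel

/-- The tuple of an element of `SL_2`. -/
def slQuad (g : SpecialLinearGroup (Fin 2) (ZMod 7)) : Quad (ZMod 7) := (g 0 0, g 0 1, g 1 0, g 1 1)

theorem qdet_slQuad (g : SpecialLinearGroup (Fin 2) (ZMod 7)) : qdet (slQuad g) = 1 := by
  have h := g.2
  rw [Matrix.det_fin_two] at h
  exact h

theorem slQuad_mul (g h : SpecialLinearGroup (Fin 2) (ZMod 7)) :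
    slQuad (g * h) = qmul (slQuad g) (slQuad h) := by
  simp [slQuad, qmul, Matrix.mul_apply, Fin.sum_univ_two]

theorem slQuad_injective : Function.Injective slQuad := by
  intro g h e
  simp only [slQuad, Prod.mk.injEq] at e
  obtain ⟨e1, e2, e3, e4⟩ := e
  ext i j
  fin_cases i <;> fin_cases j <;> assumption

theorem nonempty_PSL2_seven {F K : Type*} [Field F] [Fintype F] [Field K] [Fintype K]
    (hF : Fintype.card F = 7) (hK : Fintype.card K = 2) :
    Nonempty (ProjectiveSpecialLinearGroup (Fin 2) F ≃* ProjectiveSpecialLinearGroup (Fin 3) K) := by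
  haveI : Fact (Nat.Prime 7) := ⟨by norm_num⟩
  haveI : Fact (Nat.Prime 2) := ⟨Nat.prime_two⟩
  let f : (SpecialLinearGroup (Fin 2) (ZMod 7)) → Matrix (Fin 3) (Fin 3) (ZMod 2) := fun g => tMat (sevenMap (slQuad g))
  have hdet : ∀ g, (f g).det = 1 := by
    intro g
    simp only [f]
    rw [det_tMat]
    exact (sevenMap_step _ _ _ _ (qdet_slQuad g)).1
  let w : (SpecialLinearGroup (Fin 2) (ZMod 7)) := ⟨!![0, 6; 1, 0], (Matrix.det_fin_two_of _ _ _ _).trans seven_det_weyl⟩
  let u : ZMod 7 → (SpecialLinearGroup (Fin 2) (ZMod 7)) := fun k => ⟨!![1, k; 0, 1], by rw [Matrix.det_fin_two_of]; simp⟩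
  have hw : slQuad w = (0, 6, 1, 0) := by simp [slQuad, w]
  have hu : ∀ k, slQuad (u k) = (1, k, 0, 1) := fun k => by simp [slQuad, u]
  have h1 : slQuad (1 : (SpecialLinearGroup (Fin 2) (ZMod 7))) = (1, 0, 0, 1) := by simp [slQuad]
  have hf1 : f 1 = 1 := by
    simp only [f]
    rw [h1, seven_values.2.2]
    ext i j
    fin_cases i <;> fin_cases j <;> simp [tMat]
  let M : Submonoid (SpecialLinearGroup (Fin 2) (ZMod 7)) :=
    { carrier := {h | ∀ g, f (g * h) = f g * f h}
      one_mem' := fun g => by rw [mul_one, hf1, mul_one]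
      mul_mem' := by
        intro h h' e e' g
        rw [← mul_assoc, e' (g * h), e g, e' h, mul_assoc] }
  have hwM : w ∈ M := by
    intro g
    simp only [f]
    rw [slQuad_mul, hw, seven_values.1, ← tMat_mul]
    exact congrArg tMat (sevenMap_step _ _ _ _ (qdet_slQuad g)).2.1
  have huM : ∀ k, u k ∈ M := by
    have h1M : u 1 ∈ M := by
      intro g
      simp only [f]
      rw [slQuad_mul, hu, seven_values.2.1, ← tMat_mul]
      exact congrArg tMat (sevenMap_step _ _ _ _ (qdet_slQuad g)).2.2.1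
    intro k
    have hk : ∀ n : ℕ, u (n : ZMod 7) = u 1 ^ n := by
      intro n
      induction n with
      | zero =>
        apply slQuad_injective
        rw [hu, pow_zero, h1, Nat.cast_zero]
      | succ n ih =>
        apply slQuad_injective
        rw [pow_succ, slQuad_mul, ← ih, hu, hu, hu]
        ext <;> simp [qmul, add_comm]
    rw [← ZMod.natCast_zmod_val k, hk]
    exact pow_mem h1M _
  have hbig : ∀ g : (SpecialLinearGroup (Fin 2) (ZMod 7)), g 1 0 ≠ 0 → g ∈ M := by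
    intro g hc
    have : g = u ((g 0 0 - 1) * g 1 0 ^ 5) * (w * u (-g 1 0) * (w * (w * w))) *
        u ((g 1 1 - 1) * g 1 0 ^ 5) := by
      apply slQuad_injective
      simp only [slQuad_mul, hu, hw]
      exact seven_gen _ _ _ _ (qdet_slQuad g) hc
    rw [this]
    exact mul_mem (mul_mem (huM _) (mul_mem (mul_mem hwM (huM _))
      (mul_mem hwM (mul_mem hwM hwM)))) (huM _)
  have hall : ∀ g : (SpecialLinearGroup (Fin 2) (ZMod 7)), g ∈ M := by
    intro g
    by_cases hc : g 1 0 = 0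
    · have hgw : g = w * (w⁻¹ * g) := (mul_inv_cancel_left w g).symm
      rw [hgw]
      refine mul_mem hwM (hbig _ ?_)
      have hd := qdet_slQuad g
      simp only [slQuad, qdet, hc, mul_zero, sub_zero] at hd
      intro h
      have : g 0 0 = 0 := by
        have e : (w * (w⁻¹ * g) : (SpecialLinearGroup (Fin 2) (ZMod 7))) 0 0 = g 0 0 := by rw [← hgw]
        have e' : (w * (w⁻¹ * g) : (SpecialLinearGroup (Fin 2) (ZMod 7))) 0 0 =
            (qmul (slQuad w) (slQuad (w⁻¹ * g))).1 := by rw [← slQuad_mul]; rfl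
        rw [e', hw] at e
        simpa [qmul, slQuad, h] using e.symm
      rw [this, zero_mul] at hd
      exact zero_ne_one hd
    · exact hbig g hc
  let φ : (SpecialLinearGroup (Fin 2) (ZMod 7)) →* SpecialLinearGroup (Fin 3) (ZMod 2) :=
    MonoidHom.mk' (M := (SpecialLinearGroup (Fin 2) (ZMod 7))) (fun g => (⟨f g, hdet g⟩ : SpecialLinearGroup (Fin 3) (ZMod 2)))
      fun g h => Subtype.ext (hall h g)
  have hker : φ.ker ≤ Subgroup.center (SpecialLinearGroup (Fin 2) (ZMod 7)) := by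
    intro g hg
    have hφ : φ g = 1 := MonoidHom.mem_ker.mp hg
    have hg' : f g = 1 := by
      show ((φ g : SpecialLinearGroup (Fin 3) (ZMod 2)) : Matrix (Fin 3) (Fin 3) (ZMod 2)) = 1
      rw [hφ, Matrix.SpecialLinearGroup.coe_one]
    have e : sevenMap (slQuad g) = ((1,0,0),(0,1,0),(0,0,1)) := by
      have := fun i j => congrFun (congrFun hg' i) j
      simp only [f, tMat] at this
      refine Prod.ext (Prod.ext ?_ (Prod.ext ?_ ?_)) (Prod.ext (Prod.ext ?_ (Prod.ext ?_ ?_))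
        (Prod.ext ?_ (Prod.ext ?_ ?_)))
      · simpa using this 0 0
      · simpa using this 0 1
      · simpa using this 0 2
      · simpa using this 1 0
      · simpa using this 1 1
      · simpa using this 1 2
      · simpa using this 2 0
      · simpa using this 2 1
      · simpa using this 2 2
    obtain ⟨hb, hc, hd⟩ := (sevenMap_step _ _ _ _ (qdet_slQuad g)).2.2.2 e
    rw [Matrix.SpecialLinearGroup.mem_center_iff]
    have hd' := qdet_slQuad g
    simp only [slQuad, qdet] at hd'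
    refine ⟨g 0 0, ?_, ?_⟩
    · rw [hb, hc, hd] at hd'
      rw [Fintype.card_fin]
      linear_combination hd'
    · ext i j
      fin_cases i <;> fin_cases j <;> simp [hb, hc, hd]
  let π := QuotientGroup.mk' (Subgroup.center (SpecialLinearGroup (Fin 3) (ZMod 2)))
  have hcen : Subgroup.center (SpecialLinearGroup (Fin 2) (ZMod 7)) ≤ (π.comp φ).ker := by
    intro z hz
    obtain ⟨r, hr, hrz⟩ := Matrix.SpecialLinearGroup.mem_center_iff.mp hz
    rw [Fintype.card_fin] at hr
    have hq : slQuad z = (r, 0, 0, r) := by simp [slQuad, ← hrz]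
    have h0 : φ z = 1 := by
      refine Subtype.ext ?_
      show tMat (sevenMap (slQuad z)) = 1
      rw [hq]
      rw [seven_scalar r hr, ← h1]
      exact hf1
    show π (φ z) = 1
    rw [h0, map_one]
  let ψ : ProjectiveSpecialLinearGroup (Fin 2) (ZMod 7) →*
      ProjectiveSpecialLinearGroup (Fin 3) (ZMod 2) := QuotientGroup.lift _ (π.comp φ) hcen
  have hπ : Function.Injective π := by
    rw [injective_iff_map_eq_one]
    intro z hz
    obtain ⟨r, hr, hrz⟩ :=
      Matrix.SpecialLinearGroup.mem_center_iff.mp ((QuotientGroup.eq_one_iff z).mp hz)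
    have hr1 : r = 1 := by
      rcases two_cases r with rfl | rfl
      · simp at hr
      · rfl
    exact Subtype.ext (by rw [← hrz, hr1]; simp)
  have hψ : Function.Injective ψ := by
    rw [injective_iff_map_eq_one]
    intro x hx
    obtain ⟨g, rfl⟩ := QuotientGroup.mk_surjective x
    rw [QuotientGroup.lift_mk] at hx
    exact (QuotientGroup.eq_one_iff g).mpr (hker (hπ (hx.trans (map_one π).symm)))
  have hcard : Nat.card (ProjectiveSpecialLinearGroup (Fin 2) (ZMod 7)) =
      Nat.card (ProjectiveSpecialLinearGroup (Fin 3) (ZMod 2)) := by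
    have a := card_PSL2_odd (F := ZMod 7) (by rw [ZMod.card]; decide)
    have b := card_PSL_mul (F := ZMod 2) (n := 3) (by norm_num)
    rw [ZMod.card] at a b
    norm_num [Fin.prod_univ_three] at a b
    rw [Nat.card_eq_fintype_card, Nat.card_eq_fintype_card]
    omega
  exact ⟨((pslCongrOfCardEq (by rw [hF, ZMod.card])).trans
    (MulEquiv.ofBijective ψ ((Nat.bijective_iff_injective_and_card ψ).mpr ⟨hψ, hcard⟩))).trans
    (pslCongrOfCardEq (by rw [hK, ZMod.card]))⟩

end Cfsg.Agent.Lib.Classical
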