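import Mathlib
import Cfsg.Agent.Lib.Classical.SLTwo

/-!
Finite subgroups of `SL_2` of order prime to the characteristic: centralisers of non-scalar
elements are cyclic, 2-subgroups are cyclic or generalised quaternion.
-/

set_option autoImplicit false

namespace Cfsg.Agent.Lib.Classical

open scoped Matrix

section Quaternion

variable {G : Type*} [Group G]

/-- The map `a i ↦ c^i`, `xa i ↦ g c^i`. -/
def quatFun (n : ℕ) (c g : G) : QuaternionGroup n → G
  | .a i => c ^ (i.cast : ℤ)
  | .xa i => g * c ^ (i.cast : ℤ)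

theorem zpow_cast_eq {n : ℕ} {c : G} (hc : c ^ n = 1) (a : ℤ) :
    c ^ (((a : ZMod n)).cast : ℤ) = c ^ a := by
  rw [ZMod.coe_intCast]
  exact zpow_eq_zpow_emod a (by rw [zpow_natCast, hc]) |>.symm

theorem zpow_cast_add {n : ℕ} {c : G} (hc : c ^ n = 1) (i j : ZMod n) :
    c ^ (((i + j)).cast : ℤ) = c ^ (i.cast : ℤ) * c ^ (j.cast : ℤ) := by
  rw [← zpow_add, ← zpow_cast_eq hc ((i.cast : ℤ) + (j.cast : ℤ)), Int.cast_add,
    ZMod.intCast_zmod_cast, ZMod.intCast_zmod_cast]

theorem zpow_cast_sub {n : ℕ} {c : G} (hc : c ^ n = 1) (i j : ZMod n) :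
    c ^ (((j - i)).cast : ℤ) = (c ^ (i.cast : ℤ))⁻¹ * c ^ (j.cast : ℤ) := by
  rw [← zpow_neg, ← zpow_add, ← zpow_cast_eq hc (-(i.cast : ℤ) + (j.cast : ℤ)), Int.cast_add,
    Int.cast_neg, ZMod.intCast_zmod_cast, ZMod.intCast_zmod_cast, neg_add_eq_sub]

theorem quatFun_mul {n : ℕ} {c g : G} (hc : c ^ (2 * n) = 1) (hg : g * g = c ^ n)
    (hinv : g * c * g⁻¹ = c⁻¹) (x y : QuaternionGroup n) :
    quatFun n c g (x * y) = quatFun n c g x * quatFun n c g y := by
  have hflip : ∀ k : ℤ, c ^ k * g = g * c ^ (-k) := by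
    intro k
    have h1 : g * c ^ (-k) * g⁻¹ = c ^ k := by
      rw [← conj_zpow, hinv, inv_zpow', neg_neg]
    rw [← h1, inv_mul_cancel_right]
  rcases x with i | i <;> rcases y with j | j
  · show c ^ ((i + j).cast : ℤ) = _
    exact zpow_cast_add hc i j
  · show g * c ^ ((j - i).cast : ℤ) = c ^ (i.cast : ℤ) * (g * c ^ (j.cast : ℤ))
    rw [zpow_cast_sub hc, ← mul_assoc (c ^ (i.cast : ℤ)), hflip, zpow_neg, mul_assoc]
  · show g * c ^ ((i + j).cast : ℤ) = g * c ^ (i.cast : ℤ) * c ^ (j.cast : ℤ)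
    rw [zpow_cast_add hc, mul_assoc]
  · show c ^ (((n : ZMod (2 * n)) + j - i).cast : ℤ) =
      g * c ^ (i.cast : ℤ) * (g * c ^ (j.cast : ℤ))
    rw [zpow_cast_sub hc, zpow_cast_add hc, ← mul_assoc (g * c ^ (i.cast : ℤ)), mul_assoc g, hflip,
      ← mul_assoc g g, hg, mul_assoc (c ^ n), zpow_neg]
    have hn : c ^ (((n : ZMod (2 * n))).cast : ℤ) = c ^ n := by
      rw [← Int.cast_natCast (R := ZMod (2 * n)) n, zpow_cast_eq hc, zpow_natCast]
    rw [hn, ← mul_assoc, ← mul_assoc]
    congr 1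
    exact ((Commute.refl c).zpow_left _).inv_left.pow_right n

/-- The hom out of a quaternion group. -/
def quatHom (n : ℕ) (c g : G) (hc : c ^ (2 * n) = 1) (hg : g * g = c ^ n)
    (hinv : g * c * g⁻¹ = c⁻¹) : QuaternionGroup n →* G :=
  MonoidHom.mk' (quatFun n c g) (quatFun_mul hc hg hinv)

/-- Recognition of generalised quaternion groups. -/
theorem nonempty_mulEquiv_quaternion [Finite G] {n : ℕ} [NeZero n] {c g : G}
    (hord : orderOf c = 2 * n) (hg : g * g = c ^ n) (hinv : g * c * g⁻¹ = c⁻¹)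
    (hgc : g ∉ Subgroup.zpowers c) (hcard : Nat.card G = 4 * n) :
    Nonempty (G ≃* QuaternionGroup n) := by
  have hc : c ^ (2 * n) = 1 := hord ▸ pow_orderOf_eq_one c
  let f := quatHom n c g hc hg hinv
  have hinj : Function.Injective f := by
    rw [injective_iff_map_eq_one]
    rintro (i | i) h
    · have h' : c ^ (i.cast : ℤ) = 1 := h
      rw [← orderOf_dvd_iff_zpow_eq_one, hord] at h'
      rw [← ZMod.intCast_zmod_cast i, (ZMod.intCast_zmod_eq_zero_iff_dvd _ _).mpr h']
      rfl
    · exfalso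
      have h' : g * c ^ (i.cast : ℤ) = 1 := h
      exact hgc ⟨-(i.cast : ℤ), by
        show c ^ (-(i.cast : ℤ)) = g
        rw [eq_inv_of_mul_eq_one_left h', zpow_neg]⟩
  have hb : Function.Bijective f := by
    rw [Nat.bijective_iff_injective_and_card]
    exact ⟨hinj, by rw [Nat.card_eq_fintype_card, QuaternionGroup.card, hcard]⟩
  exact ⟨(MulEquiv.ofBijective f hb).symm⟩

end Quaternion

section Field

variable {F : Type*} [Field F]

/-- Cayley–Hamilton in `SL_2`. -/
theorem sl2_cayley (g : Matrix.SpecialLinearGroup (Fin 2) F) :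
    (g : Matrix (Fin 2) (Fin 2) F) * (g : Matrix (Fin 2) (Fin 2) F) =
      (g : Matrix (Fin 2) (Fin 2) F).trace • (g : Matrix (Fin 2) (Fin 2) F) - 1 := by
  have hd : (g : Matrix (Fin 2) (Fin 2) F).det = 1 := g.2
  rw [Matrix.det_fin_two] at hd
  ext i j
  fin_cases i <;> fin_cases j <;>
    simp [Matrix.mul_apply, Fin.sum_univ_two, Matrix.trace_fin_two] <;>
    first | linear_combination hd | linear_combination -hd | ring

/-- A non-scalar element of `SL_2` has every eigenspace a line. -/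
theorem eigenvector_smul_of_not_scalar {z : Matrix (Fin 2) (Fin 2) F}
    (hz : ∀ r : F, z ≠ Matrix.scalar (Fin 2) r) {l : F} {v u : Fin 2 → F} (hv : v ≠ 0)
    (hvz : z *ᵥ v = l • v) (huz : z *ᵥ u = l • u) : ∃ c : F, u = c • v := by
  by_contra hcon
  push_neg at hcon
  have hli : LinearIndependent F ![v, u] := by
    rw [LinearIndependent.pair_iff' hv]
    exact fun a ha => hcon a ha.symm
  let b := basisOfLinearIndependentOfCardEqFinrank hli (by simp)
  apply hz l
  have hlin : Matrix.toLin' z = l • LinearMap.id := by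
    refine b.ext fun i => ?_
    simp only [b, coe_basisOfLinearIndependentOfCardEqFinrank, Matrix.toLin'_apply,
      LinearMap.smul_apply, LinearMap.id_apply]
    fin_cases i
    · exact hvz
    · exact huz
  have := congrArg LinearMap.toMatrix' hlin
  rw [LinearMap.toMatrix'_toLin'] at this
  rw [this, map_smul, LinearMap.toMatrix'_id]
  exact Matrix.smul_one_eq_diagonal l

/-- `H` has no non-trivial unipotent elements. -/
def NoUnipotent (H : Subgroup (Matrix.SpecialLinearGroup (Fin 2) F)) : Prop :=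
  ∀ g ∈ H, ((g : Matrix (Fin 2) (Fin 2) F) - 1) * ((g : Matrix (Fin 2) (Fin 2) F) - 1) = 0 → g = 1

theorem noUnipotent_of_coprime (p : ℕ) [Fact p.Prime] [CharP F p]
    (H : Subgroup (Matrix.SpecialLinearGroup (Fin 2) F)) [Finite H] (h : ¬ p ∣ Nat.card H) :
    NoUnipotent H := by
  intro g hg hu
  by_contra hne
  apply h
  have hpow : g ^ p = 1 := by
    refine Subtype.ext ?_
    rw [Matrix.SpecialLinearGroup.coe_pow, Matrix.SpecialLinearGroup.coe_one]
    have h0 : ((g : Matrix (Fin 2) (Fin 2) F) - 1) ^ p = 0 := by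
      rw [show p = 2 + (p - 2) by have := (Fact.out : p.Prime).two_le; omega, pow_add, pow_two, hu,
        zero_mul]
    rw [sub_pow_char_of_commute p (Commute.one_right _), one_pow, sub_eq_zero] at h0
    exact h0
  have hord : orderOf g = p := orderOf_eq_prime hpow hne
  rw [← hord, ← Subgroup.orderOf_mk g hg]
  exact orderOf_dvd_natCard _

theorem NoUnipotent.mono {H K : Subgroup (Matrix.SpecialLinearGroup (Fin 2) F)}
    (hK : NoUnipotent K) (h : H ≤ K) : NoUnipotent H := fun g hg => hK g (h hg)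

theorem NoUnipotent.map {K : Type*} [Field K] (f : F →+* K) {H : Subgroup (Matrix.SpecialLinearGroup (Fin 2) F)}
    (hH : NoUnipotent H) : NoUnipotent (H.map (Matrix.SpecialLinearGroup.map f)) := by
  rintro _ ⟨g, hg, rfl⟩ hu
  rw [hH g hg ?_, map_one]
  apply Matrix.map_injective f.injective
  have he : ∀ A : Matrix (Fin 2) (Fin 2) F, A.map f = f.mapMatrix A := fun _ => rfl
  show (((g : Matrix (Fin 2) (Fin 2) F) - 1) * _).map f = (0 : Matrix _ _ F).map f
  rw [he, he, map_mul, map_sub, map_one, map_zero]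
  exact hu

/-- An element of `H` fixing a non-zero vector is trivial. -/
theorem eq_one_of_fix {H : Subgroup (Matrix.SpecialLinearGroup (Fin 2) F)} (hH : NoUnipotent H)
    {g : Matrix.SpecialLinearGroup (Fin 2) F} (hg : g ∈ H) {v : Fin 2 → F} (hv : v ≠ 0)
    (hgv : (g : Matrix (Fin 2) (Fin 2) F) *ᵥ v = v) : g = 1 := by
  have htr : (g : Matrix (Fin 2) (Fin 2) F).trace = 2 := by
    have h2 := congrArg (fun A => A *ᵥ v) (sl2_cayley g)
    simp only [← Matrix.mulVec_mulVec, hgv, Matrix.sub_mulVec, Matrix.smul_mulVec,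
      Matrix.one_mulVec] at h2
    have h3 : (1 : F) • v = ((g : Matrix (Fin 2) (Fin 2) F).trace - 1) • v := by
      rw [one_smul, sub_smul, one_smul]; exact h2
    linear_combination -(smul_left_injective F hv h3)
  refine hH g hg ?_
  rw [sub_mul, mul_sub, sl2_cayley, htr, one_mul, mul_one]
  module

/-- A finite subgroup fixing a line and without unipotents is cyclic. -/
theorem isCyclic_of_fix_line {H : Subgroup (Matrix.SpecialLinearGroup (Fin 2) F)} [Finite H]
    (hH : NoUnipotent H) {v : Fin 2 → F} (hv : v ≠ 0)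
    (hfix : ∀ g ∈ H, ∃ c : F, (g : Matrix (Fin 2) (Fin 2) F) *ᵥ v = c • v) : IsCyclic H := by
  choose χ hχ using hfix
  have huniq : ∀ {a b : F}, a • v = b • v → a = b := fun h => smul_left_injective F hv h
  let ψ : H →* F :=
    { toFun := fun g => χ g.1 g.2
      map_one' := huniq (by rw [← hχ]; simp)
      map_mul' := fun g k => huniq (by
        show χ (g.1 * k.1) _ • v = _
        rw [← hχ, Matrix.SpecialLinearGroup.coe_mul, ← Matrix.mulVec_mulVec, hχ k.1 k.2,
          Matrix.mulVec_smul, hχ g.1 g.2, smul_smul, mul_comm]) }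
  have hinj : Function.Injective ψ.toHomUnits := by
    rw [injective_iff_map_eq_one]
    intro g hg
    have h1 : χ g.1 g.2 = 1 := congrArg Units.val hg
    refine Subtype.ext (eq_one_of_fix hH g.2 hv ?_)
    rw [hχ g.1 g.2, h1, one_smul]
  exact isCyclic_of_injective_ringHom ((Units.coeHom F).comp ψ.toHomUnits)
    (Units.val_injective.comp hinj)

theorem eig_mulVec_of_commute {z g : Matrix (Fin 2) (Fin 2) F} (h : g * z = z * g) {l : F}
    {v : Fin 2 → F} (hvz : z *ᵥ v = l • v) : z *ᵥ (g *ᵥ v) = l • (g *ᵥ v) := by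
  rw [Matrix.mulVec_mulVec, ← h, ← Matrix.mulVec_mulVec, hvz, Matrix.mulVec_smul]

theorem exists_eigenvector [IsAlgClosed F] (z : Matrix.SpecialLinearGroup (Fin 2) F) :
    ∃ (l : F) (v : Fin 2 → F), v ≠ 0 ∧ (z : Matrix (Fin 2) (Fin 2) F) *ᵥ v = l • v := by
  obtain ⟨l, hl⟩ := Module.End.exists_eigenvalue (Matrix.toLin' (z : Matrix (Fin 2) (Fin 2) F))
  obtain ⟨v, hv⟩ := hl.exists_hasEigenvector
  exact ⟨l, v, hv.2, by simpa [Matrix.toLin'_apply] using hv.apply_eq_smul⟩

theorem isCyclic_of_commute_closed [IsAlgClosed F] {H : Subgroup (Matrix.SpecialLinearGroup (Fin 2) F)}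
    [Finite H] (hH : NoUnipotent H) {z : Matrix.SpecialLinearGroup (Fin 2) F}
    (hz : z ∉ Subgroup.center (Matrix.SpecialLinearGroup (Fin 2) F))
    (hcomm : ∀ g ∈ H, g * z = z * g) : IsCyclic H := by
  obtain ⟨l, v, hv, hvz⟩ := exists_eigenvector z
  refine isCyclic_of_fix_line hH hv fun g hg => ?_
  refine eigenvector_smul_of_not_scalar (z := (z : Matrix (Fin 2) (Fin 2) F)) ?_ hv hvz
    (eig_mulVec_of_commute (congrArg Subtype.val (hcomm g hg)) hvz)
  intro r hr
  apply hz
  rw [Matrix.SpecialLinearGroup.mem_center_iff]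
  refine ⟨r, ?_, hr.symm⟩
  have := z.2
  rw [hr] at this
  simpa using this

theorem not_mem_center_map {K : Type*} [Field K] (f : F →+* K)
    {z : Matrix.SpecialLinearGroup (Fin 2) F}
    (hz : z ∉ Subgroup.center (Matrix.SpecialLinearGroup (Fin 2) F)) :
    Matrix.SpecialLinearGroup.map f z ∉ Subgroup.center (Matrix.SpecialLinearGroup (Fin 2) K) := by
  intro h
  apply hz
  rw [Subgroup.mem_center_iff] at h ⊢
  intro g
  have hinj : Function.Injective (Matrix.SpecialLinearGroup.map (n := Fin 2) f) := by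
    intro a b hab
    exact Subtype.ext (Matrix.map_injective f.injective (congrArg Subtype.val hab))
  apply hinj
  rw [map_mul, map_mul]
  exact h _

/-- A finite subgroup without unipotents centralising a non-scalar element is cyclic. -/
theorem isCyclic_of_commute {H : Subgroup (Matrix.SpecialLinearGroup (Fin 2) F)} [Finite H]
    (hH : NoUnipotent H) {z : Matrix.SpecialLinearGroup (Fin 2) F}
    (hz : z ∉ Subgroup.center (Matrix.SpecialLinearGroup (Fin 2) F))
    (hcomm : ∀ g ∈ H, g * z = z * g) : IsCyclic H := by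
  let f := algebraMap F (AlgebraicClosure F)
  let φ := Matrix.SpecialLinearGroup.map (n := Fin 2) f
  have hinj : Function.Injective φ := by
    intro a b hab
    exact Subtype.ext (Matrix.map_injective f.injective (congrArg Subtype.val hab))
  have e := H.equivMapOfInjective φ hinj
  haveI : Finite (H.map φ) := Finite.of_equiv _ e.toEquiv
  haveI : IsCyclic (H.map φ) := isCyclic_of_commute_closed (hH.map f) (not_mem_center_map f hz) (by
    rintro _ ⟨g, hg, rfl⟩
    rw [← map_mul, hcomm g hg, map_mul])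
  exact isCyclic_of_injective e.toMonoidHom e.injective

/-- `SL_2` has at most one involution. -/
theorem sl2_sq_eq_one (h2 : (2 : F) ≠ 0) (g : Matrix.SpecialLinearGroup (Fin 2) F)
    (hg : g * g = 1) : g = 1 ∨ g = -1 := by
  have hc := sl2_cayley g
  rw [← Matrix.SpecialLinearGroup.coe_mul, hg, Matrix.SpecialLinearGroup.coe_one,
    eq_sub_iff_add_eq] at hc
  have ht : (g : Matrix (Fin 2) (Fin 2) F).trace ≠ 0 := by
    intro h
    rw [h, zero_smul] at hc
    have := congrFun (congrFun hc 0) 0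
    simp at this
    exact h2 (by linear_combination this)
  set t := (g : Matrix (Fin 2) (Fin 2) F).trace
  have hgs : (g : Matrix (Fin 2) (Fin 2) F) = (t⁻¹ * 2) • 1 := by
    rw [mul_smul, show ((2 : F) • (1 : Matrix (Fin 2) (Fin 2) F)) = 1 + 1 from two_smul F 1, hc,
      inv_smul_smul₀ ht]
  have hd := g.2
  rw [hgs, Matrix.det_smul, Matrix.det_one, mul_one, Fintype.card_fin] at hd
  rcases sq_eq_one_iff.mp hd with h | h
  · left
    exact Subtype.ext (by rw [hgs, h, one_smul]; rfl)
  · right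
    refine Subtype.ext ?_
    rw [hgs, h, neg_smul, one_smul]
    rfl

theorem neg_one_mem_center :
    (-1 : Matrix.SpecialLinearGroup (Fin 2) F) ∈ Subgroup.center _ := by
  rw [Subgroup.mem_center_iff]
  intro g
  rw [mul_neg, neg_mul, one_mul, mul_one]

theorem mem_center_sl2_iff (h2 : (2 : F) ≠ 0) (g : Matrix.SpecialLinearGroup (Fin 2) F) :
    g ∈ Subgroup.center (Matrix.SpecialLinearGroup (Fin 2) F) ↔ g = 1 ∨ g = -1 := by
  constructor
  · intro hg
    obtain ⟨r, hr, hrg⟩ := Matrix.SpecialLinearGroup.mem_center_iff.mp hg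
    refine sl2_sq_eq_one h2 g (Subtype.ext ?_)
    rw [Matrix.SpecialLinearGroup.coe_mul, ← hrg, ← map_mul, ← pow_two]
    rw [Fintype.card_fin] at hr
    rw [hr, map_one]
    rfl
  · rintro (rfl | rfl)
    · exact one_mem _
    · exact neg_one_mem_center

theorem inv_conj_of_anticommute [IsAlgClosed F] (h2 : (2 : F) ≠ 0)
    {H : Subgroup (Matrix.SpecialLinearGroup (Fin 2) F)} (hH : NoUnipotent H)
    {z c g : Matrix.SpecialLinearGroup (Fin 2) F}
    (hz : z ∉ Subgroup.center (Matrix.SpecialLinearGroup (Fin 2) F))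
    (hc : c ∈ H) (hg : g ∈ H) (hcz : c * z = z * c) (hgz : g * z = -(z * g))
    (hcs : c ∉ Subgroup.center (Matrix.SpecialLinearGroup (Fin 2) F)) :
    g⁻¹ * c * g = c⁻¹ := by
  have hns : ∀ y : Matrix.SpecialLinearGroup (Fin 2) F, y ∉ Subgroup.center _ →
      ∀ r : F, (y : Matrix (Fin 2) (Fin 2) F) ≠ Matrix.scalar (Fin 2) r := by
    intro y hy r hr
    apply hy
    rw [Matrix.SpecialLinearGroup.mem_center_iff]
    refine ⟨r, ?_, hr.symm⟩
    have := y.2
    rw [hr] at this
    simpa using this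
  obtain ⟨l, v, hv, hvz⟩ := exists_eigenvector z
  obtain ⟨μ, hμ⟩ := eigenvector_smul_of_not_scalar (hns z hz) hv hvz
    (eig_mulVec_of_commute (congrArg Subtype.val hcz) hvz)
  set w := (g : Matrix (Fin 2) (Fin 2) F) *ᵥ v with hw
  have hinvw : ((g⁻¹ : Matrix.SpecialLinearGroup (Fin 2) F) : Matrix (Fin 2) (Fin 2) F) *ᵥ w = v := by
    rw [hw, Matrix.mulVec_mulVec, ← Matrix.SpecialLinearGroup.coe_mul, inv_mul_cancel,
      Matrix.SpecialLinearGroup.coe_one, Matrix.one_mulVec]
  have hw0 : w ≠ 0 := by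
    intro h0
    rw [h0, Matrix.mulVec_zero] at hinvw
    exact hv hinvw.symm
  have hl0 : l ≠ 0 := by
    intro h0
    rw [h0, zero_smul] at hvz
    have := congrArg (fun u => ((z⁻¹ : Matrix.SpecialLinearGroup (Fin 2) F) :
      Matrix (Fin 2) (Fin 2) F) *ᵥ u) hvz
    simp only [Matrix.mulVec_mulVec, ← Matrix.SpecialLinearGroup.coe_mul, inv_mul_cancel,
      Matrix.SpecialLinearGroup.coe_one, Matrix.one_mulVec, Matrix.mulVec_zero] at this
    exact hv this
  have hwz : (z : Matrix (Fin 2) (Fin 2) F) *ᵥ w = (-l) • w := by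
    have h := congrArg Subtype.val hgz
    rw [Matrix.SpecialLinearGroup.coe_neg, Matrix.SpecialLinearGroup.coe_mul,
      Matrix.SpecialLinearGroup.coe_mul, eq_comm, neg_eq_iff_eq_neg] at h
    rw [hw, Matrix.mulVec_mulVec, h, Matrix.neg_mulVec, ← Matrix.mulVec_mulVec, hvz,
      Matrix.mulVec_smul, neg_smul]
  obtain ⟨ν, hν⟩ := eigenvector_smul_of_not_scalar (hns z hz) hw0 hwz
    (eig_mulVec_of_commute (congrArg Subtype.val hcz) hwz)
  have root : ∀ (μ : F) (v : Fin 2 → F), v ≠ 0 →
      (c : Matrix (Fin 2) (Fin 2) F) *ᵥ v = μ • v →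
      μ * μ = (c : Matrix (Fin 2) (Fin 2) F).trace * μ - 1 := by
    intro μ v hv hμ
    have h := congrArg (fun A => A *ᵥ v) (sl2_cayley c)
    simp only [← Matrix.mulVec_mulVec, hμ, Matrix.mulVec_smul, Matrix.sub_mulVec,
      Matrix.smul_mulVec, Matrix.one_mulVec, smul_smul] at h
    refine smul_left_injective F hv ?_
    show (μ * μ) • v = (_ * μ - 1) • v
    rw [h, sub_smul, one_smul]
  have r1 := root μ v hv hμ
  have r2 := root ν w hw0 hν
  have hne : μ ≠ ν := by
    intro heq
    obtain ⟨a, ha⟩ := eigenvector_smul_of_not_scalar (hns c hcs) hv hμ (heq ▸ hν)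
    have h' : (z : Matrix (Fin 2) (Fin 2) F) *ᵥ w = l • w := by
      rw [ha, Matrix.mulVec_smul, hvz, smul_comm]
    rw [hwz] at h'
    have := smul_left_injective F hw0 h'
    exact hl0 ((mul_eq_zero.mp (show (2 : F) * l = 0 by linear_combination -this)).resolve_left h2)
  have htr : (c : Matrix (Fin 2) (Fin 2) F).trace = μ + ν := by
    have h : (μ - ν) * (μ + ν - (c : Matrix (Fin 2) (Fin 2) F).trace) = 0 := by
      linear_combination r1 - r2
    linear_combination -((mul_eq_zero.mp h).resolve_left (sub_ne_zero.mpr hne))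
  rw [htr] at r1
  have hprod : ν * μ = 1 := by linear_combination -r1
  rw [eq_inv_iff_mul_eq_one]
  refine eq_one_of_fix hH (mul_mem (mul_mem (mul_mem (inv_mem hg) hc) hg) hc) hv ?_
  simp only [Matrix.SpecialLinearGroup.coe_mul, ← Matrix.mulVec_mulVec]
  rw [hμ, Matrix.mulVec_smul, ← hw, Matrix.mulVec_smul, hν, smul_smul, Matrix.mulVec_smul, hinvw,
    mul_comm, hprod, one_smul]

end Field

end Cfsg.Agent.Lib.Classical
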