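import Mathlib
import Cfsg.Agent.Lib.Classical.SLTwoTorus

/-!
Sylow subgroups of `SL_2` and `PSL_2` away from the characteristic.
-/

set_option autoImplicit false

namespace Cfsg.Agent.Lib.Classical

open scoped Matrix
open Matrix (SpecialLinearGroup ProjectiveSpecialLinearGroup)

variable {F : Type*} [Field F]

theorem inv_conj_of_anticommute' (h2 : (2 : F) ≠ 0)
    {H : Subgroup (Matrix.SpecialLinearGroup (Fin 2) F)} (hH : NoUnipotent H)
    {z c g : Matrix.SpecialLinearGroup (Fin 2) F}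
    (hz : z ∉ Subgroup.center (Matrix.SpecialLinearGroup (Fin 2) F))
    (hc : c ∈ H) (hg : g ∈ H) (hcz : c * z = z * c) (hgz : g * z = -(z * g))
    (hcs : c ∉ Subgroup.center (Matrix.SpecialLinearGroup (Fin 2) F)) :
    g⁻¹ * c * g = c⁻¹ := by
  let f := algebraMap F (AlgebraicClosure F)
  let φ := Matrix.SpecialLinearGroup.map (n := Fin 2) f
  have hinj : Function.Injective φ := by
    intro a b hab
    exact Subtype.ext (Matrix.map_injective f.injective (congrArg Subtype.val hab))
  have hneg : ∀ a, φ (-a) = -φ a := by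
    intro a
    refine Subtype.ext ?_
    show f.mapMatrix (-(a : Matrix (Fin 2) (Fin 2) F)) = -(f.mapMatrix (a : Matrix (Fin 2) (Fin 2) F))
    exact map_neg _ _
  apply hinj
  rw [map_mul, map_mul, map_inv, map_inv]
  refine inv_conj_of_anticommute ?_ (hH.map f) (not_mem_center_map f hz)
    (Subgroup.mem_map_of_mem _ hc) (Subgroup.mem_map_of_mem _ hg) ?_ ?_ (not_mem_center_map f hcs)
  · intro h
    apply h2
    apply f.injective
    rw [map_ofNat, h, map_zero]
  · show φ c * φ z = φ z * φ c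
    rw [← map_mul, hcz, map_mul]
  · show φ g * φ z = -(φ z * φ g)
    rw [← map_mul, hgz, hneg, map_mul]

/-- A finite 2-subgroup of `SL_2` in odd or zero characteristic has no unipotents. -/
theorem noUnipotent_two_group (h2 : (2 : F) ≠ 0) (p : ℕ) [Fact p.Prime] [CharP F p]
    {P : Subgroup (Matrix.SpecialLinearGroup (Fin 2) F)} [Finite P] (hP : IsPGroup 2 P) :
    NoUnipotent P := by
  obtain ⟨n, hn⟩ := IsPGroup.iff_card.mp hP
  refine noUnipotent_of_coprime p P fun hd => h2 ?_
  rw [hn] at hd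
  have : p = 2 := (Nat.prime_dvd_prime_iff_eq Fact.out Nat.prime_two).mp
    ((Fact.out : p.Prime).dvd_of_dvd_pow hd)
  subst this
  exact CharP.cast_eq_zero F 2

/-- Non-abelian finite 2-subgroups of `SL_2` are generalised quaternion. -/
theorem two_group_quaternion (h2 : (2 : F) ≠ 0) (p : ℕ) [Fact p.Prime] [CharP F p]
    {P : Subgroup (Matrix.SpecialLinearGroup (Fin 2) F)} [Finite P] (hP : IsPGroup 2 P)
    (hna : ∃ a ∈ P, ∃ b ∈ P, a * b ≠ b * a) :
    ∃ k : ℕ, 1 ≤ k ∧ Nonempty (P ≃* QuaternionGroup (2 ^ k)) := by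
  have hH := noUnipotent_two_group h2 p hP
  set Z := Subgroup.center (Matrix.SpecialLinearGroup (Fin 2) F) with hZdef
  have hnone : ∀ z ∈ P, z ∉ Z → ∃ g ∈ P, g * z ≠ z * g := by
    intro z hz hzc
    by_contra hcon
    push_neg at hcon
    haveI : IsCyclic P := isCyclic_of_commute hH hzc hcon
    obtain ⟨a, ha, b, hb, hab⟩ := hna
    exact hab (congrArg Subtype.val ((IsCyclic.commutative (α := P)).is_comm.comm (⟨a, ha⟩ : P) ⟨b, hb⟩))
  -- a non-central element that commutes with everything up to sign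
  obtain ⟨z, hzP, hzc, hzsign⟩ : ∃ z ∈ P, z ∉ Z ∧ ∀ g ∈ P, g * z = z * g ∨ g * z = -(z * g) := by
    let N : Subgroup P := Z.subgroupOf P
    haveI : N.Normal := by
      constructor
      intro n hn g
      rw [Subgroup.mem_subgroupOf] at hn ⊢
      rw [Subgroup.coe_mul, Subgroup.coe_mul, Subgroup.mem_center_iff.mp hn, mul_assoc,
        ← Subgroup.coe_mul, mul_inv_cancel, Subgroup.coe_one, mul_one]
      exact hn
    haveI : Nontrivial (P ⧸ N) := by
      rw [QuotientGroup.nontrivial_iff]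
      intro htop
      obtain ⟨a, ha, b, hb, hab⟩ := hna
      apply hab
      have : (⟨a, ha⟩ : P) ∈ N := by rw [htop]; trivial
      rw [Subgroup.mem_subgroupOf] at this
      exact (Subgroup.mem_center_iff.mp this b).symm
    haveI := (hP.to_quotient N).center_nontrivial
    obtain ⟨⟨y, hy⟩, hy1⟩ := exists_ne (1 : Subgroup.center (P ⧸ N))
    obtain ⟨z, rfl⟩ := QuotientGroup.mk_surjective y
    refine ⟨z, z.2, ?_, fun g hg => ?_⟩
    · intro hc
      apply hy1
      exact Subtype.ext ((QuotientGroup.eq_one_iff z).mpr (Subgroup.mem_subgroupOf.mpr hc))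
    · have := Subgroup.mem_center_iff.mp hy ((⟨g, hg⟩ : P) : P ⧸ N)
      rw [← QuotientGroup.mk_mul, ← QuotientGroup.mk_mul, QuotientGroup.eq, Subgroup.mem_subgroupOf,
        hZdef, mem_center_sl2_iff h2] at this
      simp only [Subgroup.coe_mul, Subgroup.coe_inv] at this
      rcases this with h | h
      · left
        exact inv_mul_eq_one.mp h
      · right
        rw [inv_mul_eq_iff_eq_mul] at h
        rw [h, mul_neg, mul_one, neg_neg]
  -- the centraliser of z
  let C : Subgroup P := (Subgroup.centralizer {z}).subgroupOf P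
  have memC : ∀ g : P, g ∈ C ↔ (g : Matrix.SpecialLinearGroup (Fin 2) F) * z = z * g := by
    intro g
    rw [Subgroup.mem_subgroupOf, Subgroup.mem_centralizer_singleton_iff]
  obtain ⟨g₀, hg₀P, hg₀⟩ := hnone z hzP hzc
  have hg₀' : g₀ * z = -(z * g₀) := (hzsign g₀ hg₀P).resolve_left hg₀
  have hidx : C.index = 2 := by
    rw [Subgroup.index_eq_two_iff]
    refine ⟨⟨g₀, hg₀P⟩, fun b => ?_⟩
    have e : ((b * ⟨g₀, hg₀P⟩ : P) : Matrix.SpecialLinearGroup (Fin 2) F) = b * g₀ := rfl
    rw [memC, memC, e]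
    have hne : -((z : Matrix.SpecialLinearGroup (Fin 2) F) * b) ≠ z * b := by
      intro hh
      have h' := congrArg (fun u : Matrix.SpecialLinearGroup (Fin 2) F => z⁻¹ * u) hh
      simp only [mul_neg, inv_mul_cancel_left] at h'
      have h'' := congrArg (fun u : Matrix.SpecialLinearGroup (Fin 2) F =>
        ((u * (b : Matrix.SpecialLinearGroup (Fin 2) F)⁻¹ :
          Matrix.SpecialLinearGroup (Fin 2) F) : Matrix (Fin 2) (Fin 2) F) 0 0) h'
      simp only [neg_mul, mul_inv_cancel] at h''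
      simp at h''
      exact h2 (by linear_combination -h'')
    rcases hzsign b b.2 with hb | hb
    · refine Or.inr ⟨hb, ?_⟩
      intro hbg
      apply hg₀
      rw [mul_assoc, ← mul_assoc z, ← hb, mul_assoc] at hbg
      exact mul_left_cancel hbg
    · refine Or.inl ⟨?_, ?_⟩
      · rw [mul_assoc, hg₀', mul_neg, ← mul_assoc, hb, neg_mul, neg_neg, mul_assoc]
      · rw [hb]
        exact hne
  haveI : IsCyclic C := by
    let C' : Subgroup (Matrix.SpecialLinearGroup (Fin 2) F) := C.map P.subtype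
    haveI : Finite C' := Finite.of_equiv C (C.equivMapOfInjective _ P.subtype_injective).toEquiv
    haveI : IsCyclic C' := isCyclic_of_commute (hH.mono (by
        rintro _ ⟨x, -, rfl⟩; exact x.2)) hzc (by
      rintro _ ⟨x, hx, rfl⟩
      exact (memC x).mp hx)
    exact isCyclic_of_injective (C.equivMapOfInjective _ P.subtype_injective).toMonoidHom
      (C.equivMapOfInjective _ P.subtype_injective).injective
  obtain ⟨⟨c, hcC⟩, hgen⟩ := IsCyclic.exists_generator (α := C)
  have hCc : C = Subgroup.zpowers c := by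
    refine le_antisymm (fun x hx => ?_) (Subgroup.zpowers_le.mpr hcC)
    obtain ⟨k, hk⟩ := Subgroup.mem_zpowers_iff.mp (hgen ⟨x, hx⟩)
    exact ⟨k, by simpa using congrArg Subtype.val hk⟩
  have hcardC : orderOf c = Nat.card C := by rw [hCc, Nat.card_zpowers]
  have hzC : (⟨z, hzP⟩ : P) ∈ C := (memC _).mpr rfl
  have hcs : (c : Matrix.SpecialLinearGroup (Fin 2) F) ∉ Z := by
    intro hc
    rw [hCc, Subgroup.mem_zpowers_iff] at hzC
    obtain ⟨k, hk⟩ := hzC
    apply hzc
    have := congrArg Subtype.val hk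
    rw [Subgroup.coe_zpow] at this
    simp only at this
    rw [← this]
    exact zpow_mem hc k
  have hg₀C : (⟨g₀, hg₀P⟩ : P) ∉ C := fun h => hg₀ ((memC _).mp h)
  set g : P := ⟨g₀, hg₀P⟩ with hgdef
  -- g inverts c
  have hinv : g⁻¹ * c * g = c⁻¹ :=
    Subtype.ext (inv_conj_of_anticommute' h2 hH hzc c.2 hg₀P ((memC c).mp hcC) hg₀' hcs)
  have hinv' : g * c * g⁻¹ = c⁻¹ := by
    have h1 : g⁻¹ * c⁻¹ * g = c := by
      calc g⁻¹ * c⁻¹ * g = (g⁻¹ * c * g)⁻¹ := by group
        _ = c := by rw [hinv, inv_inv]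
    calc g * c * g⁻¹ = g * (g⁻¹ * c⁻¹ * g) * g⁻¹ := by rw [h1]
      _ = c⁻¹ := by group
  -- g^2 = -1
  have hgg : g * g ∈ C := Subgroup.mul_self_mem_of_index_two hidx g
  have hg4 : (g * g) * (g * g) = 1 := by
    rw [hCc] at hgg
    obtain ⟨k, hk⟩ := Subgroup.mem_zpowers_iff.mp hgg
    have h1 : g * (g * g) * g⁻¹ = g * g := by group
    rw [← hk, ← conj_zpow, hinv', inv_zpow] at h1
    rw [← hk, ← inv_eq_iff_mul_eq_one, h1]
  have hgg1 : ((g * g : P) : Matrix.SpecialLinearGroup (Fin 2) F) = -1 := by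
    have h := congrArg Subtype.val hg4
    rcases sl2_sq_eq_one h2 _ h with h1 | h1
    · exfalso
      rcases sl2_sq_eq_one h2 g₀ h1 with h3 | h3 <;> apply hg₀ <;> rw [h3]
      · rw [one_mul, mul_one]
      · rw [neg_mul, one_mul, mul_neg, mul_one]
    · exact h1
  -- the order of c
  obtain ⟨a, ha⟩ := IsPGroup.iff_card.mp (hP.to_subgroup C)
  rw [← hcardC] at ha
  have ha2 : 2 ≤ a := by
    rcases Nat.lt_or_ge a 2 with h | h
    · exfalso
      apply hcs
      rw [hZdef, mem_center_sl2_iff h2]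
      refine sl2_sq_eq_one h2 _ ?_
      rw [← Subgroup.coe_mul, ← pow_two, orderOf_dvd_iff_pow_eq_one.mp (ha ▸ (by
        interval_cases a <;> norm_num : 2 ^ a ∣ 2)), Subgroup.coe_one]
    · exact h
  obtain ⟨k, rfl⟩ : ∃ k, a = k + 1 := ⟨a - 1, by omega⟩
  refine ⟨k, by omega, ?_⟩
  have hcn : g * g = c ^ (2 ^ k) := by
    refine Subtype.ext ?_
    rw [hgg1, Subgroup.coe_pow]
    have hsq : ((c : Matrix.SpecialLinearGroup (Fin 2) F) ^ 2 ^ k) *
        (c : Matrix.SpecialLinearGroup (Fin 2) F) ^ 2 ^ k = 1 := by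
      rw [← pow_add, ← two_mul, ← pow_succ', ← ha, ← Subgroup.coe_pow, pow_orderOf_eq_one,
        Subgroup.coe_one]
    rcases sl2_sq_eq_one h2 _ hsq with h | h
    · exfalso
      have hdvd : orderOf c ∣ 2 ^ k := orderOf_dvd_of_pow_eq_one (Subtype.ext (by
        rw [Subgroup.coe_pow, h, Subgroup.coe_one]))
      rw [ha, Nat.pow_dvd_pow_iff_le_right (by norm_num)] at hdvd
      omega
    · exact h.symm
  refine nonempty_mulEquiv_quaternion (c := c) (g := g) ?_ hcn hinv' (hCc ▸ hg₀C) ?_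
  · rw [ha, pow_succ']
  · rw [← C.card_mul_index, hidx, ← hcardC, ha]
    ring

section Finite

variable [Fintype F]

theorem exists_charP : ∃ p : ℕ, Fact p.Prime ∧ CharP F p :=
  ⟨ringChar F, ⟨CharP.char_is_prime F _⟩, ringChar.charP F⟩

theorem two_ne_zero_of_odd (h : Odd (Fintype.card F)) : (2 : F) ≠ 0 := by
  intro h0
  have hc2 : CharP F 2 := CharTwo.of_one_ne_zero_of_two_eq_zero one_ne_zero h0
  have : Fintype.card F % 2 = 0 := FiniteField.even_card_iff_char_two.mp (ringChar.eq F 2)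
  exact absurd (Nat.odd_iff.mp h) (by omega)

/-- `SL_2` over a finite field of odd order has non-abelian Sylow 2-subgroups. -/
theorem exists_two_sylow_nonabelian (h2 : (2 : F) ≠ 0)
    (P : Sylow 2 (Matrix.SpecialLinearGroup (Fin 2) F)) :
    ∃ a ∈ (P : Subgroup (Matrix.SpecialLinearGroup (Fin 2) F)),
      ∃ b ∈ (P : Subgroup (Matrix.SpecialLinearGroup (Fin 2) F)), a * b ≠ b * a := by
  obtain ⟨p, hp, hpc⟩ := exists_charP (F := F)
  haveI : NeZero p := ⟨hp.out.ne_zero⟩
  obtain ⟨a, b, hab⟩ := CharP.sq_add_sq F p (-1)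
  push_cast at hab
  let i : Matrix.SpecialLinearGroup (Fin 2) F := ⟨!![0, -1; 1, 0], by simp [Matrix.det_fin_two_of]⟩
  let j : Matrix.SpecialLinearGroup (Fin 2) F := ⟨!![(a : F), b; b, -a], by
    rw [Matrix.det_fin_two_of]; linear_combination -hab⟩
  have hi2 : i * i = -1 := by
    refine Subtype.ext ?_
    rw [Matrix.SpecialLinearGroup.coe_mul, Matrix.SpecialLinearGroup.coe_neg,
      Matrix.SpecialLinearGroup.coe_one]
    ext k l
    fin_cases k <;> fin_cases l <;> simp [i, Matrix.mul_apply, Fin.sum_univ_two]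
  have hj2 : j * j = -1 := by
    refine Subtype.ext ?_
    rw [Matrix.SpecialLinearGroup.coe_mul, Matrix.SpecialLinearGroup.coe_neg,
      Matrix.SpecialLinearGroup.coe_one]
    ext k l
    fin_cases k <;> fin_cases l <;> simp [j, Matrix.mul_apply, Fin.sum_univ_two] <;>
      first | linear_combination hab | ring
  have hji : j * i = -(i * j) := by
    refine Subtype.ext ?_
    rw [Matrix.SpecialLinearGroup.coe_mul, Matrix.SpecialLinearGroup.coe_neg,
      Matrix.SpecialLinearGroup.coe_mul]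
    ext k l
    fin_cases k <;> fin_cases l <;> simp [i, j, Matrix.mul_apply, Fin.sum_univ_two]
  have hi4 : i ^ (2 * 2) = 1 := by
    rw [pow_mul, pow_two i, hi2, neg_one_sq]
  have hinv : j * i * j⁻¹ = i⁻¹ := by
    rw [hji, neg_mul, mul_assoc, mul_inv_cancel, mul_one]
    refine eq_inv_of_mul_eq_one_left ?_
    rw [neg_mul, hi2, neg_neg]
  let f := quatHom 2 i j hi4 (by rw [pow_two, hi2, hj2]) hinv
  have hQ : IsPGroup 2 f.range :=
    (IsPGroup.of_card (n := 3) (p := 2) (by rw [Nat.card_eq_fintype_card, QuaternionGroup.card]; rfl)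
      ).of_surjective f.rangeRestrict f.rangeRestrict_surjective
  obtain ⟨Q, hQle⟩ := hQ.exists_le_sylow
  obtain ⟨g, hg⟩ := MulAction.exists_smul_eq (Matrix.SpecialLinearGroup (Fin 2) F) Q P
  have hmem : ∀ x ∈ f.range,
      g * x * g⁻¹ ∈ (P : Subgroup (Matrix.SpecialLinearGroup (Fin 2) F)) := by
    intro x hx
    rw [← hg]
    exact ⟨x, hQle hx, rfl⟩
  have hi : i ∈ f.range := ⟨QuaternionGroup.a 1, by
    show i ^ ((1 : ZMod 4).cast : ℤ) = i
    rw [show ((1 : ZMod 4).cast : ℤ) = 1 from rfl, zpow_one]⟩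
  have hj : j ∈ f.range := ⟨QuaternionGroup.xa 0, by
    show j * i ^ ((0 : ZMod 4).cast : ℤ) = j
    rw [show ((0 : ZMod 4).cast : ℤ) = 0 from rfl, zpow_zero, mul_one]⟩
  refine ⟨_, hmem i hi, _, hmem j hj, fun hc => ?_⟩
  have h' : i * j = j * i := by
    have e1 : g * i * g⁻¹ * (g * j * g⁻¹) = g * (i * j) * g⁻¹ := by group
    have e2 : g * j * g⁻¹ * (g * i * g⁻¹) = g * (j * i) * g⁻¹ := by group
    rw [e1, e2] at hc
    exact mul_left_cancel (mul_right_cancel hc)
  rw [hji] at h'
  have h00 := congrArg (fun u : Matrix.SpecialLinearGroup (Fin 2) F =>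
    (u : Matrix (Fin 2) (Fin 2) F)) h'
  simp only [Matrix.SpecialLinearGroup.coe_neg, Matrix.SpecialLinearGroup.coe_mul] at h00
  have e00 := congrFun (congrFun h00 0) 0
  have e01 := congrFun (congrFun h00 0) 1
  simp [i, j, Matrix.mul_apply, Fin.sum_univ_two] at e00 e01
  have hb0 : (b : F) = 0 := by
    refine (mul_eq_zero.mp (show (2 : F) * b = 0 from ?_)).resolve_left h2
    first | linear_combination e00 | linear_combination -e00
  have ha0 : (a : F) = 0 := by
    refine (mul_eq_zero.mp (show (2 : F) * a = 0 from ?_)).resolve_left h2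
    first | linear_combination e01 | linear_combination -e01
  rw [ha0, hb0] at hab
  simp at hab

/-- The Sylow 2-subgroups of `SL_2` in odd characteristic are generalised quaternion. -/
theorem sylow_two_SL2_quaternion (h2 : (2 : F) ≠ 0)
    (P : Sylow 2 (Matrix.SpecialLinearGroup (Fin 2) F)) :
    ∃ k : ℕ, 1 ≤ k ∧
      Nonempty ((P : Subgroup (Matrix.SpecialLinearGroup (Fin 2) F)) ≃* QuaternionGroup (2 ^ k)) := by
  obtain ⟨p, hp, hpc⟩ := exists_charP (F := F)
  exact two_group_quaternion h2 p P.isPGroup' (exists_two_sylow_nonabelian h2 P)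

/-- The Sylow `r`-subgroups of `SL_2` for odd `r` other than the characteristic are cyclic. -/
theorem sylow_odd_SL2_cyclic (p : ℕ) [Fact p.Prime] [CharP F p] (r : ℕ) [Fact r.Prime]
    (hr : r ≠ 2) (hrp : r ≠ p) (R : Sylow r (Matrix.SpecialLinearGroup (Fin 2) F)) :
    IsCyclic (R : Subgroup (Matrix.SpecialLinearGroup (Fin 2) F)) := by
  set H := (R : Subgroup (Matrix.SpecialLinearGroup (Fin 2) F))
  obtain ⟨n, hn⟩ := IsPGroup.iff_card.mp R.isPGroup'
  have hH : NoUnipotent H := by
    refine noUnipotent_of_coprime p H fun hd => hrp ?_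
    rw [hn] at hd
    exact ((Nat.prime_dvd_prime_iff_eq Fact.out Fact.out).mp
      ((Fact.out : p.Prime).dvd_of_dvd_pow hd)).symm
  rcases subsingleton_or_nontrivial H with h | h
  · infer_instance
  haveI := R.isPGroup'.center_nontrivial
  obtain ⟨⟨z, hz⟩, hz1⟩ := exists_ne (1 : Subgroup.center H)
  refine isCyclic_of_commute hH (z := z.1) (fun hc => hz1 ?_) (fun g hg =>
    congrArg Subtype.val (Subgroup.mem_center_iff.mp hz ⟨g, hg⟩))
  have hord : r ∣ orderOf z.1 := by
    rw [Subgroup.orderOf_coe]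
    exact R.isPGroup'.dvd_orderOf (fun h => hz1 (Subtype.ext h))
  obtain ⟨l, hl, hlz⟩ := Matrix.SpecialLinearGroup.mem_center_iff.mp hc
  have hzz : z.1 * z.1 = 1 := by
    refine Subtype.ext ?_
    rw [Fintype.card_fin] at hl
    rw [Matrix.SpecialLinearGroup.coe_mul, ← hlz, ← map_mul, ← pow_two, hl, map_one]
    rfl
  exact absurd ((Nat.prime_dvd_prime_iff_eq Fact.out Nat.prime_two).mp
    (hord.trans (orderOf_dvd_of_pow_eq_one (by rw [pow_two, hzz])))) hr

end Finite

end Cfsg.Agent.Lib.Classical
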