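import Mathlib
import Cfsg.Agent.Lib.Classical.SLTwoSylow

/-!
`SL_2(3)` and the Sylow 2-subgroups of `PSL_2(q)` for `q ≡ 3, 5 mod 8`.
-/

set_option autoImplicit false

namespace Cfsg.Agent.Lib.Classical

variable {F : Type*} [Field F] [Fintype F]

theorem card_center_SL2_odd (h : Odd (Fintype.card F)) :
    Nat.card (Subgroup.center (Matrix.SpecialLinearGroup (Fin 2) F)) = 2 := by
  rw [card_center_SL, Fintype.card_fin]
  obtain ⟨j, hj⟩ := h
  rw [hj, Nat.add_sub_cancel]
  exact Nat.gcd_eq_left (dvd_mul_right 2 j)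

theorem SL2_three (hF : Fintype.card F = 3) :
    ∃ Q : Subgroup (Matrix.SpecialLinearGroup (Fin 2) F),
      Q.Normal ∧ Q.index = 3 ∧ Nonempty (Q ≃* QuaternionGroup 2) := by
  obtain ⟨e⟩ := nonempty_PSL2_small (F := F) (n := 4) (by rw [hF]) (by rw [hF]; decide)
  have h4 : Nat.card (Fin 4) = 4 := Nat.card_fin 4
  let V := alternatingGroup.kleinFour (Fin 4)
  haveI : V.Normal := alternatingGroup.normal_kleinFour h4
  let π := (e.toMonoidHom).comp
    (QuotientGroup.mk' (Subgroup.center (Matrix.SpecialLinearGroup (Fin 2) F)))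
  have hπ : Function.Surjective π := e.surjective.comp (QuotientGroup.mk'_surjective _)
  let Q := V.comap π
  have hidx : Q.index = 3 := by
    rw [Subgroup.index_comap_of_surjective _ hπ]
    have h := V.card_mul_index
    rw [alternatingGroup.kleinFour_card_of_card_eq_four h4, nat_card_alternatingGroup, h4] at h
    have h12 : (Nat.factorial 4) / 2 = 12 := rfl
    omega
  haveI : Fact (Nat.Prime 2) := ⟨Nat.prime_two⟩
  have hcard : Nat.card Q = 8 := by
    have h := Q.card_mul_index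
    rw [hidx, card_SL2, hF] at h
    omega
  refine ⟨Q, Subgroup.Normal.comap inferInstance _, hidx, ?_⟩
  let P : Sylow 2 (Matrix.SpecialLinearGroup (Fin 2) F) := Sylow.ofCard Q (by
    obtain ⟨P⟩ : Nonempty (Sylow 2 (Matrix.SpecialLinearGroup (Fin 2) F)) := inferInstance
    rw [← P.card_eq_multiplicity, hcard,
      sylow_card_of_card_eq (p := 2) (k := 3) (m := 3) (by rw [card_SL2, hF]; rfl) (by decide) P]
    rfl)
  obtain ⟨k, hk, ⟨f⟩⟩ := sylow_two_SL2_quaternion (two_ne_zero_of_odd (by rw [hF]; decide)) P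
  have hc := Nat.card_congr f.toEquiv
  rw [Sylow.coe_ofCard, hcard, Nat.card_eq_fintype_card, QuaternionGroup.card] at hc
  have hk1 : k = 1 := by
    have : 2 ^ k = 2 ^ 1 := by omega
    exact Nat.pow_right_injective le_rfl this
  subst hk1
  exact ⟨f⟩

theorem sylow_two_PSL2_klein (hq : Fintype.card F % 8 = 3 ∨ Fintype.card F % 8 = 5)
    (P : Sylow 2 (Matrix.ProjectiveSpecialLinearGroup (Fin 2) F)) :
    IsKleinFour (P : Subgroup (Matrix.ProjectiveSpecialLinearGroup (Fin 2) F)) := by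
  haveI : Fact (Nat.Prime 2) := ⟨Nat.prime_two⟩
  set q := Fintype.card F with hqdef
  have hodd : Odd q := Nat.odd_iff.mpr (by omega)
  have h2 : (2 : F) ≠ 0 := two_ne_zero_of_odd hodd
  have hm : ∃ m, q * (q ^ 2 - 1) = 2 ^ 3 * m ∧ ¬ 2 ∣ m := by
    rcases hq with h | h
    · refine ⟨q * (8 * (q / 8) * (q / 8) + 6 * (q / 8) + 1), ?_, ?_⟩
      · have e : q = 8 * (q / 8) + 3 := by omega
        generalize q / 8 = j at e
        rw [e]
        have : (8 * j + 3) ^ 2 - 1 = 8 * (8 * j * j + 6 * j + 1) := by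
          rw [show (8 * j + 3) ^ 2 = 8 * (8 * j * j + 6 * j + 1) + 1 by ring, Nat.add_sub_cancel]
        rw [this]; ring
      · rw [← even_iff_two_dvd, Nat.not_even_iff_odd, Nat.odd_mul]
        exact ⟨hodd, ⟨4 * (q / 8) * (q / 8) + 3 * (q / 8), by ring⟩⟩
    · refine ⟨q * (8 * (q / 8) * (q / 8) + 10 * (q / 8) + 3), ?_, ?_⟩
      · have e : q = 8 * (q / 8) + 5 := by omega
        generalize q / 8 = j at e
        rw [e]
        have : (8 * j + 5) ^ 2 - 1 = 8 * (8 * j * j + 10 * j + 3) := by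
          rw [show (8 * j + 5) ^ 2 = 8 * (8 * j * j + 10 * j + 3) + 1 by ring, Nat.add_sub_cancel]
        rw [this]; ring
      · rw [← even_iff_two_dvd, Nat.not_even_iff_odd, Nat.odd_mul]
        exact ⟨hodd, ⟨4 * (q / 8) * (q / 8) + 5 * (q / 8) + 1, by ring⟩⟩
  obtain ⟨m, hm, hm2⟩ := hm
  let π := QuotientGroup.mk' (Subgroup.center (Matrix.SpecialLinearGroup (Fin 2) F))
  have hπ : Function.Surjective π := QuotientGroup.mk'_surjective _
  have hcardP : Nat.card P = 4 := by
    have hc : Nat.card (Matrix.ProjectiveSpecialLinearGroup (Fin 2) F) = 2 ^ 2 * m := by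
      have h := card_center_mul_card_PSL (F := F) (n := Fin 2)
      rw [card_center_SL2_odd hodd, card_SL2, ← hqdef, hm] at h
      omega
    exact sylow_card_of_card_eq hc hm2 P
  obtain ⟨S, hS⟩ : ∃ S : Sylow 2 (Matrix.SpecialLinearGroup (Fin 2) F),
      S.mapSurjective hπ = P := Sylow.mapSurjective_surjective hπ 2 P
  obtain ⟨k, hk, ⟨f⟩⟩ := sylow_two_SL2_quaternion h2 S
  have hk1 : k = 1 := by
    have hc := Nat.card_congr f.toEquiv
    rw [sylow_card_of_card_eq (p := 2) (k := 3) (m := m) (by rw [card_SL2, ← hqdef, hm]) hm2 S,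
      Nat.card_eq_fintype_card, QuaternionGroup.card] at hc
    have : 2 ^ k = 2 ^ 1 := by omega
    exact Nat.pow_right_injective le_rfl this
  subst hk1
  refine ⟨hcardP, ?_⟩
  have hq4 : ∀ u : QuaternionGroup (2 ^ 1), u ^ 4 = 1 := by decide +kernel
  have hsq : ∀ x : (P : Subgroup (Matrix.ProjectiveSpecialLinearGroup (Fin 2) F)), x ^ 2 = 1 := by
    rintro ⟨x, hx⟩
    rw [← hS] at hx
    obtain ⟨y, hy, rfl⟩ := hx
    refine Subtype.ext ?_
    rw [Subgroup.coe_pow, Subgroup.coe_one, ← map_pow]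
    refine (QuotientGroup.eq_one_iff _).mpr ((mem_center_sl2_iff h2 _).mpr
      (sl2_sq_eq_one h2 _ ?_))
    have h := congrArg f.symm (hq4 (f ⟨y, hy⟩))
    rw [map_pow, f.symm_apply_apply, map_one] at h
    have h' := congrArg Subtype.val h
    rw [Subgroup.coe_pow, Subgroup.coe_one] at h'
    rw [← pow_add, h']
  refine Nat.dvd_antisymm (Monoid.exponent_dvd_of_forall_pow_eq_one hsq) ?_
  haveI : Nontrivial (P : Subgroup (Matrix.ProjectiveSpecialLinearGroup (Fin 2) F)) :=
    Finite.one_lt_card_iff_nontrivial.mp (by rw [hcardP]; norm_num)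
  obtain ⟨x, hx⟩ := exists_ne (1 : (P : Subgroup (Matrix.ProjectiveSpecialLinearGroup (Fin 2) F)))
  exact (orderOf_eq_prime (hsq x) hx).symm.dvd.trans (Monoid.order_dvd_exponent x)

end Cfsg.Agent.Lib.Classical
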