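import Mathlib
import Cfsg.Agent.Lib.Classical.SLTwo
import Cfsg.Agent.Lib.Classical.GenList

/-!
`PSL_2(5) ≅ A_5`, `PSL_2(9) ≅ A_6`.
-/

set_option autoImplicit false

namespace Cfsg.Agent.Lib.Classical

open Matrix

/-- A `2 × 2` matrix as a tuple. -/
abbrev Quad (K : Type*) := K × K × K × K

/-- Product of tuples as matrices. -/
def qmul {K : Type*} [Add K] [Mul K] (x y : Quad K) : Quad K :=
  (x.1 * y.1 + x.2.1 * y.2.2.1, x.1 * y.2.1 + x.2.1 * y.2.2.2,
    x.2.2.1 * y.1 + x.2.2.2 * y.2.2.1, x.2.2.1 * y.2.1 + x.2.2.2 * y.2.2.2)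

/-- Determinant of a tuple. -/
def qdet {K : Type*} [CommRing K] (x : Quad K) : K := x.1 * x.2.2.2 - x.2.1 * x.2.2.1

variable {K F : Type*} [CommRing K] [Field F]

/-- A matrix of determinant one as an element of `SL_2`. -/
def mkSL2 (A : Matrix (Fin 2) (Fin 2) F) (h : A.det = 1) : Matrix.SpecialLinearGroup (Fin 2) F :=
  ⟨A, h⟩

/-- A tuple as an element of `SL_2`. -/
noncomputable def qToSL (f : K →+* F) (x : Quad K) : SpecialLinearGroup (Fin 2) F :=
  haveI := Classical.dec (qdet x = 1)
  if h : qdet x = 1 then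
    mkSL2 !![f x.1, f x.2.1; f x.2.2.1, f x.2.2.2] (by
      rw [Matrix.det_fin_two_of, ← map_mul, ← map_mul, ← map_sub]
      change f (qdet x) = 1
      rw [h, map_one])
  else 1

theorem qToSL_coe (f : K →+* F) {x : Quad K} (h : qdet x = 1) :
    (qToSL f x : Matrix (Fin 2) (Fin 2) F) = !![f x.1, f x.2.1; f x.2.2.1, f x.2.2.2] := by
  rw [qToSL, dif_pos h]
  rfl

theorem qToSL_mul (f : K →+* F) {x y : Quad K} (hx : qdet x = 1) (hy : qdet y = 1) :
    qToSL f (qmul x y) = qToSL f x * qToSL f y := by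
  have h : qdet (qmul x y) = 1 := by
    calc qdet (qmul x y) = qdet x * qdet y := by simp only [qdet, qmul]; ring
      _ = 1 := by rw [hx, hy, one_mul]
  refine Subtype.ext ?_
  rw [qToSL_coe f h, Matrix.SpecialLinearGroup.coe_mul, qToSL_coe f hx, qToSL_coe f hy]
  ext i j
  fin_cases i <;> fin_cases j <;> simp [qmul, Matrix.mul_apply, Fin.sum_univ_two]

theorem qToSL_one (f : K →+* F) : qToSL f (1, 0, 0, 1) = 1 := by
  refine Subtype.ext ?_
  rw [qToSL_coe f (by simp [qdet])]
  simp [Matrix.one_fin_two]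

theorem qToSL_injOn (f : K →+* F) (hf : Function.Injective f) :
    Set.InjOn (qToSL f) {x | qdet x = 1} := by
  intro x hx y hy h
  have h' := congrArg (fun g : SpecialLinearGroup (Fin 2) F => (g : Matrix (Fin 2) (Fin 2) F)) h
  simp only [qToSL_coe f hx, qToSL_coe f hy] at h'
  have e00 := congrFun (congrFun h' 0) 0
  have e01 := congrFun (congrFun h' 0) 1
  have e10 := congrFun (congrFun h' 1) 0
  have e11 := congrFun (congrFun h' 1) 1
  simp at e00 e01 e10 e11
  exact Prod.ext (hf e00) (Prod.ext (hf e01) (Prod.ext (hf e10) (hf e11)))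

/-- Everything that has to be checked by computation. -/
def qCheck [DecidableEq K] (gens : List (Quad K)) (k len : ℕ) : Bool :=
  let L := genList qmul ((1 : K), (0 : K), (0 : K), (1 : K)) gens k
  decide (L.length = len) && decide (((-1 : K), (0 : K), (0 : K), (-1 : K)) ∈ L) &&
    gens.all (fun g => decide (qdet g = 1)) && L.all (fun x => decide (qdet x = 1)) &&
    L.all (fun x => gens.all fun g => decide (qmul x g ∈ L))

/-- A computed subgroup of `SL_2` gives a subgroup of `PSL_2` of known index. -/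
theorem exists_subgroup_PSL2_index [DecidableEq K] [Fintype F] (f : K →+* F)
    (hf : Function.Injective f) (gens : List (Quad K)) (k len : ℕ)
    (hc : qCheck gens k len = true) :
    ∃ H : Subgroup (ProjectiveSpecialLinearGroup (Fin 2) F),
      H.index * len = Fintype.card F * (Fintype.card F ^ 2 - 1) := by
  simp only [qCheck, Bool.and_eq_true, decide_eq_true_eq, List.all_eq_true] at hc
  obtain ⟨⟨⟨⟨hlen, hneg⟩, hgens⟩, hdet⟩, hclosed⟩ := hc
  set S := Subgroup.closure (qToSL f '' {g | g ∈ gens}) with hS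
  have hmul : ∀ x ∈ genList qmul ((1 : K), (0 : K), (0 : K), (1 : K)) gens k, ∀ g ∈ gens,
      qToSL f (qmul x g) = qToSL f x * qToSL f g :=
    fun x hx g hg => qToSL_mul f (hdet x hx) (hgens g hg)
  have hcard : Nat.card S = len := by
    rw [hS, card_closure_eq_genList_length qmul _ gens (qToSL f) k (qToSL_one f) hmul hclosed
      ((qToSL_injOn f hf).mono fun x hx => hdet x hx), hlen]
  have hnegmem : qToSL f ((-1 : K), (0 : K), (0 : K), (-1 : K)) ∈ S := by
    rw [← SetLike.mem_coe, hS,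
      coe_closure_eq_genList qmul _ gens (qToSL f) k (qToSL_one f) hmul hclosed]
    exact ⟨_, hneg, rfl⟩
  have hcen : Subgroup.center (SpecialLinearGroup (Fin 2) F) ≤ S := by
    intro z hz
    obtain ⟨r, hr, hrz⟩ := Matrix.SpecialLinearGroup.mem_center_iff.mp hz
    rw [Fintype.card_fin] at hr
    rcases sq_eq_one_iff.mp hr with rfl | rfl
    · have : z = 1 := Subtype.ext (by rw [← hrz]; simp)
      exact this ▸ one_mem _
    · have : z = qToSL f ((-1 : K), (0 : K), (0 : K), (-1 : K)) := by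
        refine Subtype.ext ?_
        rw [← hrz, qToSL_coe f (by simp [qdet])]
        ext i j
        fin_cases i <;> fin_cases j <;> simp
      exact this ▸ hnegmem
  refine ⟨S.map (QuotientGroup.mk' _), ?_⟩
  rw [Subgroup.index_map, QuotientGroup.ker_mk', sup_eq_left.mpr hcen,
    MonoidHom.range_eq_top.mpr (QuotientGroup.mk'_surjective _), Subgroup.index_top, mul_one,
    ← hcard, S.index_mul_card, card_SL2]

theorem card_PSL2_odd [Fintype F] (h : Odd (Fintype.card F)) :
    2 * Nat.card (ProjectiveSpecialLinearGroup (Fin 2) F) =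
      Fintype.card F * (Fintype.card F ^ 2 - 1) := by
  have h2 : Nat.gcd 2 (Fintype.card F - 1) = 2 := by
    obtain ⟨j, hj⟩ := h
    rw [hj, Nat.add_sub_cancel]
    exact Nat.gcd_eq_left (dvd_mul_right 2 j)
  rw [← card_PSL2_mul, h2]

theorem qCheck_five : qCheck (K := ZMod 5) [(2, 0, 0, 3), (0, 1, 4, 0), (3, 4, 3, 1)] 6 24 = true := by
  decide +kernel

theorem qCheck_nine : qCheck (K := QuadraticAlgebra (ZMod 3) (-1) 0)
    [(1, 1, 0, 1), (1, 0, ⟨0, 1⟩, 1)] 14 120 = true := by
  decide +kernel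

theorem zmod3_sq_add_sq : ∀ a b : ZMod 3, a * a + b * b = 0 → a = 0 ∧ b = 0 := by decide

theorem nonempty_PSL2_five [Fintype F] (hF : Fintype.card F = 5) :
    Nonempty (ProjectiveSpecialLinearGroup (Fin 2) F ≃* alternatingGroup (Fin 5)) := by
  haveI : Fact (Nat.Prime 5) := ⟨by norm_num⟩
  haveI : CharP F 5 := charP_of_card_eq_prime hF
  obtain ⟨H, hH⟩ := exists_subgroup_PSL2_index (ZMod.castHom (dvd_refl 5) F)
    (RingHom.injective _) _ 6 24 qCheck_five
  rw [hF] at hH
  have := isSimpleGroup_PSL_fin (F := F) (n := 2) le_rfl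
    (fun _ => by rw [Nat.card_eq_fintype_card, hF]; norm_num)
  have hc := card_PSL2_odd (F := F) (by rw [hF]; decide)
  rw [hF] at hc
  exact nonempty_mulEquiv_alternating_of_index H (by omega) (by norm_num)
    (by rw [show Nat.factorial 5 = 120 from rfl]; omega)

theorem nonempty_PSL2_nine [Fintype F] (hF : Fintype.card F = 9) :
    Nonempty (ProjectiveSpecialLinearGroup (Fin 2) F ≃* alternatingGroup (Fin 6)) := by
  haveI : Fact (Nat.Prime 3) := ⟨Nat.prime_three⟩
  haveI : CharP F 3 := by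
    obtain ⟨n, hp, hn⟩ := FiniteField.card F (ringChar F)
    have hd : ringChar F ∣ 3 ^ 2 := by
      rw [show (3 : ℕ) ^ 2 = Fintype.card F by rw [hF]; norm_num, hn]
      exact dvd_pow_self _ n.ne_zero
    rw [← (Nat.prime_dvd_prime_iff_eq hp Nat.prime_three).mp (hp.dvd_of_dvd_pow hd)]
    infer_instance
  letI : Algebra (ZMod 3) F := ZMod.algebra F 3
  obtain ⟨u, hu⟩ : IsSquare (-1 : F) := FiniteField.isSquare_neg_one_iff.mpr (by rw [hF]; norm_num)
  let f : QuadraticAlgebra (ZMod 3) (-1) 0 →ₐ[ZMod 3] F :=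
    QuadraticAlgebra.lift ⟨u, by rw [← hu]; simp⟩
  have hf : Function.Injective f := by
    rw [injective_iff_map_eq_zero]
    intro z hz
    have hz' : algebraMap (ZMod 3) F z.re + algebraMap (ZMod 3) F z.im * u = 0 := by
      simpa [f, QuadraticAlgebra.lift, Algebra.smul_def] using hz
    have hn : z.re * z.re + z.im * z.im = 0 := by
      apply (algebraMap (ZMod 3) F).injective
      rw [map_add, map_mul, map_mul, map_zero]
      linear_combination (algebraMap (ZMod 3) F z.re - algebraMap (ZMod 3) F z.im * u) * hz'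
        - (algebraMap (ZMod 3) F z.im * algebraMap (ZMod 3) F z.im) * hu
    exact QuadraticAlgebra.ext (zmod3_sq_add_sq _ _ hn).1 (zmod3_sq_add_sq _ _ hn).2
  obtain ⟨H, hH⟩ := exists_subgroup_PSL2_index f.toRingHom hf
    _ 14 120 qCheck_nine
  rw [hF] at hH
  have := isSimpleGroup_PSL_fin (F := F) (n := 2) le_rfl
    (fun _ => by rw [Nat.card_eq_fintype_card, hF]; norm_num)
  have hc := card_PSL2_odd (F := F) (by rw [hF]; decide)
  rw [hF] at hc
  exact nonempty_mulEquiv_alternating_of_index H (by omega) (by norm_num)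
    (by rw [show Nat.factorial 6 = 720 from rfl]; omega)

end Cfsg.Agent.Lib.Classical
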