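import Cfsg.Agent.Lib.Compute.CertTools
import Cfsg.Agent.Lib.Compute.CommBound
import Cfsg.Agent.Lib.Classical.U35Data

/-!
Kernel checks for `PSU₃(5)` on 126 points.
-/

set_option autoImplicit false
set_option maxRecDepth 100000

namespace Cfsg.Agent.Lib.Classical.U35

open Cfsg.Agent.Lib.Compute

theorem gCert_ok : chk 126 gCert = true := by decide +kernel

theorem uCert_ok : chk 126 uCert = true := by decide +kernel

theorem hCert_ok : chk 126 hCert = true := by decide +kernel

theorem orders : certOrder gCert = 126000 ∧ certOrder uCert = 125 ∧ certOrder hCert = 2520 := by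
  decide +kernel

theorem bases : gCert0.base = 0 ∧ uCert0.base = 1 ∧ app tPerm.1 0 = 1 := by decide +kernel

theorem u_fix : uCert0.gens.all (fun g => app g.1 0 == 0) = true := by decide +kernel

/-- All entries are members. -/
def wOk (c : List Lvl) (gs : List (ℕ × ℕ)) (ws : List (List ℕ)) : Bool :=
  (List.range gs.length).all fun k => memOk 126 c (gs.getD k (0, 0)).1 (ws.getD k [])

theorem u_mem : wOk gCert uCert0.gens uWit = true := by decide +kernel

theorem h_mem : wOk gCert hCert0.gens hWit = true := by decide +kernel

theorem t_mem : memOk 126 gCert tPerm.1 tPerm.2 = true := by decide +kernel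

theorem z_mem : memOk 126 uCert zPerm.1 zPerm.2 = true := by decide +kernel

theorem seven_mem : memOk 126 gCert sevenPerm.1 sevenPerm.2 = true := by decide +kernel

/-- `P` is the conjugate of `u` by `h`. -/
def conjOk (h u P : ℕ) : Bool := (List.range 126).all fun i => app P (app h i) == app h (app u i)

/-- The stabiliser normalises the Sylow subgroup. -/
def stabOk : Bool :=
  (List.range gCert1.gens.length).all fun a => (List.range uCert0.gens.length).all fun b =>
    let e := (stabConj.getD a []).getD b (0, [])
    conjOk (gCert1.gens.getD a (0, 0)).1 (uCert0.gens.getD b (0, 0)).1 e.1 &&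
      memOk 126 uCert e.1 e.2

theorem stabOk_eq : stabOk = true := by decide +kernel

theorem tU_ok : tU.length = uCert0.gens.length ∧
    ((List.range uCert0.gens.length).all fun b =>
      conjOk tPerm.1 (uCert0.gens.getD b (0, 0)).1 (tU.getD b 0)) = true := by
  decide +kernel

theorem tZ_ok : conjOk tPerm.1 zPerm.1 tZ = true := by decide +kernel

theorem comm_ok : commIdx.1 < uCert0.gens.length ∧ commIdx.2 < uCert0.gens.length ∧
    ((List.range 126).all fun i =>
      app zPerm.1 i == app (uCert0.gens.getD commIdx.1 (0, 0)).1 (app (uCert0.gens.getD commIdx.2 (0, 0)).1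
        (app (uCert0.gens.getD commIdx.1 (0, 0)).2 (app (uCert0.gens.getD commIdx.2 (0, 0)).2 i)))) = true := by
  decide +kernel

theorem zPerm_pow : powOk 126 5 zPerm.1 = true := by decide +kernel

/-- The six representatives are found in the table. -/
def tableOk : Bool :=
  (List.range (uCert0.trans.length + 1)).all fun q =>
    let e := uTable.getD q (0, 0, 0)
    if e.1 == 6 then decide (e.2.1 < 5) &&
      (List.range 126).all fun i => tfun uCert0 q i == (app zPerm.1)^[e.2.1] i
    else decide (e.1 < 6) &&
      (List.range 126).all fun i =>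
        app (xList.getD e.1 0) i == (tfun uCert0 q)^[e.2.1] ((app zPerm.1)^[e.2.2] i)

theorem tableOk_eq : tableOk = true := by decide +kernel

theorem uCert_single : uCert.length = 1 ∧ xList.length = 6 := by decide +kernel

theorem twoSyl_ok : slpOk 126 twoSylBase twoSylSteps = true ∧
    slpCovers twoSylBase twoSylSteps gCert = true ∧
    twoSylBase = uCert0.gens.map Prod.fst ++ tU := by decide +kernel

theorem gen0_ok : slpOk 126 gen0Base gen0Steps = true ∧ slpCovers gen0Base gen0Steps gCert = true ∧
    gen0Base = [zPerm.1, xList.getD 0 0, tZ] := by decide +kernel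

theorem gen1_ok : slpOk 126 gen1Base gen1Steps = true ∧ slpCovers gen1Base gen1Steps gCert = true ∧
    gen1Base = [zPerm.1, xList.getD 1 0, tZ] := by decide +kernel

theorem gen2_ok : slpOk 126 gen2Base gen2Steps = true ∧ slpCovers gen2Base gen2Steps gCert = true ∧
    gen2Base = [zPerm.1, xList.getD 2 0, tZ] := by decide +kernel

theorem gen3_ok : slpOk 126 gen3Base gen3Steps = true ∧ slpCovers gen3Base gen3Steps gCert = true ∧
    gen3Base = [zPerm.1, xList.getD 3 0, tZ] := by decide +kernel

theorem gen4_ok : slpOk 126 gen4Base gen4Steps = true ∧ slpCovers gen4Base gen4Steps gCert = true ∧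
    gen4Base = [zPerm.1, xList.getD 4 0, tZ] := by decide +kernel

theorem gen5_ok : slpOk 126 gen5Base gen5Steps = true ∧ slpCovers gen5Base gen5Steps gCert = true ∧
    gen5Base = [zPerm.1, xList.getD 5 0, tZ] := by decide +kernel

theorem seven_ok : powOk 126 7 sevenPerm.1 = true ∧ powsOk 126 7 sevenPerm.1 sevenPows = true ∧
    (List.range 126).any (fun i => !(app sevenPerm.1 i == i)) = true := by decide +kernel

end Cfsg.Agent.Lib.Classical.U35
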