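import Cfsg.Agent.Lib.Classical.U35Checks
import Cfsg.Agent.Lib.Classical.U35Seven

/-!
Proper subgroups of the group of degree 126 have index at least 50.
-/

set_option autoImplicit false
set_option maxRecDepth 100000

namespace Cfsg.Agent.Lib.Classical.U35

open Cfsg.Agent.Lib.Compute Equiv

/-- The group. -/
noncomputable abbrev G : Subgroup (Perm (Fin 126)) := grp 126 gCert

/-- The Sylow 5-subgroup fixing the first point. -/
noncomputable abbrev U : Subgroup (Perm (Fin 126)) := grp 126 uCert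

theorem card_G : Nat.card G = 126000 := (card_grp gCert_ok).trans orders.1

theorem card_U : Nat.card U = 125 := (card_grp uCert_ok).trans orders.2.1

theorem gens_ok {L : Lvl} {rest : List Lvl} (h : chk 126 (L :: rest) = true) :
    ∀ g ∈ L.gens, genOk 126 g = true := by
  simp only [chk, Bool.and_eq_true] at h
  exact (lvlOk_iff h.1).2.1

theorem uGens : ∀ g ∈ uCert0.gens, genOk 126 g = true :=
  gens_ok (rest := uCert.tail) uCert_ok

theorem wOk_le {c : List Lvl} (hc : chk 126 c = true) {L : Lvl} {rest : List Lvl}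
    {ws : List (List ℕ)} (h : wOk c L.gens ws = true) : grp 126 (L :: rest) ≤ grp 126 c := by
  refine (Subgroup.closure_le _).mpr ?_
  rintro _ ⟨g, hg, rfl⟩
  obtain ⟨k, hk, rfl⟩ := List.getElem_of_mem hg
  have h1 := mem_grp_of_memOk hc (List.all_eq_true.mp h k (List.mem_range.mpr hk))
  rw [List.getD_eq_getElem _ _ hk] at h1
  exact h1.2

theorem U_le : U ≤ G := wOk_le (L := uCert0) (rest := uCert.tail) gCert_ok u_mem

theorem repr_inv {g : ℕ × ℕ} (hg : genOk 126 g = true) : Repr (toPerm 126 g.1)⁻¹ (app g.2) := by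
  intro j
  obtain ⟨i, rfl⟩ := (toPerm 126 g.1).surjective j
  rw [Perm.inv_def, Equiv.symm_apply_apply, repr_toPerm_of_genOk hg i]
  simp only [genOk, List.all_eq_true, List.mem_range, Bool.and_eq_true, decide_eq_true_eq,
    beq_iff_eq] at hg
  exact (hg i i.isLt).2.symm

theorem conjOk_spec {h u P : ℕ} (hh : Valid 126 h) (hu : Valid 126 u)
    (hk : conjOk h u P = true) :
    Valid 126 P ∧ toPerm 126 P = toPerm 126 h * toPerm 126 u * (toPerm 126 h)⁻¹ := by
  simp only [conjOk, List.all_eq_true, List.mem_range, beq_iff_eq] at hk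
  have hr : Repr (toPerm 126 h * toPerm 126 u * (toPerm 126 h)⁻¹) (app P) := by
    intro j
    obtain ⟨i, rfl⟩ := (toPerm 126 h).surjective j
    simp only [Perm.mul_apply, Perm.inv_def, Equiv.symm_apply_apply]
    rw [hh.repr, hu.repr, hh.repr i, hk i i.isLt]
  exact ⟨⟨_, hr⟩, repr_toPerm_of_repr hr⟩

theorem normalizes {σ : Perm (Fin 126)} (hσ : σ ∈ grp 126 gCert.tail) :
    ∀ u ∈ U, σ * u * σ⁻¹ ∈ U := by
  have hrest : chk 126 gCert.tail = true := by
    have h := gCert_ok
    rw [show gCert = gCert0 :: gCert.tail from rfl] at h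
    simp only [chk, Bool.and_eq_true] at h
    exact h.2
  have key : ∀ g ∈ gCert1.gens, U.map (MulAut.conj (toPerm 126 g.1)).toMonoidHom = U := by
    intro g hg
    refine Subgroup.eq_of_le_of_card_ge ?_ (by rw [Subgroup.card_map_of_injective (MulAut.conj _).injective])
    rw [Subgroup.map_le_iff_le_comap]
    refine (Subgroup.closure_le _).mpr ?_
    rintro _ ⟨u, hu, rfl⟩
    obtain ⟨a, ha, rfl⟩ := List.getElem_of_mem hg
    obtain ⟨b, hb, rfl⟩ := List.getElem_of_mem hu
    have h1 := List.all_eq_true.mp (List.all_eq_true.mp stabOk_eq a (List.mem_range.mpr ha)) b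
      (List.mem_range.mpr hb)
    simp only [Bool.and_eq_true, List.getD_eq_getElem _ _ ha, List.getD_eq_getElem _ _ hb] at h1
    obtain ⟨h2, h3⟩ := h1
    have h4 := conjOk_spec (valid_of_genOk (gens_ok (L := gCert1) hrest _ (List.getElem_mem ha)))
      (valid_of_genOk (uGens _ (List.getElem_mem hb))) h2
    show toPerm 126 _ * toPerm 126 _ * (toPerm 126 _)⁻¹ ∈ U
    rw [← h4.2]
    exact (mem_grp_of_memOk uCert_ok h3).2
  let N : Subgroup (Perm (Fin 126)) :=
    { carrier := {x | U.map (MulAut.conj x).toMonoidHom = U}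
      one_mem' := by
        show U.map _ = U
        ext y
        simp [Subgroup.mem_map]
      mul_mem' := fun {x y} hx hy => by
        show U.map _ = U
        have hx' : U.map (MulAut.conj x).toMonoidHom = U := hx
        have hy' : U.map (MulAut.conj y).toMonoidHom = U := hy
        conv_rhs => rw [← hx', ← hy', Subgroup.map_map]
        congr 1
      inv_mem' := fun {x} hx => by
        show U.map _ = U
        have hx' : U.map (MulAut.conj x).toMonoidHom = U := hx
        conv_lhs => rw [← hx', Subgroup.map_map]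
        convert Subgroup.map_id U
        ext z
        simp [mul_assoc] }
  have : grp 126 gCert.tail ≤ N := by
    rw [show gCert.tail = gCert1 :: gCert.tail.tail from rfl]
    refine (Subgroup.closure_le _).mpr ?_
    rintro _ ⟨g, hg, rfl⟩
    exact key g hg
  intro u hu
  have h2 : U.map (MulAut.conj σ).toMonoidHom = U := this hσ
  rw [← h2]
  exact ⟨u, hu, rfl⟩

theorem uTrans (x : Fin 126) (hx : x ≠ 0) : ∃ u ∈ U, u (1 : Fin 126) = x := by
  refine (mem_orbit_iff (L := uCert0) (rest := uCert.tail) uCert_ok 1 x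
    (by rw [bases.2.1]; rfl)).mpr ?_
  have h : ∀ x : Fin 126, x ≠ 0 → (x : ℕ) ∈ Compute.orbit uCert0 := by decide +kernel
  exact h x hx

theorem U_fix {u : Perm (Fin 126)} (hu : u ∈ U) : u 0 = 0 := by
  have hle : U ≤ MulAction.stabilizer (Perm (Fin 126)) (0 : Fin 126) := by
    refine (Subgroup.closure_le _).mpr ?_
    rintro _ ⟨g, hg, rfl⟩
    exact Fin.ext ((repr_toPerm_of_genOk (uGens g hg) 0).trans
      (beq_iff_eq.mp (List.all_eq_true.mp u_fix g hg)))
  exact hle hu

/-- The element moving the first point. -/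
noncomputable abbrev tt : Perm (Fin 126) := toPerm 126 tPerm.1

theorem tt_mem : tt ∈ G := (mem_grp_of_memOk gCert_ok t_mem).2

theorem tt_zero : tt 0 = 1 :=
  Fin.ext (((mem_grp_of_memOk gCert_ok t_mem).1.repr 0).trans bases.2.2)

/-- The central element. -/
noncomputable abbrev zz : Perm (Fin 126) := toPerm 126 zPerm.1

theorem zz_mem : zz ∈ U := (mem_grp_of_memOk uCert_ok z_mem).2

theorem exists_moved {H : Subgroup (Perm (Fin 126))} (hH : H ≤ G) (hcard : 1000 < Nat.card H) :
    ∃ h ∈ H, h 0 ≠ 0 := by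
  by_contra hc
  push Not at hc
  have hle : H ≤ grp 126 gCert.tail := fun h hh =>
    (mem_grp_rest_iff (L := gCert0) (rest := gCert.tail) gCert_ok 0 (by rw [bases.1]; rfl) h).mpr
      ⟨hH hh, hc h hh⟩
  have h1 : Nat.card (grp 126 gCert.tail) = 1000 := by
    have h := card_grp_cons (L := gCert0) (rest := gCert.tail) gCert_ok
    rw [show gCert0 :: gCert.tail = gCert from rfl, card_G,
      show gCert0.trans.length = 125 by decide +kernel] at h
    omega
  have := Subgroup.card_le_of_le hle
  omega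

/-- A conjugation carrying the first point to a moved point, up to the Sylow subgroup. -/
theorem exists_conj_tt {H : Subgroup (Perm (Fin 126))} (hH : H ≤ G) {h : Perm (Fin 126)} (hh : h ∈ H)
    (h0 : h 0 ≠ 0) : ∃ u ∈ U, ∃ s, (∀ w ∈ U, s * w * s⁻¹ ∈ U) ∧ h = u * tt * s := by
  obtain ⟨u, hu, hu1⟩ := uTrans (h 0) h0
  refine ⟨u, hu, tt⁻¹ * u⁻¹ * h, normalizes ?_, by group⟩
  refine (mem_grp_rest_iff (L := gCert0) (rest := gCert.tail) gCert_ok 0 (by rw [bases.1]; rfl) _).mpr
    ⟨mul_mem (mul_mem (inv_mem tt_mem) (inv_mem (U_le hu))) (hH hh), ?_⟩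
  simp only [Perm.mul_apply]
  rw [← hu1, Perm.inv_def u, Equiv.symm_apply_apply, ← tt_zero, Perm.inv_def, Equiv.symm_apply_apply]

theorem eq_top_of_slp {H : Subgroup (Perm (Fin 126))} {base : List ℕ}
    {steps : List (ℕ × ℕ × ℕ × Bool)} (h : slpOk 126 base steps = true)
    (hcov : slpCovers base steps gCert = true)
    (hb : ∀ b ∈ base, Valid 126 b ∧ toPerm 126 b ∈ H) : G ≤ H := by
  refine (grp_le_closure (fun b hb' => (hb b hb').1) h hcov).trans ((Subgroup.closure_le _).mpr ?_)
  rintro _ ⟨b, hb', rfl⟩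
  exact (hb b hb').2

theorem top_of_sylow {H : Subgroup (Perm (Fin 126))} (hH : H ≤ G) (hU : U ≤ H)
    (hcard : 1000 < Nat.card H) : G ≤ H := by
  obtain ⟨h, hh, h0⟩ := exists_moved hH hcard
  obtain ⟨u, hu, s, hs, he⟩ := exists_conj_tt hH hh h0
  have hconj : ∀ w ∈ U, tt * w * tt⁻¹ ∈ H := by
    intro w hw
    have hw2 : U.map (MulAut.conj s).toMonoidHom = U := by
      refine Subgroup.eq_of_le_of_card_ge ?_ (by rw [Subgroup.card_map_of_injective (MulAut.conj _).injective])
      rintro _ ⟨y, hy, rfl⟩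
      exact hs y hy
    rw [← hw2] at hw
    obtain ⟨y, hy, rfl⟩ := hw
    have e : tt * (s * y * s⁻¹) * tt⁻¹ = u⁻¹ * (h * y * h⁻¹) * u := by rw [he]; group
    show tt * (s * y * s⁻¹) * tt⁻¹ ∈ H
    rw [e]
    exact mul_mem (mul_mem (inv_mem (hU hu)) (mul_mem (mul_mem hh (hU hy)) (inv_mem hh))) (hU hu)
  obtain ⟨h1, h2, h3⟩ := twoSyl_ok
  refine eq_top_of_slp h1 h2 ?_
  rw [h3]
  intro b hb
  rcases List.mem_append.mp hb with hb | hb
  · obtain ⟨g, hg, rfl⟩ := List.mem_map.mp hb
    exact ⟨valid_of_genOk (uGens g hg), hU (gen_mem hg)⟩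
  · obtain ⟨k, hk, rfl⟩ := List.getElem_of_mem hb
    obtain ⟨hlen, hall⟩ := tU_ok
    have hk' : k < uCert0.gens.length := hlen ▸ hk
    have h4 := List.all_eq_true.mp hall k (List.mem_range.mpr hk')
    rw [List.getD_eq_getElem _ _ hk, List.getD_eq_getElem _ _ hk'] at h4
    obtain ⟨h5, h6⟩ := conjOk_spec (mem_grp_of_memOk gCert_ok t_mem).1
      (valid_of_genOk (uGens _ (List.getElem_mem hk'))) h4
    exact ⟨h5, h6 ▸ hconj _ (gen_mem (List.getElem_mem hk'))⟩

theorem zz_comm : ∀ Q : Subgroup U, Q.Normal → Q.index = 5 → (⟨zz, zz_mem⟩ : U) ∈ Q := by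
  intro Q hQ h5
  obtain ⟨ha, hb, hall⟩ := comm_ok
  simp only [List.all_eq_true, List.mem_range, beq_iff_eq] at hall
  set ga := uCert0.gens.getD commIdx.1 (0, 0) with hga
  set gb := uCert0.gens.getD commIdx.2 (0, 0) with hgb
  have hga' : ga ∈ uCert0.gens := by rw [hga, List.getD_eq_getElem _ _ ha]; exact List.getElem_mem _
  have hgb' : gb ∈ uCert0.gens := by rw [hgb, List.getD_eq_getElem _ _ hb]; exact List.getElem_mem _
  let A : U := ⟨toPerm 126 ga.1, gen_mem hga'⟩
  let B : U := ⟨toPerm 126 gb.1, gen_mem hgb'⟩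
  have he : (⟨zz, zz_mem⟩ : U) = A * B * (A⁻¹ * B⁻¹) := by
    apply Subtype.ext
    refine repr_toPerm_of_repr ?_
    intro i
    show (((toPerm 126 ga.1 * toPerm 126 gb.1) * ((toPerm 126 ga.1)⁻¹ * (toPerm 126 gb.1)⁻¹)) i : ℕ) = _
    simp only [Perm.mul_apply]
    rw [repr_toPerm_of_genOk (uGens _ hga'), repr_toPerm_of_genOk (uGens _ hgb'),
      repr_inv (uGens _ hga'), repr_inv (uGens _ hgb') i, hall i i.isLt]
  rw [he]
  haveI := hQ
  haveI : IsCyclic (U ⧸ Q) := by
    haveI : Fact (Nat.Prime 5) := ⟨by norm_num⟩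
    exact isCyclic_of_prime_card (p := 5) (by rw [← Subgroup.index_eq_card, h5])
  refine (QuotientGroup.eq_one_iff _).mp ?_
  simp only [QuotientGroup.mk_mul, QuotientGroup.mk_inv]
  obtain ⟨c, hc⟩ := IsCyclic.exists_generator (α := U ⧸ Q)
  obtain ⟨a, ha'⟩ := Subgroup.mem_zpowers_iff.mp (hc (A : U ⧸ Q))
  obtain ⟨b, hb'⟩ := Subgroup.mem_zpowers_iff.mp (hc (B : U ⧸ Q))
  rw [← ha', ← hb']
  group

theorem top_of_five_squared {H : Subgroup (Perm (Fin 126))} (hH : H ≤ G) {Q : Subgroup U}
    (hQ : Q.map U.subtype ≤ H) (hQc : Nat.card Q = 25) (hcard : 1000 < Nat.card H) : G ≤ H := by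
  haveI : Fact (Nat.Prime 5) := ⟨by norm_num⟩
  have hidx : Q.index = 5 := by
    have h := Q.card_mul_index
    rw [hQc, card_U] at h
    omega
  haveI : Finite U := Nat.finite_of_card_ne_zero (by rw [card_U]; norm_num)
  have hQn : Q.Normal := Subgroup.normal_of_index_eq_minFac_card (by rw [hidx, card_U]; norm_num)
  have hz := zz_comm Q hQn hidx
  have hzH : zz ∈ H := hQ ⟨_, hz, rfl⟩
  -- one of the six representatives
  obtain ⟨i, hi, hx⟩ : ∃ i < 6, Valid 126 (xList.getD i 0) ∧
      toPerm 126 (xList.getD i 0) ∈ Q.map U.subtype := by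
    obtain ⟨e, heQ, hez⟩ : ∃ e ∈ Q, e ∉ Subgroup.zpowers (⟨zz, zz_mem⟩ : U) := by
      by_contra hcon
      push Not at hcon
      have h1 := Subgroup.card_le_of_le (show Q ≤ _ from hcon)
      rw [hQc, Nat.card_zpowers] at h1
      have h2 : orderOf (⟨zz, zz_mem⟩ : U) ≤ 5 := Nat.le_of_dvd (by norm_num)
        (orderOf_dvd_of_pow_eq_one (Subtype.ext (valid_of_powOk (by norm_num) zPerm_pow).2))
      omega
    obtain ⟨q, hq, τ, hτ, hqe⟩ := exists_decomp (L := uCert0) (rest := uCert.tail) uCert_ok e.2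
    have hτ1 : τ = 1 := by
      rw [List.eq_nil_of_length_eq_zero (l := uCert.tail) (by simp [uCert_single.1])] at hτ
      simpa [grp] using hτ
    rw [hτ1, mul_one] at hqe
    have h3 := List.all_eq_true.mp tableOk_eq q (List.mem_range.mpr (by omega))
    have hrq : Repr (tperm 126 uCert0 q) (tfun uCert0 q) :=
      (trans_spec (L := uCert0) (rest := uCert.tail) uGens (by
        have h := uCert_ok
        rw [show uCert = uCert0 :: uCert.tail from rfl] at h
        simp only [chk, Bool.and_eq_true] at h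
        exact (lvlOk_iff h.1).2.2.1) q).1
    have hzr : Repr zz (app zPerm.1) := (valid_of_powOk (by norm_num) zPerm_pow).1.repr
    obtain ⟨hlt, h4⟩ | ⟨hlt, h4⟩ : ((uTable.getD q (0, 0, 0)).2.1 < 5 ∧
        ∀ i < 126, tfun uCert0 q i = (app zPerm.1)^[(uTable.getD q (0, 0, 0)).2.1] i) ∨
        ((uTable.getD q (0, 0, 0)).1 < 6 ∧ ∀ i < 126, app (xList.getD (uTable.getD q (0, 0, 0)).1 0) i =
          (tfun uCert0 q)^[(uTable.getD q (0, 0, 0)).2.1]
            ((app zPerm.1)^[(uTable.getD q (0, 0, 0)).2.2] i)) := by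
      simp only at h3
      split at h3
      · simp only [Bool.and_eq_true, decide_eq_true_eq, List.all_eq_true, List.mem_range, beq_iff_eq] at h3
        exact Or.inl h3
      · simp only [Bool.and_eq_true, decide_eq_true_eq, List.all_eq_true, List.mem_range, beq_iff_eq] at h3
        exact Or.inr h3
    · exfalso
      refine hez (Subgroup.mem_zpowers_iff.mpr ⟨((uTable.getD q (0, 0, 0)).2.1 : ℤ), Subtype.ext ?_⟩)
      simp only [zpow_natCast, SubmonoidClass.coe_pow]
      rw [hqe]
      exact ((hrq.eq (repr_pow hzr _) h4)).symm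
    · have hr : Repr ((e : Perm (Fin 126)) ^ (uTable.getD q (0, 0, 0)).2.1 *
          zz ^ (uTable.getD q (0, 0, 0)).2.2) (app (xList.getD (uTable.getD q (0, 0, 0)).1 0)) := by
        intro i
        rw [((repr_pow (hqe ▸ hrq) _).mul (repr_pow hzr _)) i, h4 i i.isLt]
      refine ⟨_, hlt, ⟨_, hr⟩, ?_⟩
      rw [repr_toPerm_of_repr hr]
      exact mul_mem (pow_mem (Subgroup.mem_map.mpr ⟨e, heQ, rfl⟩) _) (pow_mem (Subgroup.mem_map.mpr ⟨_, hz, rfl⟩) _)
  -- the second root group
  obtain ⟨h, hh, h0⟩ := exists_moved hH hcard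
  obtain ⟨u, hu, s, hs, he⟩ := exists_conj_tt hH hh h0
  let H' := H.map (MulAut.conj u⁻¹).toMonoidHom
  have hQH : ∀ y ∈ Q, ((y : U) : Perm (Fin 126)) ∈ H' := by
    intro y hy
    refine ⟨u * (y : Perm (Fin 126)) * u⁻¹, hQ ⟨⟨u, hu⟩ * y * ⟨u, hu⟩⁻¹, hQn.conj_mem y hy _, rfl⟩, ?_⟩
    simp [mul_assoc]
  -- conjugates of the centre
  have hzc : ∀ w ∈ U, w * zz = zz * w := by
    have hle : U ≤ Subgroup.centralizer {zz} := by
      refine (Subgroup.closure_le _).mpr ?_
      rintro _ ⟨g, hg, rfl⟩
      refine Subgroup.mem_centralizer_singleton_iff.mpr ?_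
      have hzr : Repr zz (app zPerm.1) := (valid_of_powOk (by norm_num) zPerm_pow).1.repr
      have hgz : uCert0.gens.all (fun g => (List.range 126).all fun i =>
          app g.1 (app zPerm.1 i) == app zPerm.1 (app g.1 i)) = true := by decide +kernel
      refine ((repr_toPerm_of_genOk (uGens g hg)).mul hzr).eq (hzr.mul (repr_toPerm_of_genOk (uGens g hg)))
        fun i hi => ?_
      exact beq_iff_eq.mp (List.all_eq_true.mp (List.all_eq_true.mp hgz g hg) i (List.mem_range.mpr hi))
    exact fun w hw => Subgroup.mem_centralizer_singleton_iff.mp (hle hw)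
  have hcore : G ≤ H' := by
    have hzH' : zz ∈ H' := hQH _ hz
    have hsz : ∃ j : ℕ, zz = s * zz ^ j * s⁻¹ := by
      have h1 : s⁻¹ * zz * s ∈ Subgroup.zpowers zz := by
        have hmap : U.map (MulAut.conj s).toMonoidHom = U :=
          Subgroup.eq_of_le_of_card_ge (by rintro _ ⟨y, hy, rfl⟩; exact hs y hy)
            (by rw [Subgroup.card_map_of_injective (MulAut.conj _).injective])
        obtain ⟨y, hy, hye⟩ : zz ∈ U.map (MulAut.conj s).toMonoidHom := hmap.symm ▸ zz_mem
        have hys : s⁻¹ * zz * s = y := by rw [← hye]; simp [mul_assoc]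
        rw [hys]
        by_contra hny
        obtain ⟨q, hq, τ, hτ, hqe⟩ := exists_decomp (L := uCert0) (rest := uCert.tail) uCert_ok hy
        have hτ1 : τ = 1 := by
          rw [List.eq_nil_of_length_eq_zero (l := uCert.tail) (by simp [uCert_single.1])] at hτ
          simpa [grp] using hτ
        rw [hτ1, mul_one] at hqe
        have hcy : ∀ w ∈ U, w * y = y * w := by
          intro w hw
          have h2 := hzc (s * w * s⁻¹) (hs w hw)
          rw [← hys]
          calc w * (s⁻¹ * zz * s) = s⁻¹ * ((s * w * s⁻¹) * zz) * s := by group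
            _ = s⁻¹ * (zz * (s * w * s⁻¹)) * s := by rw [h2]
            _ = s⁻¹ * zz * s * w := by group
        have hcen : (List.range (uCert0.trans.length + 1)).all (fun q =>
            (List.range 5).any (fun j => (List.range 126).all fun i =>
              tfun uCert0 q i == (app zPerm.1)^[j] i) ||
            uCert0.gens.any (fun g => (List.range 126).any fun i =>
              !(app g.1 (tfun uCert0 q i) == tfun uCert0 q (app g.1 i)))) = true := by decide +kernel
        have hrq : Repr y (tfun uCert0 q) := by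
          rw [hqe]
          exact (trans_spec (L := uCert0) (rest := uCert.tail) uGens (by
            have h := uCert_ok
            rw [show uCert = uCert0 :: uCert.tail from rfl] at h
            simp only [chk, Bool.and_eq_true] at h
            exact (lvlOk_iff h.1).2.2.1) q).1
        have hc2 := List.all_eq_true.mp hcen q (List.mem_range.mpr (by omega))
        simp only [Bool.or_eq_true, List.any_eq_true, List.all_eq_true, List.mem_range, beq_iff_eq,
          Bool.not_eq_true', beq_eq_false_iff_ne] at hc2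
        rcases hc2 with ⟨j, -, hj⟩ | ⟨g, hg, a, ha, hne⟩
        · exact hny ⟨(j : ℤ), by
            simp only [zpow_natCast]
            exact ((hrq.eq (repr_pow (valid_of_powOk (by norm_num) zPerm_pow).1.repr _) hj)).symm⟩
        · refine hne ?_
          have h2 := congrArg (fun σ : Perm (Fin 126) => ((σ ⟨a, ha⟩ : Fin 126) : ℕ))
            (hcy _ (gen_mem (L := uCert0) (rest := uCert.tail) hg))
          simp only [Perm.mul_apply] at h2
          rwa [repr_toPerm_of_genOk (uGens g hg), hrq, hrq,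
            repr_toPerm_of_genOk (uGens g hg) ⟨a, ha⟩] at h2
      obtain ⟨j, hj⟩ := (IsOfFinOrder.mem_powers_iff_mem_zpowers (isOfFinOrder_of_finite zz)).mpr h1
      exact ⟨j, by rw [show zz ^ j = s⁻¹ * zz * s from hj]; group⟩
    have htz : tt * zz * tt⁻¹ ∈ H' := by
      obtain ⟨j, hj⟩ := hsz
      rw [hj]
      refine ⟨h * zz ^ j * h⁻¹, mul_mem (mul_mem hh (pow_mem hzH _)) (inv_mem hh), ?_⟩
      rw [he]
      simp [mul_assoc]
    obtain ⟨hv, hte⟩ := conjOk_spec (mem_grp_of_memOk gCert_ok t_mem).1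
      (valid_of_powOk (by norm_num) zPerm_pow).1 tZ_ok
    have hxQ : toPerm 126 (xList.getD i 0) ∈ H' := by
      obtain ⟨y, hy, hye⟩ := hx.2
      rw [← hye]
      exact hQH y hy
    have hgen : ∀ {base : List ℕ} {steps : List (ℕ × ℕ × ℕ × Bool)}, slpOk 126 base steps = true →
        slpCovers base steps gCert = true → base = [zPerm.1, xList.getD i 0, tZ] → G ≤ H' := by
      intro base steps h1 h2 h3
      refine eq_top_of_slp h1 h2 ?_
      rw [h3]
      intro b hb
      simp only [List.mem_cons, List.not_mem_nil, or_false] at hb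
      rcases hb with rfl | rfl | rfl
      · exact ⟨(valid_of_powOk (by norm_num) zPerm_pow).1, hzH'⟩
      · exact ⟨hx.1, hxQ⟩
      · exact ⟨hv, hte ▸ htz⟩
    interval_cases i
    · exact hgen gen0_ok.1 gen0_ok.2.1 gen0_ok.2.2
    · exact hgen gen1_ok.1 gen1_ok.2.1 gen1_ok.2.2
    · exact hgen gen2_ok.1 gen2_ok.2.1 gen2_ok.2.2
    · exact hgen gen3_ok.1 gen3_ok.2.1 gen3_ok.2.2
    · exact hgen gen4_ok.1 gen4_ok.2.1 gen4_ok.2.2
    · exact hgen gen5_ok.1 gen5_ok.2.1 gen5_ok.2.2
  intro g hg
  obtain ⟨y, hy, hye⟩ := hcore (mul_mem (mul_mem (inv_mem (U_le hu)) hg) (U_le hu))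
  have : y = g := by
    have h1 : u⁻¹ * y * u = u⁻¹ * g * u := by simpa using hye
    exact mul_left_cancel (mul_right_cancel h1)
  exact this ▸ hy

theorem G_le_s : G ≤ grp 126 sCert := wOk_le (L := gCert0) (rest := gCert.tail) sCert_ok g_mem_s

theorem card_normalizer_seven : Nat.card ↥(G ⊓
    Subgroup.normalizer (Subgroup.zpowers (toPerm 126 sevenPerm.1) : Set (Perm (Fin 126)))) ≤ 21 := by
  obtain ⟨h1, h2, h3⟩ := seven_ok
  obtain ⟨hv, -⟩ := valid_of_powOk (by norm_num) h1
  have hne : toPerm 126 sevenPerm.1 ≠ 1 := by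
    intro he
    obtain ⟨i, hi, hne⟩ := List.any_eq_true.mp h3
    have := hv.repr ⟨i, List.mem_range.mp hi⟩
    rw [he] at this
    simp [← this] at hne
  refine (card_normalizer_cyclic_le sCert_ok (by norm_num : Nat.Prime 7) h1 hne h2 (inf_le_left.trans G_le_s) ?_).trans
    seven_bound
  intro g hg
  exact (Subgroup.mem_normalizer_iff.mp hg.2 _).mp (Subgroup.mem_zpowers _)

theorem seven_contra {H : Subgroup (Perm (Fin 126))} (hH : Nat.card H = 5040) (hHG : H ≤ G) : False := by
  haveI : Fact (Nat.Prime 7) := ⟨by norm_num⟩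
  obtain ⟨P⟩ := (inferInstance : Nonempty (Sylow 7 H))
  have hPc : Nat.card P = 7 := by
    rw [P.card_eq_multiplicity, hH, show (5040 : ℕ) = 720 * 7 ^ 1 by norm_num,
      Nat.factorization_mul (by norm_num) (by norm_num), Finsupp.add_apply,
      Nat.Prime.factorization_pow (by norm_num), Nat.factorization_eq_zero_of_not_dvd (by norm_num)]
    simp
  have hn : Nat.card (Sylow 7 H) ≤ 120 := by
    have h2 : Nat.card (Sylow 7 H) ∣ 720 := by
      have h3 := P.card_dvd_index
      have h4 := (P : Subgroup H).card_mul_index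
      rw [show Nat.card (P : Subgroup H) = 7 from hPc, hH] at h4
      rwa [show (P : Subgroup H).index = 720 by omega] at h3
    have hd : ∀ k ∈ Nat.divisors 720, k % 7 = 1 → k ≤ 120 := by decide +kernel
    exact hd _ (Nat.mem_divisors.mpr ⟨h2, by norm_num⟩) (card_sylow_modEq_one 7 H)
  have hN : 42 ≤ Nat.card (Subgroup.normalizer ((P : Subgroup H) : Set H)) := by
    have h3 := (Subgroup.normalizer ((P : Subgroup H) : Set H)).card_mul_index
    have h5 : (Subgroup.normalizer ((P : Subgroup H) : Set H)).index = Nat.card (Sylow 7 H) :=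
      P.card_eq_index_normalizer.symm
    rw [h5, hH] at h3
    have h4 := Nat.mul_le_mul_left (Nat.card (Subgroup.normalizer ((P : Subgroup H) : Set H))) hn
    omega
  -- conjugate into the given cyclic group
  obtain ⟨h1, -, h3⟩ := seven_ok
  obtain ⟨hv, hpow⟩ := valid_of_powOk (by norm_num) h1
  set x : G := ⟨toPerm 126 sevenPerm.1, (mem_grp_of_memOk gCert_ok seven_mem).2⟩
  have hxo : orderOf x = 7 := by
    rw [← Subgroup.orderOf_coe]
    refine orderOf_eq_prime hpow fun he => ?_
    obtain ⟨i, hi, hne⟩ := List.any_eq_true.mp h3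
    have := hv.repr ⟨i, List.mem_range.mp hi⟩
    rw [show toPerm 126 sevenPerm.1 = (1 : Perm (Fin 126)) from he] at this
    simp [← this] at hne
  have hp : (Nat.card G).factorization 7 = 1 := by
    rw [card_G, show (126000 : ℕ) = 18000 * 7 ^ 1 by norm_num,
      Nat.factorization_mul (by norm_num) (by norm_num), Finsupp.add_apply,
      Nat.Prime.factorization_pow (by norm_num), Nat.factorization_eq_zero_of_not_dvd (by norm_num)]
    simp
  let X : Sylow 7 G := Sylow.ofCard (Subgroup.zpowers x) (by rw [hp, Nat.card_zpowers, hxo]; norm_num)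
  let ι : H →* G := Subgroup.inclusion hHG
  have hι : Function.Injective ι := Subgroup.inclusion_injective hHG
  let Y : Sylow 7 G := Sylow.ofCard ((P : Subgroup H).map ι) (by
    rw [hp, Subgroup.card_map_of_injective hι, hPc]; norm_num)
  obtain ⟨g, hg⟩ := MulAction.exists_smul_eq G Y X
  let f : Subgroup.normalizer ((P : Subgroup H) : Set H) → ↥(G ⊓
      Subgroup.normalizer (Subgroup.zpowers (toPerm 126 sevenPerm.1) : Set (Perm (Fin 126)))) := fun n =>
    ⟨((g * ι n * g⁻¹ : G) : Perm (Fin 126)), (g * ι n * g⁻¹ : G).2, by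
      have hY : Subgroup.map (MulAut.conj (ι (n : H))).toMonoidHom (Y : Subgroup G) = Y := by
        refine Subgroup.eq_of_le_of_card_ge ?_ (by
          rw [Subgroup.card_map_of_injective (MulAut.conj _).injective])
        rintro _ ⟨_, ⟨y, hy, rfl⟩, rfl⟩
        exact ⟨(n : H) * y * (n : H)⁻¹, (Subgroup.mem_normalizer_iff.mp n.2 y).mp hy, by simp⟩
      have hX : Subgroup.map (MulAut.conj (g * ι n * g⁻¹)).toMonoidHom (X : Subgroup G) = X := by
        have hYX : Subgroup.map (MulAut.conj g).toMonoidHom (Y : Subgroup G) = X := by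
          rw [← hg, Sylow.coe_subgroup_smul]; rfl
        conv_lhs => rw [← hYX]
        conv_rhs => rw [← hYX, ← hY]
        rw [Subgroup.map_map, Subgroup.map_map]
        congr 1
        ext z
        simp [mul_assoc]
      refine Subgroup.mem_normalizer_iff.mpr ?_
      intro y
      have hmap : (X : Subgroup G).map G.subtype = Subgroup.zpowers (toPerm 126 sevenPerm.1) := by
        show (Subgroup.zpowers x).map G.subtype = _
        rw [MonoidHom.map_zpowers]
        rfl
      rw [← hmap]
      constructor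
      · rintro ⟨w, hw, rfl⟩
        refine ⟨(g * ι n * g⁻¹) * w * (g * ι n * g⁻¹)⁻¹, ?_, by simp⟩
        rw [← hX]
        exact ⟨w, hw, rfl⟩
      · rintro ⟨w, hw, hwe⟩
        rw [SetLike.mem_coe, ← hX] at hw
        obtain ⟨w', hw', rfl⟩ := hw
        refine ⟨w', hw', ?_⟩
        simp only [MulEquiv.coe_toMonoidHom, MulAut.conj_apply, Subgroup.coe_subtype, Subgroup.coe_mul,
          Subgroup.coe_inv] at hwe ⊢
        exact mul_left_cancel (mul_right_cancel hwe)⟩
  have hf : Function.Injective f := fun a b h => by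
    have h1 := Subtype.ext_iff.mp h
    have h2 : g * ι a * g⁻¹ = g * ι b * g⁻¹ := Subtype.ext h1
    exact Subtype.ext (hι (mul_left_cancel (mul_right_cancel h2)))
  have := (Nat.card_le_card_of_injective f hf).trans card_normalizer_seven
  omega

theorem index_ge {K : Subgroup G} (hK : K ≠ ⊤) : 50 ≤ K.index := by
  haveI : Fact (Nat.Prime 5) := ⟨by norm_num⟩
  haveI : Fact (Nat.Prime 7) := ⟨by norm_num⟩
  by_contra hlt
  rw [not_le] at hlt
  have hmul := K.card_mul_index
  rw [card_G] at hmul
  have hipos : 0 < K.index := Nat.pos_of_ne_zero Subgroup.index_ne_zero_of_finite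
  have hbig : 2520 < Nat.card K := by
    by_contra hle
    have := Nat.mul_le_mul (Nat.le_of_not_lt hle) (Nat.le_of_lt_succ hlt)
    omega
  -- a Sylow 5-subgroup of `K`, moved into `U`
  obtain ⟨Q⟩ := (inferInstance : Nonempty (Sylow 5 K))
  let U0 : Subgroup G := U.subgroupOf G
  have hU0 : Nat.card U0 = 125 := by
    rw [Nat.card_congr (Subgroup.subgroupOfEquivOfLe U_le).toEquiv, card_U]
  have hp : (Nat.card G).factorization 5 = 3 := by
    rw [card_G, show (126000 : ℕ) = 1008 * 5 ^ 3 by norm_num,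
      Nat.factorization_mul (by norm_num) (by norm_num), Finsupp.add_apply,
      Nat.Prime.factorization_pow (by norm_num), Nat.factorization_eq_zero_of_not_dvd (by norm_num)]
    simp
  let UP : Sylow 5 G := Sylow.ofCard U0 (by rw [hp, hU0]; norm_num)
  obtain ⟨P1, hP1⟩ := (Q.2.map K.subtype).exists_le_sylow
  obtain ⟨g, hg⟩ := MulAction.exists_smul_eq G P1 UP
  let H : Subgroup (Perm (Fin 126)) := ((K.map (MulAut.conj g).toMonoidHom)).map G.subtype
  have hHG : H ≤ G := Subgroup.map_subtype_le _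
  have hHc : Nat.card H = Nat.card K := by
    rw [Subgroup.card_map_of_injective G.subtype_injective,
      Subgroup.card_map_of_injective (MulAut.conj g).injective]
  have htop : ¬ G ≤ H := by
    intro h
    have h1 := Subgroup.card_le_of_le h
    rw [hHc, card_G] at h1
    refine hK (Subgroup.eq_top_of_card_eq _ (le_antisymm (Subgroup.card_le_card_group K) ?_))
    rw [card_G]; exact h1
  let φ : K →* Perm (Fin 126) := G.subtype.comp ((MulAut.conj g).toMonoidHom.comp K.subtype)
  have hφ : Function.Injective φ :=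
    G.subtype_injective.comp ((MulAut.conj g).injective.comp K.subtype_injective)
  have hQU : ∀ y ∈ (Q : Subgroup K), φ y ∈ U := by
    intro y hy
    have h1 : (MulAut.conj g) (y : G) ∈ ((g • P1 : Sylow 5 G) : Subgroup G) := by
      rw [Sylow.coe_subgroup_smul]
      exact Subgroup.smul_mem_pointwise_smul _ _ _ (hP1 ⟨y, hy, rfl⟩)
    rw [hg] at h1
    exact Subgroup.mem_subgroupOf.mp h1
  have hQc := Q.card_eq_multiplicity
  obtain ⟨v, hv, hvle⟩ : ∃ v, (Nat.card K).factorization 5 = v ∧ v ≤ 3 := by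
    refine ⟨_, rfl, ?_⟩
    rw [← hp]
    exact (Nat.factorization_le_iff_dvd Nat.card_pos.ne' Nat.card_pos.ne').mpr
      (Subgroup.card_subgroup_dvd_card K) 5
  rw [hv] at hQc
  let R : Subgroup U := ((Q : Subgroup K).map φ).subgroupOf U
  have hRle : (Q : Subgroup K).map φ ≤ U := by
    rintro _ ⟨y, hy, rfl⟩
    exact hQU y hy
  have hRc : Nat.card R = 5 ^ v := by
    rw [Nat.card_congr (Subgroup.subgroupOfEquivOfLe hRle).toEquiv,
      Subgroup.card_map_of_injective hφ, ← hQc]
  have hRH : R.map U.subtype ≤ H := by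
    rintro _ ⟨y, hy, rfl⟩
    obtain ⟨x, -, hxe⟩ := Subgroup.mem_subgroupOf.mp hy
    exact ⟨(MulAut.conj g) (x : G), ⟨(x : G), x.2, rfl⟩, hxe⟩
  have hdvd : 5 ^ v ∣ Nat.card K := hv ▸ Nat.ordProj_dvd _ 5
  have hnot : ¬ 5 ^ (v + 1) ∣ Nat.card K := by
    rw [Nat.Prime.pow_dvd_iff_le_factorization (by norm_num) Nat.card_pos.ne', hv]
    omega
  interval_cases v
  · -- index a multiple of 125
    have h1 : 125 ∣ K.index := by
      have h2 : 125 ∣ Nat.card K * K.index := by rw [hmul]; norm_num
      exact (Nat.Coprime.pow_left 3 ((Nat.Prime.coprime_iff_not_dvd (by norm_num : Nat.Prime 5)).mpr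
        (by simpa using hnot))).dvd_of_dvd_mul_left h2
    have := Nat.le_of_dvd hipos h1
    omega
  · -- index 25: the normaliser of a Sylow 7-subgroup is too large
    obtain ⟨a, ha⟩ : 5 ∣ Nat.card K := by simpa using hdvd
    have hidx : K.index = 25 := by
      have h2 : 25 ∣ a * K.index := ⟨1008, by rw [ha] at hmul; linarith⟩
      have h3 : Nat.Coprime 25 a := by
        refine Nat.Coprime.pow_left 2 ((Nat.Prime.coprime_iff_not_dvd (by norm_num : Nat.Prime 5)).mpr ?_)
        intro h5
        exact hnot (by rw [ha]; exact Nat.mul_dvd_mul_left 5 h5)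
      obtain ⟨b, hb⟩ := h3.dvd_of_dvd_mul_left h2
      rcases Nat.lt_or_ge b 2 with h | h
      · rcases Nat.lt_or_ge b 1 with h' | h'
        · obtain rfl : b = 0 := by omega
          omega
        · obtain rfl : b = 1 := by omega
          simpa using hb
      · omega
    exact seven_contra (by rw [hHc]; rw [hidx] at hmul; omega) hHG
  · exact htop (top_of_five_squared hHG hRH (by rw [hRc]; norm_num) (by rw [hHc]; omega))
  · refine htop (top_of_sylow hHG ?_ (by rw [hHc]; omega))
    intro y hy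
    have hR : R = ⊤ := Subgroup.eq_top_of_card_eq _ (by rw [hRc, card_U]; norm_num)
    exact hRH ⟨⟨y, hy⟩, hR ▸ Subgroup.mem_top _, rfl⟩

end Cfsg.Agent.Lib.Classical.U35
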