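import Cfsg.Agent.Lib.Classical.U35Index
import Cfsg.Agent.Lib.Classical.HermCard

/-!
`PSU₃(5)` is the certified group of degree 126.
-/

set_option autoImplicit false
set_option maxRecDepth 100000

namespace Cfsg.Agent.Lib.Classical.U35

open Cfsg.Agent.Lib.Compute Cfsg.Agent.Lib.Classical Matrix

theorem exists_index_fifty : ∃ K : Subgroup G, K.index = 50 := by
  refine ⟨(grp 126 hCert).subgroupOf G, ?_⟩
  have hle : grp 126 hCert ≤ G := wOk_le (L := hCert0) (rest := hCert.tail) gCert_ok h_mem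
  have h := ((grp 126 hCert).subgroupOf G).card_mul_index
  rw [Nat.card_congr (Subgroup.subgroupOfEquivOfLe hle).toEquiv, card_grp hCert_ok, orders.2.2,
    card_G] at h
  omega

/-- `F₂₅` as pairs `a + b j` with `j² = 2`. -/
abbrev Five := ZMod 5 × ZMod 5

def fmul (x y : Five) : Five := (x.1 * y.1 + 2 * (x.2 * y.2), x.1 * y.2 + x.2 * y.1)

def fbar (x : Five) : Five := (x.1, -x.2)

def dig (k : ℕ) : Five := (((k / 5 % 5 : ℕ) : ZMod 5), ((k % 5 : ℕ) : ZMod 5))

/-- Triples of elements. -/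
abbrev V5 := Five × Five × Five

def fdot (r c : V5) : Five := fmul r.1 c.1 + fmul r.2.1 c.2.1 + fmul r.2.2 c.2.2

def v3 (p : ℕ × ℕ × ℕ) : V5 := (dig p.1, dig p.2.1, dig p.2.2)

/-- The generator matrices, as rows. -/
def rows (k : ℕ) : V5 × V5 × V5 :=
  let m := gMat.getD k ((0, 0, 0), (0, 0, 0), (0, 0, 0))
  (v3 m.1, v3 m.2.1, v3 m.2.2)

def fdet (x : V5 × V5 × V5) : Five :=
  fmul (fmul x.1.1 x.2.1.2.1) x.2.2.2.2 - fmul (fmul x.1.1 x.2.1.2.2) x.2.2.2.1
    - fmul (fmul x.1.2.1 x.2.1.1) x.2.2.2.2 + fmul (fmul x.1.2.1 x.2.1.2.2) x.2.2.1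
    + fmul (fmul x.1.2.2 x.2.1.1) x.2.2.2.1 - fmul (fmul x.1.2.2 x.2.1.2.1) x.2.2.1

def col (x : V5 × V5 × V5) : ℕ → V5
  | 0 => (x.1.1, x.2.1.1, x.2.2.1)
  | 1 => (x.1.2.1, x.2.1.2.1, x.2.2.2.1)
  | _ => (x.1.2.2, x.2.1.2.2, x.2.2.2.2)

def vbar (v : V5) : V5 := (fbar v.1, fbar v.2.1, fbar v.2.2)

def pnt (k : ℕ) : V5 := v3 (ptList.getD k (0, 0, 0))

/-- The generator is special unitary and acts as packed. -/
def genMatOk (k : ℕ) : Bool :=
  let x := rows k
  decide (fdet x = (1, 0)) &&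
  ((List.range 3).all fun i => (List.range 3).all fun j =>
    decide (fdot (col x i) (vbar (col x j)) = if i = j then (1, 0) else (0, 0))) &&
  (List.range 126).all fun a =>
    let w : V5 := (fdot x.1 (pnt a), fdot x.2.1 (pnt a), fdot x.2.2 (pnt a))
    (List.range 25).any fun c =>
      let t := pnt (app (gCert0.gens.getD k (0, 0)).1 a)
      decide (dig c ≠ (0, 0)) && decide (w = (fmul (dig c) t.1, fmul (dig c) t.2.1, fmul (dig c) t.2.2))

theorem genMat_ok : (List.range gCert0.gens.length).all genMatOk = true := by decide +kernel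

/-- The representatives are normalised and distinct. -/
def ptOk : Bool :=
  decide ptList.Nodup && decide (ptList.length = 126) &&
    ptList.all fun p => decide (p.1 < 25) && decide (p.2.1 < 25) && decide (p.2.2 < 25) &&
      (decide (p.1 = 5) || (decide (p.1 = 0) && decide (p.2.1 = 5)))

theorem ptOk_eq : ptOk = true := by decide +kernel

theorem dig_inj : ∀ a < 25, ∀ b < 25, dig a = dig b → a = b := by decide +kernel

theorem five_norm_zero : ∀ a b : ZMod 5, a * a - 2 * (b * b) = 0 → a = 0 ∧ b = 0 := by decide +kernel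

theorem five_special : dig 5 = (1, 0) ∧ dig 0 = 0 := by decide +kernel

theorem psu_iso {F : Type*} [Field F] [Fintype F] (hF : Fintype.card F = 25) :
    Nonempty (Cfsg.PSU 3 F 5 ≃* G) := by
  classical
  have hF' : Fintype.card F = 5 ^ 2 := by rw [hF]; norm_num
  haveI : Fact (Nat.Prime 5) := ⟨by norm_num⟩
  haveI : CharP F 5 := by
    obtain ⟨c, hc⟩ := CharP.exists F
    obtain ⟨a, hcp, hca⟩ := FiniteField.card F c
    have h2 : c ∣ 5 ^ 2 := by rw [← hF', hca]; exact dvd_pow_self _ a.ne_zero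
    exact ((Nat.prime_dvd_prime_iff_eq hcp Fact.out).1 (hcp.dvd_of_dvd_pow h2)) ▸ hc
  let c : ZMod 5 →+* F := ZMod.castHom (dvd_refl 5) F
  have hci : Function.Injective c := ZMod.castHom_injective F
  obtain ⟨j, hj⟩ : IsSquare ((2 : F)) := by
    have h2 : (2 : F) ≠ 0 := fun h => by
      have := (CharP.cast_eq_zero_iff F 5 2).mp (by exact_mod_cast h)
      norm_num at this
    rw [FiniteField.isSquare_iff (by rw [ringChar.eq F 5]; norm_num) h2, hF]
    have h3 : ((2 ^ 12 : ℕ) : F) = ((1 : ℕ) : F) := (CharP.natCast_eq_natCast F 5).mpr (by decide)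
    norm_num at h3 ⊢
    exact h3
  let σ : Five → F := fun x => c x.1 + j * c x.2
  have hj2 : j * j = 2 := hj.symm
  have hc2 : c 2 = 2 := map_ofNat c 2
  have hσi : Function.Injective σ := by
    intro x y h
    have key : ∀ a b : ZMod 5, c a + j * c b = 0 → a = 0 ∧ b = 0 := by
      intro a b h
      refine five_norm_zero a b (hci ?_)
      rw [map_sub, map_mul, map_mul, map_mul, hc2, map_zero]
      linear_combination (c a - j * c b) * h + (c b * c b) * hj2
    obtain ⟨h1, h2⟩ := key (x.1 - y.1) (x.2 - y.2) (by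
      rw [map_sub, map_sub]; linear_combination h)
    exact Prod.ext (sub_eq_zero.1 h1) (sub_eq_zero.1 h2)
  have hσa : ∀ x y, σ (x + y) = σ x + σ y := fun x y => by
    simp only [σ, Prod.fst_add, Prod.snd_add, map_add]; ring
  have hσs : ∀ x y, σ (x - y) = σ x - σ y := fun x y => by
    simp only [σ, Prod.fst_sub, Prod.snd_sub, map_sub]; ring
  have hσm : ∀ x y, σ (fmul x y) = σ x * σ y := fun x y => by
    simp only [σ, fmul, map_add, map_mul, hc2]
    linear_combination (-(c x.2 * c y.2)) * hj2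
  have hσ0 : σ 0 = 0 := by simp [σ]
  have hσ1 : σ (1, 0) = 1 := by simp [σ]
  have hσc : ∀ x, σ x ^ 5 = σ (fbar x) := fun x => by
    simp only [σ, fbar, map_neg]
    rw [add_pow_char, mul_pow, ← map_pow, ← map_pow, ZMod.pow_card, ZMod.pow_card]
    have h4 : (4 : F) = -1 := by
      have h := (CharP.cast_eq_zero_iff F 5 5).mpr dvd_rfl
      push_cast at h
      linear_combination h
    linear_combination c x.2 * j * (j * j + 2) * hj2 + c x.2 * j * h4
  let vec : V5 → (Fin 3 → F) := fun v => ![σ v.1, σ v.2.1, σ v.2.2]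
  let pt : Fin 126 → Submodule F (Fin 3 → F) := fun k => Submodule.span F {vec (pnt k)}
  have hok := ptOk_eq
  simp only [ptOk, Bool.and_eq_true, decide_eq_true_eq, List.all_eq_true, Bool.or_eq_true] at hok
  obtain ⟨⟨hnd, hlen⟩, hnorm⟩ := hok
  have hpi : Function.Injective pt := by
    intro a b h
    have ha : (a : ℕ) < ptList.length := by rw [hlen]; exact a.isLt
    have hb : (b : ℕ) < ptList.length := by rw [hlen]; exact b.isLt
    obtain ⟨t, ht⟩ := Submodule.mem_span_singleton.mp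
      (show vec (pnt a) ∈ pt b from h ▸ Submodule.mem_span_singleton_self _)
    simp only [pnt, List.getD_eq_getElem _ _ ha, List.getD_eq_getElem _ _ hb, v3, vec] at ht
    obtain ⟨⟨⟨a1, a2⟩, a3⟩, hna⟩ := hnorm _ (List.getElem_mem ha)
    obtain ⟨⟨⟨b1, b2⟩, b3⟩, hnb⟩ := hnorm _ (List.getElem_mem hb)
    have e0 : t * σ (dig ptList[(b : ℕ)].1) = σ (dig ptList[(a : ℕ)].1) := by
      simpa using congrFun ht 0
    have e1 : t * σ (dig ptList[(b : ℕ)].2.1) = σ (dig ptList[(a : ℕ)].2.1) := by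
      simpa using congrFun ht 1
    have e2 : t * σ (dig ptList[(b : ℕ)].2.2) = σ (dig ptList[(a : ℕ)].2.2) := by
      simpa using congrFun ht 2
    have ht1 : t = 1 := by
      rcases hna with ha' | ⟨ha0, ha'⟩ <;> rcases hnb with hb' | ⟨hb0, hb'⟩
      · rw [ha', hb', five_special.1, hσ1, mul_one] at e0; exact e0
      · rw [ha', hb0, five_special.1, five_special.2, hσ0, hσ1, mul_zero] at e0
        exact absurd e0 zero_ne_one
      · rw [ha0, hb', five_special.1, five_special.2, hσ0, hσ1, mul_one] at e0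
        rw [ha', five_special.1, hσ1, e0, zero_mul] at e1
        exact absurd e1 zero_ne_one
      · rw [ha', hb', five_special.1, hσ1, mul_one] at e1; exact e1
    rw [ht1, one_mul] at e0 e1 e2
    refine Fin.ext ((hnd.getElem_inj_iff (hi := ha) (hj := hb)).mp (Prod.ext ?_ (Prod.ext ?_ ?_)))
    · exact dig_inj _ a1 _ b1 (hσi e0.symm)
    · exact dig_inj _ a2 _ b2 (hσi e1.symm)
    · exact dig_inj _ a3 _ b3 (hσi e2.symm)
  let T : Set (Submodule F (Fin 3 → F)) := Set.range pt
  let tm : Cfsg.SU 3 F 5 →* Matrix (Fin 3) (Fin 3) F :=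
    (Cfsg.slToMat 3 F).comp (Cfsg.SU 3 F 5).subtype
  let op : Cfsg.SU 3 F 5 → Submodule F (Fin 3 → F) → Submodule F (Fin 3 → F) := fun g W =>
    W.map (tm g).mulVecLin
  have hop : ∀ g h W, op (g * h) W = op g (op h W) := fun g h W => by
    simp only [op, map_mul, Matrix.mulVecLin_mul, Submodule.map_comp]
  have hop1 : ∀ W, op 1 W = W := fun W => by
    simp only [op, map_one, Matrix.mulVecLin_one, Submodule.map_id]
  let Gs : Subgroup (Cfsg.SU 3 F 5) :=
    { carrier := {g | (∀ W ∈ T, op g W ∈ T) ∧ ∀ W ∈ T, op g⁻¹ W ∈ T}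
      one_mem' := ⟨fun W hW => by rw [hop1]; exact hW, fun W hW => by rw [inv_one, hop1]; exact hW⟩
      mul_mem' := fun {x y} hx hy => ⟨fun W hW => by rw [hop]; exact hx.1 _ (hy.1 W hW),
        fun W hW => by rw [_root_.mul_inv_rev, hop]; exact hy.2 _ (hx.2 W hW)⟩
      inv_mem' := fun {x} hx => ⟨hx.2, fun W hW => by rw [inv_inv]; exact hx.1 W hW⟩ }
  let et : Fin 126 ≃ T := Equiv.ofInjective pt hpi
  let mT : Gs →* Equiv.Perm T :=
    { toFun := fun g =>
        { toFun := fun W => ⟨op g.1 W.1, g.2.1 W.1 W.2⟩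
          invFun := fun W => ⟨op g.1⁻¹ W.1, g.2.2 W.1 W.2⟩
          left_inv := fun W => Subtype.ext (by show op _ (op _ _) = _; rw [← hop, inv_mul_cancel, hop1])
          right_inv := fun W => Subtype.ext (by show op _ (op _ _) = _; rw [← hop, mul_inv_cancel, hop1]) }
      map_one' := Equiv.ext fun W => Subtype.ext (hop1 W.1)
      map_mul' := fun g h => Equiv.ext fun W => Subtype.ext (hop g.1 h.1 W.1) }
  let φ : Gs →* Equiv.Perm (Fin 126) := et.symm.permCongrHom.toMonoidHom.comp mT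
  have hφ : G ≤ φ.range := by
    refine (Subgroup.closure_le _).mpr ?_
    rintro _ ⟨g, hg, rfl⟩
    obtain ⟨k, hk, rfl⟩ := List.getElem_of_mem hg
    have hm := List.all_eq_true.mp genMat_ok k (List.mem_range.mpr hk)
    simp only [genMatOk, Bool.and_eq_true, decide_eq_true_eq, List.all_eq_true, List.mem_range,
      List.any_eq_true] at hm
    obtain ⟨⟨hd, hu⟩, hact⟩ := hm
    set x := rows k
    let X : Matrix (Fin 3) (Fin 3) F := !![σ x.1.1, σ x.1.2.1, σ x.1.2.2; σ x.2.1.1, σ x.2.1.2.1,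
      σ x.2.1.2.2; σ x.2.2.1, σ x.2.2.2.1, σ x.2.2.2.2]
    let M : Matrix.SpecialLinearGroup (Fin 3) F := ⟨X, by
      rw [← hσ1, ← hd]
      simp [X, fdet, Matrix.det_fin_three, hσa, hσs, hσm]⟩
    have hcol : ∀ a b : Fin 3, σ (fdot (col x a) (vbar (col x b))) = ∑ i, X i a * X i b ^ 5 := by
      intro a b
      fin_cases a <;> fin_cases b <;>
        simp [X, col, vbar, fdot, Fin.sum_univ_three, hσa, hσm, hσc]
    have hM : M ∈ Cfsg.SU 3 F 5 := (mem_SU_iff hF' M).2 (by
      ext a b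
      rw [Matrix.mul_apply, Matrix.one_apply]
      simp only [Matrix.transpose_apply, Matrix.map_apply, conjHom_apply]
      show ∑ i, X i a * X i b ^ 5 = _
      rw [← hcol, hu a a.isLt b b.isLt]
      by_cases hab : a = b
      · rw [if_pos hab, if_pos (congrArg Fin.val hab), hσ1]
      · rw [if_neg hab, if_neg (fun h => hab (Fin.ext h))]
        exact hσ0)
    have hgen : genOk 126 gCert0.gens[k] = true :=
      gens_ok (L := gCert0) (rest := gCert.tail) gCert_ok _ (List.getElem_mem hk)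
    set π := toPerm 126 gCert0.gens[k].1 with hπ
    have hmove : ∀ a : Fin 126, op ⟨M, hM⟩ (pt a) = pt (π a) := by
      intro a
      obtain ⟨t, -, htc⟩ := hact a a.isLt
      obtain ⟨ht0, ht⟩ := htc
      rw [List.getD_eq_getElem _ _ hk, ← repr_toPerm_of_genOk hgen a] at ht
      show (Submodule.span F {vec (pnt a)}).map (Matrix.mulVecLin X) = Submodule.span F {vec (pnt (π a))}
      rw [Submodule.map_span, Set.image_singleton]
      have he : Matrix.mulVecLin X (vec (pnt a)) = σ (dig t) • vec (pnt (π a)) := by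
        have h1 := congrArg vec ht
        funext i
        fin_cases i <;>
          simp [X, vec, Matrix.mulVec, dotProduct, Fin.sum_univ_three, fdot, hσa, hσm] at h1 ⊢ <;>
          [exact h1.1; exact h1.2.1; exact h1.2.2]
      rw [he, Submodule.span_singleton_smul_eq]
      exact isUnit_iff_ne_zero.mpr fun h => ht0 (hσi (h.trans hσ0.symm))
    have hMs : (⟨M, hM⟩ : Cfsg.SU 3 F 5) ∈ Gs := by
      refine ⟨?_, ?_⟩
      · rintro _ ⟨a, rfl⟩; exact ⟨_, (hmove a).symm⟩
      · rintro _ ⟨a, rfl⟩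
        refine ⟨π.symm a, ?_⟩
        have h1 := hmove (π.symm a)
        rw [Equiv.apply_symm_apply] at h1
        rw [← h1, ← hop, inv_mul_cancel, hop1]
    refine ⟨⟨_, hMs⟩, Equiv.ext fun a => et.injective (Subtype.ext ?_)⟩
    show (et (et.symm (mT ⟨_, hMs⟩ (et a)))).1 = pt (π a)
    rw [Equiv.apply_symm_apply]
    exact hmove a
  have hker : (Subgroup.center (Cfsg.SU 3 F 5)) ≤ Gs ∧
      ∀ z (hz : z ∈ Subgroup.center (Cfsg.SU 3 F 5)) (hzs : z ∈ Gs), φ ⟨z, hzs⟩ = 1 := by
    have hfix : ∀ z ∈ Subgroup.center (Cfsg.SU 3 F 5), ∀ W, op z W = W := by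
      intro z hz W
      have hs := SU_center_scalar hF' z hz 0
      set r := (z.1 : Matrix (Fin 3) (Fin 3) F) 0 0
      have hr : r ≠ 0 := by
        intro h0
        have hd := z.1.2
        rw [hs, h0, zero_smul, Matrix.det_zero] at hd
        exact zero_ne_one hd
      show W.map (Matrix.mulVecLin (z.1 : Matrix (Fin 3) (Fin 3) F)) = W
      rw [hs]
      ext v
      constructor
      · rintro ⟨w, hw, rfl⟩
        simpa [Matrix.smul_mulVec] using W.smul_mem r hw
      · intro hv
        exact ⟨r⁻¹ • v, W.smul_mem _ hv, by simp [Matrix.smul_mulVec, smul_smul, hr]⟩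
    refine ⟨fun z hz => ⟨fun W hW => by rw [hfix z hz]; exact hW,
      fun W hW => by rw [hfix z⁻¹ (inv_mem hz)]; exact hW⟩, fun z hz hzs => ?_⟩
    refine Equiv.ext fun a => et.injective (Subtype.ext ?_)
    show (et (et.symm (mT ⟨z, hzs⟩ (et a)))).1 = _
    rw [Equiv.apply_symm_apply]
    exact hfix z hz _
  -- counting
  have hSU : Nat.card (Cfsg.SU 3 F 5) = 378000 := by
    have h1 := card_SU (q := 5) hF' (n := 3) (by norm_num)
    rw [card_GU hF'] at h1
    norm_num [Finset.prod_range_succ, Nat.even_add_one] at h1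
    rw [Nat.card_eq_fintype_card]
    omega
  have hZ : Nat.card (Subgroup.center (Cfsg.SU 3 F 5)) = 3 := by
    rw [card_center_SU hF' (by norm_num)]; norm_num
  let Z : Subgroup Gs := (Subgroup.center (Cfsg.SU 3 F 5)).subgroupOf Gs
  have hZk : Z ≤ φ.ker := fun z hz => MonoidHom.mem_ker.mpr (hker.2 z.1 hz z.2)
  have hZc : Nat.card Z = 3 := by rw [Nat.card_congr (Subgroup.subgroupOfEquivOfLe hker.1).toEquiv, hZ]
  have hk3 : 3 ≤ Nat.card φ.ker := le_of_eq_of_le hZc.symm (Subgroup.card_le_of_le hZk)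
  have hr126 : 126000 ≤ Nat.card φ.range := card_G ▸ Subgroup.card_le_of_le hφ
  have hmul : Nat.card φ.range * Nat.card φ.ker = Nat.card Gs := by
    rw [← Subgroup.index_ker, mul_comm, Subgroup.card_mul_index]
  have hGs : Nat.card Gs ≤ 378000 := hSU ▸ Subgroup.card_le_card_group Gs
  have hprod := Nat.mul_le_mul hr126 hk3
  have hkle : Nat.card φ.ker = 3 := by
    by_contra h
    have h4 := Nat.mul_le_mul hr126 (show 4 ≤ Nat.card φ.ker by omega)
    omega
  have hrange : φ.range = G := (Subgroup.eq_of_le_of_card_ge hφ (by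
    rw [hkle] at hmul; rw [card_G]; omega)).symm
  have hGtop : Gs = ⊤ := Subgroup.eq_top_of_card_eq _ (le_antisymm (Subgroup.card_le_card_group Gs)
    (by omega))
  let e0 : Cfsg.SU 3 F 5 ≃* Gs := Subgroup.topEquiv.symm.trans (MulEquiv.subgroupCongr hGtop.symm)
  let ψ : Cfsg.SU 3 F 5 →* G :=
    (MulEquiv.subgroupCongr hrange).toMonoidHom.comp (φ.rangeRestrict.comp e0.toMonoidHom)
  have hψs : Function.Surjective ψ := (MulEquiv.subgroupCongr hrange).surjective.comp
    (φ.rangeRestrict_surjective.comp e0.surjective)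
  have hψk : ψ.ker = Subgroup.center (Cfsg.SU 3 F 5) := by
    refine (Subgroup.eq_of_le_of_card_ge ?_ ?_).symm
    · intro z hz
      refine MonoidHom.mem_ker.mpr (Subtype.ext ?_)
      exact hker.2 z hz (hker.1 hz)
    · have h := ψ.ker.card_mul_index
      rw [Subgroup.index_ker, MonoidHom.range_eq_top.mpr hψs, Subgroup.card_top, card_G, hSU] at h
      omega
  exact ⟨(QuotientGroup.quotientMulEquivOfEq hψk.symm).trans
    (QuotientGroup.quotientKerEquivOfSurjective ψ hψs)⟩

end Cfsg.Agent.Lib.Classical.U35
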