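import Cfsg.Agent.Lib.Classical.OrthLow
import Cfsg.Agent.Lib.Classical.POmegaCard

/-!
The exterior square of the natural module of dimension four, as alternating matrices with the Pfaffian.
-/

set_option autoImplicit false

namespace Cfsg.Agent.Lib.Classical

open Matrix

variable {R : Type*} [CommRing R]

/-- The alternating matrix with given coordinates. -/
def altFour (v : Fin 3 ⊕ Fin 3 → R) : Matrix (Fin 4) (Fin 4) R :=
  !![0, v (.inl 0), v (.inl 1), v (.inl 2);
    -v (.inl 0), 0, v (.inr 2), -v (.inr 1);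
    -v (.inl 1), -v (.inr 2), 0, v (.inr 0);
    -v (.inl 2), v (.inr 1), -v (.inr 0), 0]

/-- The coordinates of a matrix. -/
def altCoord (M : Matrix (Fin 4) (Fin 4) R) : Fin 3 ⊕ Fin 3 → R :=
  Sum.elim ![M 0 1, M 0 2, M 0 3] ![M 2 3, -M 1 3, M 1 2]

theorem altCoord_altFour (v : Fin 3 ⊕ Fin 3 → R) : altCoord (altFour v) = v := by
  funext k
  rcases k with k | k <;> fin_cases k <;> simp [altCoord, altFour]

theorem altFour_add (u v : Fin 3 ⊕ Fin 3 → R) : altFour (u + v) = altFour u + altFour v := by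
  ext i j
  fin_cases i <;> fin_cases j <;> simp [altFour] <;> ring

theorem altFour_smul (c : R) (v : Fin 3 ⊕ Fin 3 → R) : altFour (c • v) = c • altFour v := by
  ext i j
  fin_cases i <;> fin_cases j <;> simp [altFour]

theorem altCoord_add (M N : Matrix (Fin 4) (Fin 4) R) : altCoord (M + N) = altCoord M + altCoord N := by
  funext k
  rcases k with k | k <;> fin_cases k <;> simp [altCoord] <;> ring

theorem altCoord_smul (c : R) (M : Matrix (Fin 4) (Fin 4) R) : altCoord (c • M) = c • altCoord M := by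
  funext k
  rcases k with k | k <;> fin_cases k <;> simp [altCoord]

theorem altFour_conj (g : Matrix (Fin 4) (Fin 4) R) (v : Fin 3 ⊕ Fin 3 → R) :
    altFour (altCoord (g * altFour v * gᵀ)) = g * altFour v * gᵀ := by
  ext i j
  fin_cases i <;> fin_cases j <;>
    simp [altFour, altCoord, Matrix.mul_apply, Fin.sum_univ_four] <;> ring

/-- The action on the exterior square. -/
def wedgeLin (g : Matrix (Fin 4) (Fin 4) R) : Module.End R (Fin 3 ⊕ Fin 3 → R) where
  toFun v := altCoord (g * altFour v * gᵀ)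
  map_add' u v := by rw [altFour_add, Matrix.mul_add, Matrix.add_mul, altCoord_add]
  map_smul' c v := by rw [altFour_smul, Matrix.mul_smul, Matrix.smul_mul, altCoord_smul]; rfl

theorem altFour_wedgeLin (g : Matrix (Fin 4) (Fin 4) R) (v : Fin 3 ⊕ Fin 3 → R) :
    altFour (wedgeLin g v) = g * altFour v * gᵀ := altFour_conj g v

theorem wedgeLin_one : wedgeLin (1 : Matrix (Fin 4) (Fin 4) R) = 1 :=
  LinearMap.ext fun v => by
    show altCoord (1 * altFour v * 1ᵀ) = v
    rw [one_mul, Matrix.transpose_one, mul_one, altCoord_altFour]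

theorem wedgeLin_mul (g h : Matrix (Fin 4) (Fin 4) R) : wedgeLin (g * h) = wedgeLin g * wedgeLin h :=
  LinearMap.ext fun v => by
    show altCoord (g * h * altFour v * (g * h)ᵀ) = altCoord (g * altFour (wedgeLin h v) * gᵀ)
    rw [altFour_wedgeLin, Matrix.transpose_mul]
    simp only [mul_assoc]

/-- The representation. -/
def wedgeHom : Matrix (Fin 4) (Fin 4) R →* Module.End R (Fin 3 ⊕ Fin 3 → R) where
  toFun := wedgeLin
  map_one' := wedgeLin_one
  map_mul' := wedgeLin_mul

theorem det_fin_four (g : Matrix (Fin 4) (Fin 4) R) :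
    g.det = (g 0 0 * g 1 1 - g 0 1 * g 1 0) * (g 2 2 * g 3 3 - g 2 3 * g 3 2)
      - (g 0 0 * g 1 2 - g 0 2 * g 1 0) * (g 2 1 * g 3 3 - g 2 3 * g 3 1)
      + (g 0 0 * g 1 3 - g 0 3 * g 1 0) * (g 2 1 * g 3 2 - g 2 2 * g 3 1)
      + (g 0 1 * g 1 2 - g 0 2 * g 1 1) * (g 2 0 * g 3 3 - g 2 3 * g 3 0)
      - (g 0 1 * g 1 3 - g 0 3 * g 1 1) * (g 2 0 * g 3 2 - g 2 2 * g 3 0)
      + (g 0 2 * g 1 3 - g 0 3 * g 1 2) * (g 2 0 * g 3 1 - g 2 1 * g 3 0) := by
  rw [Matrix.det_succ_row_zero, Fin.sum_univ_four]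
  simp [Matrix.det_fin_three, Fin.succAbove, Fin.lt_def]
  ring

theorem wedgeLin_eq (g : Matrix (Fin 4) (Fin 4) R) (v : Fin 3 ⊕ Fin 3 → R) :
    wedgeLin g v =
      (fun p : (Fin 4 → Fin 4 → R) => Sum.elim ![p 0 1, p 0 2, p 0 3] ![p 2 3, -p 1 3, p 1 2])
      fun i j =>
      (g i 0 * g j 1 - g j 0 * g i 1) * v (.inl 0) + (g i 0 * g j 2 - g j 0 * g i 2) * v (.inl 1) +
      (g i 0 * g j 3 - g j 0 * g i 3) * v (.inl 2) + (g i 2 * g j 3 - g j 2 * g i 3) * v (.inr 0) -
      (g i 1 * g j 3 - g j 1 * g i 3) * v (.inr 1) + (g i 1 * g j 2 - g j 1 * g i 2) * v (.inr 2) := by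
  funext k
  show altCoord (g * altFour v * gᵀ) k = _
  rcases k with k | k <;> fin_cases k <;>
    simp [altCoord, altFour, Matrix.mul_apply, Fin.sum_univ_four] <;> ring

end Cfsg.Agent.Lib.Classical

namespace Cfsg.Agent.Lib.Classical

open Matrix

variable {F : Type*} [Field F]

set_option maxHeartbeats 1600000 in
/-- The Pfaffian is multiplied by the determinant. -/
theorem quadFormPlus_wedgeLin (g : Matrix (Fin 4) (Fin 4) F) (v : Fin 3 ⊕ Fin 3 → F) :
    Cfsg.quadFormPlus 3 F (wedgeLin g v) = g.det * Cfsg.quadFormPlus 3 F v := by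
  rw [wedgeLin_eq, det_fin_four]
  simp only [Cfsg.quadFormPlus, Fin.sum_univ_three, Sum.elim_inl, Sum.elim_inr, Matrix.cons_val_zero,
    Matrix.cons_val_one, Matrix.cons_val]
  ring

/-- The kernel consists of the scalars `±1`. -/
theorem eq_scalar_of_wedgeLin_eq_one (g : Matrix (Fin 4) (Fin 4) F) (h : ∀ v, wedgeLin g v = v) :
    ∃ c : F, c ^ 2 = 1 ∧ g = c • 1 := by
  have hA : ∀ v, g * altFour v * gᵀ = altFour v := fun v => by rw [← altFour_wedgeLin, h]
  have key : ∀ a b : Fin 4, a < b → ∀ i j : Fin 4,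
      g i a * g j b - g j a * g i b =
        (if i = a ∧ j = b then 1 else 0) - (if i = b ∧ j = a then 1 else 0) := by
    intro a b hab i j
    have hv : ∃ v, altFour v = Matrix.single a b (1 : F) - Matrix.single b a 1 := by
      refine ⟨altCoord (Matrix.single a b 1 - Matrix.single b a 1), ?_⟩
      ext x y
      fin_cases a <;> fin_cases b <;> simp_all <;> fin_cases x <;> fin_cases y <;>
        simp [altFour, altCoord, Matrix.single_apply]
    obtain ⟨v, hv⟩ := hv
    have e := congrFun (congrFun (hA v) i) j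
    rw [hv, Matrix.mul_sub, Matrix.sub_mul, Matrix.sub_apply, Matrix.sub_apply] at e
    have hs : ∀ a b : Fin 4, (g * Matrix.single a b (1 : F) * gᵀ) i j = g i a * g j b := fun a b => by
      simp [Matrix.mul_apply, Matrix.single_apply, ite_and]
    rw [hs, hs, Matrix.single_apply, Matrix.single_apply] at e
    simp only [@eq_comm _ a i, @eq_comm _ b j, @eq_comm _ b i, @eq_comm _ a j] at e
    linear_combination e
  have minor : ∀ a b : Fin 4, a ≠ b → ∀ i j : Fin 4,
      g i a * g j b - g j a * g i b =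
        (if i = a ∧ j = b then 1 else 0) - (if i = b ∧ j = a then 1 else 0) := by
    intro a b hab i j
    rcases lt_or_gt_of_ne hab with h1 | h1
    · exact key a b h1 i j
    · linear_combination (-1 : F) * key b a h1 i j
  have off : ∀ a k : Fin 4, k ≠ a → g k a = 0 := by
    intro a k hka
    obtain ⟨b, hba, hbk⟩ : ∃ b : Fin 4, b ≠ a ∧ b ≠ k := by revert a k; decide
    have h1 := minor a b hba.symm k a
    have h2 := minor a b hba.symm k b
    have h3 := minor a b hba.symm a b
    simp [hka, hbk, hbk.symm, hba, hba.symm] at h1 h2 h3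
    linear_combination (g a a) * h2 - (g b a) * h1 - (g k a) * h3
  have dd : ∀ a b : Fin 4, a ≠ b → g a a * g b b = 1 := fun a b hab => by
    have h := minor a b hab a b
    simp [hab, hab.symm, off a b hab.symm] at h
    exact h
  have hne : ∀ a : Fin 4, g a a ≠ 0 := fun a h => by
    obtain ⟨b, hb⟩ : ∃ b : Fin 4, a ≠ b := ⟨a + 1, by clear h; revert a; decide⟩
    simpa [h] using dd a b hb
  have eq0 : ∀ a : Fin 4, g a a = g 0 0 := fun a => by
    obtain ⟨b, hb1, hb2⟩ : ∃ b : Fin 4, a ≠ b ∧ 0 ≠ b := by revert a; decide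
    exact mul_right_cancel₀ (hne b) ((dd a b hb1).trans (dd 0 b hb2).symm)
  refine ⟨g 0 0, ?_, ?_⟩
  · rw [sq]
    have := dd 0 1 (by decide)
    rwa [eq0 1] at this
  · ext i j
    by_cases hij : i = j
    · subst hij; simp [eq0 i]
    · simp [off j i hij, hij]

end Cfsg.Agent.Lib.Classical
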